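import Cfsg.Agent.H578.Sys

/-!
# From irreducible to completely reducible actions (helper578)
-/

set_option autoImplicit false

universe u w

namespace Cfsg.Agent.H578

/-- restriction of an action to an invariant subgroup -/
def restr {A : Type w} [Group A] {V : Type u} [AddCommGroup V] (φ : A →* AU V)
    (U : AddSubgroup V) (hU : ∀ a, ∀ u ∈ U, (φ a).1 u ∈ U) : A →* AU U :=
  MonoidHom.toHomUnits
    { toFun := fun a => (AddMonoidHom.comp (φ a).1 U.subtype).codRestrict U
        (fun x => hU a x x.2)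
      map_one' := by
        apply AddMonoidHom.ext
        intro x
        apply Subtype.ext
        change (φ 1).1 (x : V) = x
        rw [map_one]; rfl
      map_mul' := fun a b => by
        apply AddMonoidHom.ext
        intro x
        apply Subtype.ext
        change (φ (a * b)).1 (x : V) = (φ a).1 ((φ b).1 (x : V))
        rw [map_mul]; rfl }

theorem restr_apply {A : Type w} [Group A] {V : Type u} [AddCommGroup V] (φ : A →* AU V)
    (U : AddSubgroup V) (hU : ∀ a, ∀ u ∈ U, (φ a).1 u ∈ U) (a : A) (x : U) :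
    (((restr φ U hU a).1 x : U) : V) = (φ a).1 x := rfl

/-- complete reducibility -/
def CRed {A : Type w} [Group A] {V : Type u} [AddCommGroup V] (φ : A →* AU V) : Prop :=
  ∀ U : AddSubgroup V, (∀ a, ∀ u ∈ U, (φ a).1 u ∈ U) →
    ∃ W : AddSubgroup V, (∀ a, ∀ w ∈ W, (φ a).1 w ∈ W) ∧ U ⊓ W = ⊥ ∧ U ⊔ W = ⊤

theorem CRed.restr {A : Type w} [Group A] {V : Type u} [AddCommGroup V] {φ : A →* AU V}
    (h : CRed φ) (W : AddSubgroup V) (hW : ∀ a, ∀ u ∈ W, (φ a).1 u ∈ W) :
    CRed (restr φ W hW) := by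
  intro U hU
  -- the image in `V`
  let U' : AddSubgroup V := U.map W.subtype
  have hU' : ∀ a, ∀ u ∈ U', (φ a).1 u ∈ U' := by
    rintro a _ ⟨u, hu, rfl⟩
    exact ⟨_, hU a u hu, rfl⟩
  obtain ⟨C, hC, h1, h2⟩ := h U' hU'
  refine ⟨C.comap W.subtype, fun a w hw => hC a _ hw, ?_, ?_⟩
  · rw [eq_bot_iff]
    rintro x ⟨hxU, hxC⟩
    have h3 : (x : V) ∈ U' ⊓ C := ⟨⟨x, hxU, rfl⟩, hxC⟩
    rw [h1] at h3
    exact Subtype.ext h3
  · rw [eq_top_iff]
    intro x _
    have h3 : (x : V) ∈ U' ⊔ C := by rw [h2]; trivial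
    obtain ⟨y, ⟨y', hy', rfl⟩, z, hz, hyz⟩ := AddSubgroup.mem_sup.mp h3
    have hzW : z ∈ W := by
      have h4 : z = (x : V) - (y' : V) := by
        rw [← hyz]; simp
      rw [h4]
      exact W.sub_mem x.2 y'.2
    rw [AddSubgroup.mem_sup]
    exact ⟨y', hy', ⟨z, hzW⟩, hz, Subtype.ext hyz⟩

theorem cr_base (ι : Type) {A : Type w} [Group A]
    (hirr : ∀ (W : Type u) [AddCommGroup W] [Finite W] [Nontrivial W] (φ : A →* AU W),
      Irr φ.range → HasBase ι φ.range) (n : ℕ) :
    ∀ (V : Type u) [AddCommGroup V] [Finite V] (φ : A →* AU V), Nat.card V = n → CRed φ →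
      ∃ v : ι → V, ∀ a : A, (∀ i, (φ a).1 (v i) = v i) → φ a = 1 := by
  induction n using Nat.strong_induction_on with
  | _ n ih =>
  intro V _ _ φ hn hcr
  classical
  by_cases htriv : Subsingleton V
  · exact ⟨fun _ => 0, fun a _ => au_ext fun x => Subsingleton.elim _ _⟩
  rw [not_subsingleton_iff_nontrivial] at htriv
  -- a minimal invariant subgroup
  obtain ⟨U, ⟨hUinv, hU0⟩, hUmin⟩ := Set.Finite.exists_minimal
    (s := {U : AddSubgroup V | (∀ a, ∀ u ∈ U, (φ a).1 u ∈ U) ∧ U ≠ ⊥}) (Set.toFinite _)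
    ⟨⊤, fun _ _ _ => trivial, fun h => by
      obtain ⟨x, hx⟩ := exists_ne (0 : V)
      have : x ∈ (⊤ : AddSubgroup V) := trivial
      rw [h] at this
      exact hx this⟩
  obtain ⟨W, hWinv, hUW, hUW'⟩ := hcr U hUinv
  have hUirr : Irr (restr φ U hUinv).range := by
    intro Y hY
    by_cases hY0 : Y = ⊥
    · exact Or.inl hY0
    right
    have h1 : U ≤ Y.map U.subtype := by
      refine hUmin ⟨?_, ?_⟩ ?_
      · rintro a _ ⟨u, hu, rfl⟩
        exact ⟨_, hY _ ⟨a, rfl⟩ u hu, rfl⟩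
      · intro h
        apply hY0
        rw [eq_bot_iff]
        intro y hy
        have h2 : (y : V) ∈ Y.map U.subtype := ⟨y, hy, rfl⟩
        rw [h] at h2
        exact Subtype.ext h2
      · rintro _ ⟨u, _, rfl⟩
        exact u.2
    rw [eq_top_iff]
    intro y _
    obtain ⟨y', hy', h2⟩ := h1 y.2
    have : y' = y := Subtype.ext h2
    rw [← this]; exact hy'
  have hUnt : Nontrivial U := (AddSubgroup.nontrivial_iff_ne_bot U).mpr hU0
  obtain ⟨x, hx⟩ := hirr U (restr φ U hUinv) hUirr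
  have hWlt : Nat.card W < n := by
    rw [← hn]
    refine lt_of_le_of_ne (Nat.card_le_card_of_injective _ Subtype.val_injective) fun h => ?_
    have hWtop : W = ⊤ := AddSubgroup.eq_top_of_card_eq _ h
    rw [hWtop, inf_top_eq] at hUW
    exact hU0 hUW
  obtain ⟨y, hy⟩ := ih _ hWlt W (restr φ W hWinv) rfl (hcr.restr W hWinv)
  refine ⟨fun i => (x i : V) + (y i : V), fun a ha => ?_⟩
  have key : ∀ i, (φ a).1 (x i : V) = x i ∧ (φ a).1 (y i : V) = y i := by
    intro i
    have h1 := ha i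
    rw [map_add] at h1
    have h2 : (φ a).1 (x i : V) - x i = y i - (φ a).1 (y i : V) := by
      rw [sub_eq_sub_iff_add_eq_add, h1, add_comm]
    have h3 : (φ a).1 (x i : V) - x i ∈ U ⊓ W := by
      refine ⟨U.sub_mem (hUinv a _ (x i).2) (x i).2, ?_⟩
      change (φ a).1 (x i : V) - x i ∈ W
      rw [h2]
      exact W.sub_mem (y i).2 (hWinv a _ (y i).2)
    rw [hUW, AddSubgroup.mem_bot] at h3
    refine ⟨sub_eq_zero.mp h3, ?_⟩
    rw [h3] at h2
    exact (sub_eq_zero.mp h2.symm).symm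
  have h1 : restr φ U hUinv a = 1 :=
    hx _ ⟨a, rfl⟩ fun i => Subtype.ext (key i).1
  have h2 : restr φ W hWinv a = 1 := hy a fun i => Subtype.ext (key i).2
  apply au_ext
  intro z
  have h3 : z ∈ U ⊔ W := by rw [hUW']; trivial
  obtain ⟨p, hp, q, hq, rfl⟩ := AddSubgroup.mem_sup.mp h3
  have h4 : (φ a).1 p = p := by
    rw [← restr_apply φ U hUinv a ⟨p, hp⟩, h1]; rfl
  have h5 : (φ a).1 q = q := by
    rw [← restr_apply φ W hWinv a ⟨q, hq⟩, h2]; rfl
  rw [map_add, h4, h5]; rfl

/-- the homomorphism attached to a distributive action -/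
def actHom (A : Type w) [Group A] (V : Type u) [AddCommGroup V] [DistribMulAction A V] :
    A →* AU V := (DistribMulAction.toAddMonoidEnd A V).toHomUnits

theorem actHom_apply (A : Type w) [Group A] (V : Type u) [AddCommGroup V]
    [DistribMulAction A V] (a : A) (x : V) : (actHom A V a).1 x = a • x := rfl

theorem actHom_eq_one (A : Type w) [Group A] (V : Type u) [AddCommGroup V]
    [DistribMulAction A V] [FaithfulSMul A V] {a : A} (h : actHom A V a = 1) : a = 1 := by
  apply FaithfulSMul.eq_of_smul_eq_smul (α := V)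
  intro x
  rw [← actHom_apply, h, one_smul]; rfl

end Cfsg.Agent.H578
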