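import Cfsg.Agent.H578.Sys
import Cfsg.Agent.H578.PermCol

/-!
# Bases of imprimitive linear groups (helper578)

`induct`: reduction of the existence of a base from irreducible to primitive groups.
-/

set_option autoImplicit false

universe u

namespace Cfsg.Agent.H578

variable {V : Type u} [AddCommGroup V]

/-- a tuple with trivial stabiliser -/
def Reg {ι : Type*} (H : Subgroup (AU V)) (y : ι → V) : Prop :=
  ∀ h ∈ H, (∀ i, h.1 (y i) = y i) → h = 1

section Restrict

variable (G : Subgroup (AU V)) (e : AddMonoid.End V)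

/-- the stabiliser of an endomorphism -/
def stab : Subgroup (AU V) where
  carrier := {g | g ∈ G ∧ cj g e = e}
  one_mem' := ⟨G.one_mem, cj_one e⟩
  mul_mem' := fun {a b} ha hb => ⟨G.mul_mem ha.1 hb.1, by rw [← cj_cj, hb.2, ha.2]⟩
  inv_mem' := fun {a} ha => ⟨G.inv_mem ha.1, by
    have h := cj_inv_cj a e
    rwa [ha.2] at h⟩

theorem mem_stab {g : AU V} : g ∈ stab G e ↔ g ∈ G ∧ cj g e = e := Iff.rfl

theorem stab_le : stab G e ≤ G := fun _ h => h.1

theorem stab_range {g : AU V} (hg : g ∈ stab G e) {x : V} (hx : x ∈ e.range) :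
    g.1 x ∈ e.range := by
  obtain ⟨y, rfl⟩ := hx
  have h := cj_apply' g e y
  rw [hg.2] at h
  exact ⟨g.1 y, h⟩

/-- restriction to the range -/
def resEnd : stab G e →* AddMonoid.End e.range where
  toFun g := (AddMonoidHom.comp g.1.1 e.range.subtype).codRestrict e.range
    (fun x => stab_range G e g.2 x.2)
  map_one' := rfl
  map_mul' _ _ := rfl

/-- restriction to the range, as an automorphism -/
def res : stab G e →* AU e.range := (resEnd G e).toHomUnits

theorem res_apply (g : stab G e) (x : e.range) : (((res G e g).1 x : e.range) : V) = g.1.1 x :=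
  rfl

/-- the group induced on the range -/
def ind : Subgroup (AU e.range) := (res G e).range

theorem ind_solvable [Group.IsSolvable G] : Group.IsSolvable (ind G e) := by
  have h1 : Group.IsSolvable (stab G e) :=
    Group.isSolvable_of_isSolvable_injective (f := Subgroup.inclusion (stab_le G e))
      (Subgroup.inclusion_injective _)
  exact Group.isSolvable_of_surjective (f := (res G e).rangeRestrict)
    (res G e).rangeRestrict_surjective

theorem card_ind_dvd [Finite G] : Nat.card (ind G e) ∣ Nat.card G := by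
  have h1 : Nat.card (ind G e) ∣ Nat.card (stab G e) := Subgroup.card_range_dvd (res G e)
  exact h1.trans (Subgroup.card_dvd_of_le (stab_le G e))

end Restrict

variable {G : Subgroup (AU V)} {S : Finset (AddMonoid.End V)}

theorem ind_irr (hS : IsSys G S) (hirr : Irr G) {e : AddMonoid.End V} (he : e ∈ S) :
    Irr (ind G e) := by
  intro U hU
  -- the subgroup generated by the translates of `U`
  let T : Set V := {x | ∃ g ∈ G, ∃ u ∈ U, x = g.1 (u : e.range)}
  let W : AddSubgroup V := AddSubgroup.closure T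
  have hW : ∀ g ∈ G, ∀ w ∈ W, g.1 w ∈ W := by
    intro g hg w hw
    induction hw using AddSubgroup.closure_induction with
    | mem x hx =>
      obtain ⟨k, hk, u, hu, rfl⟩ := hx
      exact AddSubgroup.subset_closure ⟨g * k, G.mul_mem hg hk, u, hu, rfl⟩
    | zero => rw [map_zero]; exact W.zero_mem
    | add x y _ _ hx hy => rw [map_add]; exact W.add_mem hx hy
    | neg x _ hx => rw [map_neg]; exact W.neg_mem hx
  have hfix : ∀ x : e.range, e x = x := by
    rintro ⟨_, y, rfl⟩
    exact DFunLike.congr_fun (hS.idem he) y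
  -- the projection of `W`
  have hproj : ∀ w ∈ W, ∃ u ∈ U, e w = (u : e.range) := by
    intro w hw
    induction hw using AddSubgroup.closure_induction with
    | mem x hx =>
      obtain ⟨k, hk, u, hu, rfl⟩ := hx
      by_cases hke : cj k e = e
      · refine ⟨(res G e ⟨k, hk, hke⟩).1 u, hU _ ⟨⟨k, hk, hke⟩, rfl⟩ u hu, ?_⟩
        rw [res_apply]
        change e (k.1 (u : V)) = k.1 (u : V)
        have := cj_apply' k e (u : V)
        rw [hke, hfix] at this
        exact this
      · refine ⟨0, U.zero_mem, ?_⟩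
        have h1 := hS.orth e he _ (hS.conj k hk e he) (fun h => hke h.symm)
        have h2 : k.1 (u : V) = cj k e (k.1 (u : V)) := by
          rw [cj_apply', hfix]
        rw [h2]
        exact DFunLike.congr_fun h1 _
    | zero => exact ⟨0, U.zero_mem, by rw [map_zero]; rfl⟩
    | add x y _ _ hx hy =>
      obtain ⟨a, ha, ha'⟩ := hx
      obtain ⟨b, hb, hb'⟩ := hy
      exact ⟨a + b, U.add_mem ha hb, by rw [map_add, ha', hb']; rfl⟩
    | neg x _ hx =>
      obtain ⟨a, ha, ha'⟩ := hx
      exact ⟨-a, U.neg_mem ha, by rw [map_neg, ha']; rfl⟩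
  rcases hirr W hW with h | h
  · left
    rw [eq_bot_iff]
    intro u hu
    have h1 : (u : V) ∈ W := AddSubgroup.subset_closure ⟨1, G.one_mem, u, hu, rfl⟩
    rw [h, AddSubgroup.mem_bot] at h1
    exact Subtype.ext h1
  · right
    rw [eq_top_iff]
    intro x _
    obtain ⟨u, hu, hu'⟩ := hproj x (by rw [h]; trivial)
    rw [hfix] at hu'
    rw [Subtype.ext hu']; exact hu

/-- **Gluing**: a rigid colouring of the blocks gives a base. -/
theorem glue (hS : IsSys G S) (hirr : Irr G) {C ι : Type*} (κ : S → C)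
    (hκ : let _ := hS.act
      ∀ g : G, (∀ e : S, κ (g • e) = κ e) → ∀ e : S, g • e = e)
    {e0 : AddMonoid.End V} (he0 : e0 ∈ S) (x : C → ι → e0.range)
    (hreg : ∀ c, Reg (ind G e0) (x c))
    (hdist : ∀ c c', ∀ h ∈ ind G e0, (∀ i, h.1 (x c i) = x c' i) → c = c') :
    HasBase ι G := by
  classical
  choose h hhG hhe using fun e : S => hS.trans hirr he0 e.2
  have hfix : ∀ x : e0.range, e0 x = x := by
    rintro ⟨_, y, rfl⟩
    exact DFunLike.congr_fun (hS.idem he0) y
  let comp : S → ι → V := fun e i => (h e).1 (x (κ e) i : e0.range)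
  have hcomp : ∀ e i, e.1 (comp e i) = comp e i := by
    intro e i
    have h1 := cj_apply' (h e) e0 (x (κ e) i : V)
    rw [hhe, hfix] at h1
    exact h1
  refine ⟨fun i => ∑ e ∈ S.attach, comp e i, fun g hg hgv => ?_⟩
  -- the components of the vectors
  have hcv : ∀ (e : S) (i : ι), e.1 (∑ f ∈ S.attach, comp f i) = comp e i := by
    intro e i
    rw [map_sum, Finset.sum_eq_single e]
    · exact hcomp e i
    · intro f _ hfe
      rw [← hcomp f i]
      have h1 := hS.orth e.1 e.2 f.1 f.2 (fun h => hfe (Subtype.ext h.symm))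
      exact DFunLike.congr_fun h1 _
    · intro hne; exact absurd (Finset.mem_attach _ _) hne
  let ge : S → S := fun e => ⟨cj g e.1, hS.conj g hg e.1 e.2⟩
  have hgc : ∀ (e : S) (i : ι), g.1 (comp e i) = comp (ge e) i := by
    intro e i
    rw [← hcv e i, ← cj_apply' g e.1, hgv i]
    exact hcv (ge e) i
  -- the transported element of the stabiliser of `e0`
  have hst : ∀ e : S, (h (ge e))⁻¹ * g * h e ∈ stab G e0 := by
    intro e
    refine ⟨G.mul_mem (G.mul_mem (G.inv_mem (hhG _)) hg) (hhG _), ?_⟩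
    rw [← cj_cj, ← cj_cj, hhe]
    have h1 : cj g e.1 = cj (h (ge e)) e0 := (hhe (ge e)).symm
    rw [h1, cj_inv_cj]
  have hmap : ∀ (e : S) (i : ι), (res G e0 ⟨_, hst e⟩).1 (x (κ e) i) = x (κ (ge e)) i := by
    intro e i
    apply Subtype.ext
    rw [res_apply]
    change ((h (ge e))⁻¹).1 (g.1 ((h e).1 (x (κ e) i : V))) = _
    have h1 : g.1 ((h e).1 (x (κ e) i : V)) = (h (ge e)).1 (x (κ (ge e)) i : V) := hgc e i
    rw [h1, au_inv_apply]
  have hcol : ∀ e : S, κ (ge e) = κ e := fun e =>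
    (hdist _ _ _ ⟨⟨_, hst e⟩, rfl⟩ (hmap e)).symm
  have htriv : ∀ e : S, ge e = e := hκ ⟨g, hg⟩ hcol
  apply au_ext
  intro v
  rw [← hS.sum_apply v, map_sum, map_sum]
  refine Finset.sum_congr rfl (fun e he => ?_)
  change g.1 (e v) = e v
  let e' : S := ⟨e, he⟩
  have h1 : res G e0 ⟨_, hst e'⟩ = 1 := by
    refine hreg (κ e') _ ⟨⟨_, hst e'⟩, rfl⟩ (fun i => ?_)
    rw [hmap, hcol]
  -- `e v` is in the range of `e = h e0 h⁻¹`
  have h2 : e v = (h e').1 (e0 (((h e')⁻¹).1 v)) := by
    have h3 : cj (h e') e0 = e := hhe e'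
    rw [← cj_apply, h3]
  have h4 : ((h (ge e'))⁻¹ * g * h e').1 (e0 (((h e')⁻¹).1 v)) = e0 (((h e')⁻¹).1 v) := by
    have h5 := res_apply G e0 ⟨_, hst e'⟩ ⟨e0 (((h e')⁻¹).1 v), ⟨_, rfl⟩⟩
    rw [h1] at h5
    exact h5.symm
  rw [htriv e'] at h4
  have h6 : ((h e')⁻¹).1 (g.1 ((h e').1 (e0 (((h e')⁻¹).1 v)))) = e0 (((h e')⁻¹).1 v) := h4
  rw [h2]
  conv_rhs => rw [← h6, au_apply_inv]

/-- **Reduction to primitive groups.** -/
theorem induct (ι : Type) (Q : ℕ → ℕ → Prop)
    (hQ : ∀ a b c d, a ∣ c → b ∣ d → Q c d → Q a b) (k : ℕ)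
    (hreg : ∀ (W : Type u) [AddCommGroup W] [Finite W] [Nontrivial W] (H : Subgroup (AU W)),
      Group.IsSolvable H → Q (Nat.card H) (Nat.card W) → Irr H → HasBase ι H →
      ∃ x : Fin k → ι → W, (∀ c, Reg H (x c)) ∧
        ∀ c c', ∀ h ∈ H, (∀ i, h.1 (x c i) = x c' i) → c = c')
    (hcol : ∀ (G Ω : Type u) [Group G] [Finite G] [Group.IsSolvable G] [MulAction G Ω] (m : ℕ),
      Q (Nat.card G) m → MulAction.IsPreprimitive G Ω →
      ∃ κ : Ω → Fin k, ∀ g : G, (∀ ω, κ (g • ω) = κ ω) → ∀ ω : Ω, g • ω = ω)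
    (hprim : ∀ (V : Type u) [AddCommGroup V] [Finite V] [Nontrivial V] (G : Subgroup (AU V)),
      Group.IsSolvable G → Q (Nat.card G) (Nat.card V) → Irr G → Prim G → HasBase ι G) (n : ℕ) :
    ∀ (V : Type u) [AddCommGroup V] [Finite V] [Nontrivial V] (G : Subgroup (AU V)),
      Nat.card V = n → Group.IsSolvable G → Q (Nat.card G) (Nat.card V) → Irr G →
      HasBase ι G := by
  induction n using Nat.strong_induction_on with
  | _ n ih =>
  intro V _ _ _ G hVn hG hQG hirr
  classical
  by_cases hp : Prim G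
  · exact hprim V G hG hQG hirr hp
  unfold Prim at hp
  push Not at hp
  have hfinE : Finite (AddMonoid.End V) := DFunLike.finite _
  have hfinA : Finite (AU V) := inferInstance
  -- a minimal nontrivial system
  obtain ⟨S, ⟨hS, hS1⟩, hSmin⟩ := WellFounded.has_min
    (InvImage.wf (fun S : Finset (AddMonoid.End V) => S.card) Nat.lt_wfRel.wf)
    {S : Finset (AddMonoid.End V) | IsSys G S ∧ 1 < S.card} hp
  have hpp := hS.preprim hirr (fun S' hS' hS'1 => by
    by_contra hlt
    exact hSmin S' ⟨hS', hS'1⟩ (not_le.mp hlt))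
  let _ := hS.act
  obtain ⟨κ, hκ⟩ := hcol G S (Nat.card V) hQG hpp
  obtain ⟨e0, he0⟩ : S.Nonempty := Finset.card_pos.mp (by omega)
  have hdvdV : Nat.card e0.range ∣ Nat.card V := AddSubgroup.card_addSubgroup_dvd_card _
  have hnt : Nontrivial e0.range := by
    rw [AddSubgroup.nontrivial_iff_ne_bot]
    intro h
    apply hS.ne e0 he0
    exact AddMonoidHom.range_eq_bot_iff.mp h
  have hlt : Nat.card e0.range < n := by
    rw [← hVn]
    refine lt_of_le_of_ne (Nat.le_of_dvd Nat.card_pos hdvdV) (fun h => ?_)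
    have htop : e0.range = ⊤ := AddSubgroup.eq_top_of_card_eq _ h
    -- then `e0 = 1` and there is only one block
    obtain ⟨e1, he1, hne⟩ := Finset.exists_mem_ne hS1 e0
    apply hS.ne e1 he1
    apply AddMonoidHom.ext
    intro x
    have hx : x ∈ e0.range := by rw [htop]; trivial
    obtain ⟨y, rfl⟩ := hx
    exact DFunLike.congr_fun (hS.orth e1 he1 e0 he0 hne) y
  have hsol : Group.IsSolvable (ind G e0) := ind_solvable G e0
  have hQ' : Q (Nat.card (ind G e0)) (Nat.card e0.range) :=
    hQ _ _ _ _ (card_ind_dvd G e0) hdvdV hQG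
  have hirr' := ind_irr hS hirr he0
  have hb := ih _ hlt e0.range (ind G e0) rfl hsol hQ' hirr'
  obtain ⟨x, hx1, hx2⟩ := hreg e0.range (ind G e0) hsol hQ' hirr' hb
  exact glue hS hirr κ hκ he0 x hx1 hx2

end Cfsg.Agent.H578
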