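import Cfsg.Agent.H578.QF5

/-!
# Bases of size two for primitive coprime solvable linear groups (helper578)
-/

set_option autoImplicit false
set_option linter.unusedSectionVars false

universe u

namespace Cfsg.Agent.H578

variable {V : Type u} [AddCommGroup V]

namespace Dat

variable {G : Subgroup (AU V)} [Nontrivial V] [Finite V]

/-- **Primitive coprime solvable linear groups have bases of size two.** -/
theorem prim2 (D : Dat G) (hcop : (Nat.card G).Coprime (Nat.card V)) : HasBase (Fin 2) G := by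
  have hprime : ∀ p : ℕ, p.Prime → ∀ v : V, v ≠ 0 → p • v = 0 → (Nat.card G).Coprime p := by
    intro p hp v hv hpv
    have : Fact p.Prime := ⟨hp⟩
    have h1 := addOrderOf_eq_prime hpv hv
    refine Nat.Coprime.coprime_dvd_right ?_ hcop
    rw [← h1]
    exact addOrderOf_dvd_natCard v
  obtain ⟨v, hv⟩ := exists_ne (0 : V)
  by_cases htwo : (1 : AU V) = -1
  · apply D.prim2odd
    have h1 : v = -v := congrArg (fun g : AU V => g.1 v) htwo
    have h2 : (2 : ℕ) • v = 0 := by
      rw [two_nsmul]; nth_rewrite 1 [h1]; exact neg_add_cancel v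
    have h3 := hprime 2 Nat.prime_two v hv h2
    exact Nat.coprime_two_right.mp h3
  by_cases hx : ∃ x ∈ D.E, (x ^ 2).1 ∉ D.K
  · exact prim2_odd hx htwo
  push Not at hx
  obtain ⟨θ, hθ, hgen⟩ := D.isF.gen
  by_cases h8 : θ ^ 8 = 1
  swap
  · exact prim2_big hx hcop hθ hgen h8
  have hchar := D.isF.char_of_order hθ hgen
  have hfact2 : Fact (Nat.Prime 2) := ⟨Nat.prime_two⟩
  by_cases h4 : θ ^ 4 = 1
  · by_cases h2 : θ ^ 2 = 1
    · -- `q = 3`
      have h1 : θ ≠ 1 := by
        intro h1
        obtain ⟨n, hn⟩ := hgen (-1) (D.K.neg_mem D.K.one_mem)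
        rw [h1, one_pow] at hn
        exact htwo hn.symm
      have hord : orderOf θ = 2 := orderOf_eq_prime h2 h1
      rw [hord] at hchar
      have h3 : ∀ x : V, x + x = -x := by
        intro x
        have e1 : ((2 + 1 : ℕ) : AddMonoid.End V) x = 0 := by rw [hchar]; rfl
        rw [AddMonoid.End.natCast_apply, succ_nsmul, two_nsmul] at e1
        exact eq_neg_of_add_eq_zero_left e1
      have hK : ∀ c : AU V, c.1 ∈ D.K → c = 1 ∨ c = -1 := by
        intro c hc
        obtain ⟨n, rfl⟩ := hgen c hc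
        have h5 : (θ ^ n) * (θ ^ n) = 1 := by
          rw [← pow_add, ← two_mul, pow_mul, h2, one_pow]
        rcases D.isF.sq_eq_one hc (congrArg Units.val h5) with h | h
        · left; exact Units.ext h
        · right; exact Units.ext h
      refine D.prim2_three (hprime 3 Nat.prime_three v hv ?_) h3 hK hx
      rw [succ_nsmul, two_nsmul, h3, neg_add_cancel]
    · -- `q = 5`
      have hord : orderOf θ = 2 ^ (1 + 1) := orderOf_eq_prime_pow (by simpa using h2)
        (by simpa using h4)
      have hord' : orderOf θ = 4 := by rw [hord]; norm_num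
      rw [hord'] at hchar
      have five : ∀ x : V, (5 : ℕ) • x = 0 := by
        intro x
        have e1 : ((4 + 1 : ℕ) : AddMonoid.End V) x = 0 := by rw [hchar]; rfl
        rw [AddMonoid.End.natCast_apply] at e1
        exact e1
      have hθ2 : θ ^ 2 = -1 := by
        have h5 : (θ ^ 2) * (θ ^ 2) = 1 := by rw [← pow_add, h4]
        have hK2 := D.isF.units.pow_mem (x := θ) hθ 2
        rcases D.isF.sq_eq_one hK2 (congrArg Units.val h5) with h | h
        · exact absurd (Units.ext h) h2
        · exact Units.ext h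
      have h5 : (θ.1 - 2) * (θ.1 + 2) = 0 := by
        have e1 : θ.1 * θ.1 = -1 := by
          rw [← pow_two, ← Units.val_pow_eq_pow_val, hθ2]; rfl
        have e2 : (θ.1 - 2) * (θ.1 + 2) = θ.1 * θ.1 - 4 := by
          have e3 : (2 : AddMonoid.End V) * 2 = 4 := by norm_num
          rw [sub_mul, mul_add, mul_add, mul_two θ.1, two_mul θ.1, e3]; abel
        rw [e2, e1]
        have e3 : ((4 + 1 : ℕ) : AddMonoid.End V) = 5 := by norm_num
        rw [e3] at hchar
        have : (-1 : AddMonoid.End V) - 4 = -5 := by norm_num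
        rw [this, hchar, neg_zero]
      have hint0 : ∀ n : ℕ, ∃ m : Fin 5, ∀ x : V, (n : AddMonoid.End V) x = (m : ℕ) • x := by
        intro n
        refine ⟨⟨n % 5, Nat.mod_lt _ (by norm_num)⟩, fun x => ?_⟩
        rw [AddMonoid.End.natCast_apply]
        conv_lhs => rw [← Nat.div_add_mod n 5]
        rw [add_nsmul, mul_nsmul, five, nsmul_zero, zero_add]
      have hθn : ∃ n : ℕ, θ.1 = (n : AddMonoid.End V) := by
        have h2K : (2 : AddMonoid.End V) ∈ D.K := by
          have : (2 : AddMonoid.End V) = 1 + 1 := by norm_num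
          rw [this]; exact D.K.add_mem D.K.one_mem D.K.one_mem
        rcases D.isF.mul_eq_zero (D.K.sub_mem hθ h2K) h5 with h | h
        · exact ⟨2, by rw [sub_eq_zero.mp h]; norm_num⟩
        · refine ⟨3, ?_⟩
          have e1 : θ.1 = -2 := eq_neg_of_add_eq_zero_left h
          have e3 : ((4 + 1 : ℕ) : AddMonoid.End V) = 5 := by norm_num
          rw [e3] at hchar
          rw [e1]
          have : (-2 : AddMonoid.End V) = 3 - 5 := by norm_num
          rw [this, hchar, sub_zero]; norm_num
      obtain ⟨n, hn⟩ := hθn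
      refine prim2_five hx five fun a ha => ?_
      by_cases ha0 : a = 0
      · exact ⟨0, fun x => by rw [ha0]; exact (zero_nsmul x).symm⟩
      · obtain ⟨k, hk⟩ := D.isF.exists_unit ha ha0
        have hk' : k.1 = a := hk
        obtain ⟨j, rfl⟩ := hgen k (by rw [hk']; exact ha)
        obtain ⟨m, hm⟩ := hint0 (n ^ j)
        refine ⟨m, fun x => ?_⟩
        rw [← hm, ← hk', Units.val_pow_eq_pow_val, hn, Nat.cast_pow]
  · -- `q = 9`
    have hord : orderOf θ = 2 ^ (2 + 1) := orderOf_eq_prime_pow (by simpa using h4)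
      (by simpa using h8)
    have hord' : orderOf θ = 8 := by rw [hord]; norm_num
    rw [hord'] at hchar
    have h3K : (3 : AddMonoid.End V) ∈ D.K := by
      have : (3 : AddMonoid.End V) = 1 + 1 + 1 := by norm_num
      rw [this]
      exact D.K.add_mem (D.K.add_mem D.K.one_mem D.K.one_mem) D.K.one_mem
    have three : (3 : AddMonoid.End V) = 0 := by
      have e1 : (3 : AddMonoid.End V) * 3 = 0 := by
        have e3 : ((8 + 1 : ℕ) : AddMonoid.End V) = 9 := by norm_num
        rw [e3] at hchar
        have : (3 : AddMonoid.End V) * 3 = 9 := by norm_num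
        rw [this, hchar]
      rcases D.isF.mul_eq_zero h3K e1 with h | h <;> exact h
    have hθ4 : θ ^ 4 = -1 := by
      have h5 : (θ ^ 4) * (θ ^ 4) = 1 := by rw [← pow_add, h8]
      have hK4 := D.isF.units.pow_mem (x := θ) hθ 4
      rcases D.isF.sq_eq_one hK4 (congrArg Units.val h5) with h | h
      · exact absurd (Units.ext h) h4
      · exact Units.ext h
    have hN : (Nat.card G).Coprime 3 := by
      refine hprime 3 Nat.prime_three v hv ?_
      have e1 : (3 : AddMonoid.End V) v = 0 := by rw [three]; rfl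
      have e2 : ((3 : ℕ) : AddMonoid.End V) = 3 := by norm_num
      rw [← e2, AddMonoid.End.natCast_apply] at e1
      exact e1
    have e4 : (θ.1 * θ.1) * (θ.1 * θ.1) = -1 := by
      have : θ ^ 4 = (θ * θ) * (θ * θ) := by
        rw [show 4 = 2 + 2 from rfl, pow_add, pow_two]
      rw [this] at hθ4
      exact congrArg Units.val hθ4
    have h5 : (θ.1 * θ.1 - 1 - θ.1) * (θ.1 * θ.1 - 1 + θ.1) = 0 := by
      have e2 : (θ.1 * θ.1 - 1 - θ.1) * (θ.1 * θ.1 - 1 + θ.1) =
          (θ.1 * θ.1) * (θ.1 * θ.1) - 3 * (θ.1 * θ.1) + 1 := by noncomm_ring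
      rw [e2, e4, three, zero_mul, sub_zero, neg_add_cancel]
    have hθθK : θ.1 * θ.1 - 1 ∈ D.K := D.K.sub_mem (D.K.mul_mem hθ hθ) D.K.one_mem
    rcases D.isF.mul_eq_zero (D.K.sub_mem hθθK hθ) h5 with h | h
    · -- replace `θ` by `-θ`
      have hnK : (-θ).1 ∈ D.K := D.K.neg_mem hθ
      have h6 : (-θ) ^ 5 = θ := by
        have : (5 : ℕ) = 2 * 2 + 1 := by norm_num
        rw [this, pow_succ, pow_mul, neg_sq, ← pow_mul, hθ4, neg_one_mul, neg_neg]
      refine prim2_nine hx hN hnK (fun k hk => ?_) three ?_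
      · obtain ⟨n, rfl⟩ := hgen k hk
        exact ⟨5 * n, by rw [pow_mul, h6]⟩
      · have e5 : θ.1 * θ.1 = 1 + θ.1 := by
          have := sub_eq_zero.mp h
          rw [sub_eq_iff_eq_add] at this
          rw [this, add_comm]
        change (-θ.1) * (-θ.1) = 1 - (-θ.1)
        rw [neg_mul_neg, e5, sub_neg_eq_add]
    · refine prim2_nine hx hN hθ hgen three ?_
      have e6 : θ.1 * θ.1 - 1 = -θ.1 := eq_neg_of_add_eq_zero_left h
      rw [sub_eq_iff_eq_add] at e6
      rw [e6, sub_eq_add_neg, add_comm]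

end Dat

end Cfsg.Agent.H578
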