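import Cfsg.Agent.H578.DeltaB
import Cfsg.Agent.H578.Prim2
import Cfsg.Agent.H578.Base2Odd

/-!
# Bases of size two for irreducible coprime solvable linear groups (helper578)
-/

set_option autoImplicit false

universe u w

namespace Cfsg.Agent.H578

open MulAction

theorem irr_prime {V : Type u} [AddCommGroup V] [Finite V] [Nontrivial V] {G : Subgroup (AU V)}
    (hirr : Irr G) : ∃ p : ℕ, p.Prime ∧ ∀ x : V, p • x = 0 := by
  obtain ⟨x, hx⟩ := exists_ne (0 : V)
  have h1 : addOrderOf x ≠ 1 := by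
    rw [Ne, AddMonoid.addOrderOf_eq_one_iff]; exact hx
  obtain ⟨p, hp, hpx⟩ := Nat.exists_prime_and_dvd h1
  refine ⟨p, hp, ?_⟩
  let U : AddSubgroup V :=
    { carrier := {x | p • x = 0}
      zero_mem' := nsmul_zero p
      add_mem' := fun {a b} ha hb => by
        change p • (a + b) = 0
        rw [nsmul_add, ha, hb, add_zero]
      neg_mem' := fun {a} ha => by
        change p • (-a) = 0
        rw [smul_neg, ha, neg_zero] }
  have hU : ∀ g ∈ G, ∀ u ∈ U, g.1 u ∈ U := by
    intro g _ u hu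
    change p • g.1 u = 0
    rw [← map_nsmul, hu, map_zero]
  rcases hirr U hU with h | h
  · exfalso
    obtain ⟨k, hk⟩ := hpx
    have hpos : 0 < addOrderOf x := addOrderOf_pos x
    have h2 : k • x ∈ U := by
      change p • (k • x) = 0
      rw [← mul_nsmul', ← hk]
      exact addOrderOf_nsmul_eq_zero x
    rw [h, AddSubgroup.mem_bot] at h2
    have h3 := addOrderOf_dvd_of_nsmul_eq_zero h2
    have hk0 : 0 < k := by
      rcases Nat.eq_zero_or_pos k with h0 | h0
      · rw [h0, mul_zero] at hk; omega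
      · exact h0
    have h4 := Nat.le_of_dvd hk0 h3
    rw [hk] at h4
    have := hp.two_le
    nlinarith
  · intro x
    have : x ∈ U := by rw [h]; trivial
    exact this

/-- rigid sets for solvable irreducible groups of order prime to three -/
theorem delta3 {V : Type u} [AddCommGroup V] [Finite V] [Nontrivial V] (H : Subgroup (AU V))
    (hsol : Group.IsSolvable H) (hirr : Irr H) (hH : (Nat.card H).Coprime 3)
    (hV : (Nat.card V).Coprime 3) :
    ∃ Δ : Set V, 0 ∉ Δ ∧ ∀ g ∈ H, (∀ x ∈ Δ, g.1 x ∈ Δ) → g = 1 := by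
  obtain ⟨r, hr, hrV⟩ := irr_prime hirr
  have hb := irr3 H hsol hirr
  by_cases h2 : r = 2
  · subst h2
    refine Del2.delta2 (fun x => by rw [← two_nsmul]; exact hrV x) H (fun g hg hg3 => ?_) hb
    have h4 := card_pow_eq_one hg
    have h5 : orderOf g ∣ Nat.gcd (Nat.card H) 3 :=
      Nat.dvd_gcd (orderOf_dvd_of_pow_eq_one h4) (orderOf_dvd_of_pow_eq_one hg3)
    rw [hH] at h5
    exact orderOf_eq_one_iff.mp (Nat.dvd_one.mp h5)
  · have h3 : r ≠ 3 := by
      rintro rfl
      obtain ⟨x, hx⟩ := exists_ne (0 : V)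
      have : Fact (Nat.Prime 3) := ⟨hr⟩
      have h1 := addOrderOf_eq_prime (hrV x) hx
      have h2 : addOrderOf x ∣ Nat.card V := addOrderOf_dvd_natCard x
      rw [h1] at h2
      have h3 := Nat.dvd_gcd h2 (dvd_refl 3)
      rw [hV] at h3
      omega
    have h5 : 5 ≤ r := by
      have := hr.two_le
      by_contra hlt
      have h4 : r = 4 := by omega
      rw [h4] at hr
      exact absurd hr (by norm_num)
    exact delta5 hr h5 hrV H hb

end Cfsg.Agent.H578

namespace Cfsg.Agent.H578.PermCol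

open MulAction
open Cfsg.Agent.SolvableStructure.MinimalNormal
open Cfsg.Agent.SolvableStructure.PrimitiveSolvable

/-- reduction to faithful actions -/
theorem prim_reduce {G : Type u} {Ω : Type w} [Group G] [Finite G] [Group.IsSolvable G]
    [MulAction G Ω] (hprim : IsPreprimitive G Ω) {C : Type*} [Nonempty C] (Q : ℕ → Prop)
    (hQ : ∀ a b, a ∣ b → Q b → Q a) (hQG : Q (Nat.card G))
    (hf : ∀ (S : Type u) [Group S] [Finite S] [Group.IsSolvable S] [MulAction S Ω]
      [FaithfulSMul S Ω], IsPreprimitive S Ω → Nontrivial S → Q (Nat.card S) →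
      ∃ κ : Ω → C, ∀ g : S, (∀ ω, κ (g • ω) = κ ω) → g = 1) :
    ∃ κ : Ω → C, ∀ g : G, (∀ ω, κ (g • ω) = κ ω) → ∀ ω : Ω, g • ω = ω := by
  classical
  -- the faithful quotient
  let N : Subgroup G := (toPermHom G Ω).ker
  have hN : ∀ g, g ∈ N ↔ ∀ ω : Ω, g • ω = ω := by
    intro g
    rw [MonoidHom.mem_ker, Equiv.Perm.ext_iff]
    rfl
  let act : MulAction (G ⧸ N) Ω :=
    { smul := fun s ω => QuotientGroup.lift N (toPermHom G Ω) (fun g hg => hg) s ω
      one_smul := fun ω => by
        change QuotientGroup.lift N (toPermHom G Ω) _ 1 ω = ω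
        rw [map_one]; rfl
      mul_smul := fun a b ω => by
        change QuotientGroup.lift N (toPermHom G Ω) _ (a * b) ω = _
        rw [map_mul]; rfl }
  have hsm : ∀ (g : G) (ω : Ω), ((g : G ⧸ N)) • ω = g • ω := fun g ω => rfl
  have hfaith : FaithfulSMul (G ⧸ N) Ω := by
    refine ⟨fun {a b} hab => ?_⟩
    obtain ⟨a, rfl⟩ := QuotientGroup.mk_surjective a
    obtain ⟨b, rfl⟩ := QuotientGroup.mk_surjective b
    rw [QuotientGroup.eq, hN]
    intro ω
    have h1 := hab ω
    rw [hsm, hsm] at h1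
    rw [mul_smul, ← h1, inv_smul_smul]
  have hprim' : IsPreprimitive (G ⧸ N) Ω := by
    let f : Ω →ₑ[(QuotientGroup.mk : G → G ⧸ N)] Ω :=
      { toFun := id
        map_smul' := fun g ω => rfl }
    exact IsPreprimitive.of_surjective (f := f) (fun ω => ⟨ω, rfl⟩)
  have hsol : Group.IsSolvable (G ⧸ N) := inferInstance
  by_cases hnt : Nontrivial (G ⧸ N)
  · obtain ⟨κ, hκ⟩ := hf (G ⧸ N) hprim' hnt
      (hQ _ _ (Subgroup.card_quotient_dvd_card N) hQG)
    refine ⟨κ, fun g hg ω => ?_⟩
    have h1 := hκ (g : G ⧸ N) (fun ω => hg ω)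
    rw [← hsm, h1, one_smul]
  · rw [not_nontrivial_iff_subsingleton] at hnt
    refine ⟨fun _ => Classical.arbitrary C, fun g _ ω => ?_⟩
    have h1 : (g : G ⧸ N) = 1 := Subsingleton.elim _ _
    rw [← hsm, h1, one_smul]

theorem prim_faithful3 {S : Type u} {Ω : Type w} [Group S] [Finite S] [Group.IsSolvable S]
    [MulAction S Ω] [FaithfulSMul S Ω] (hprim : IsPreprimitive S Ω) (hS : Nontrivial S)
    (h3 : (Nat.card S).Coprime 3) :
    ∃ κ : Ω → Fin 3, ∀ g : S, (∀ ω, κ (g • ω) = κ ω) → g = 1 := by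
  classical
  rcases isEmpty_or_nonempty Ω with hΩ | ⟨⟨ω0⟩⟩
  · exact ⟨fun _ => 0, fun g _ => FaithfulSMul.eq_of_smul_eq_smul (α := Ω) fun ω => hΩ.elim ω⟩
  -- a minimal normal subgroup
  obtain ⟨M, ⟨hMn, hM⟩, hmin⟩ := Set.Finite.exists_minimal
    (s := {M : Subgroup S | M.Normal ∧ M ≠ ⊥}) (Set.toFinite _) ⟨⊤, inferInstance, top_ne_bot⟩
  have hmin' : ∀ K : Subgroup S, K.Normal → K ≤ M → K = ⊥ ∨ K = M := by
    intro K hK hKM
    by_cases h : K = ⊥
    · exact Or.inl h
    · exact Or.inr (le_antisymm hKM (hmin ⟨hK, h⟩ hKM))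
  have htrans := isPretransitive_of_normal hprim M hM
  have hcomm := comm_of_minimal_normal M hM hmin'
  have hstab := stabilizer_eq_bot_of_comm (Ω := Ω) M hcomm ω0
  let _ : CommGroup M :=
    { (inferInstance : Group M) with
      mul_comm := fun a b => Subtype.ext (hcomm a a.2 b b.2) }
  -- the bijection `M → Ω`
  have hinj : ∀ a b : M, a • ω0 = b • ω0 → a = b := by
    intro a b hab
    have : b⁻¹ * a ∈ stabilizer M ω0 := by
      rw [mem_stabilizer_iff, mul_smul, hab, inv_smul_smul]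
    rw [hstab, Subgroup.mem_bot] at this
    exact (inv_mul_eq_one.mp this).symm
  choose f hf using fun ω : Ω => MulAction.exists_smul_eq M ω0 ω
  have hff : ∀ m : M, f (m • ω0) = m := fun m => hinj _ _ (hf (m • ω0))
  -- the point stabiliser acting on `M`
  let φ : stabilizer S ω0 →* AU (Additive M) := MonoidHom.toHomUnits
    { toFun := fun g => MonoidHom.toAdditive (MulAut.conjNormal g.1 : M ≃* M).toMonoidHom
      map_one' := by
        apply AddMonoidHom.ext
        intro x
        change Additive.ofMul ((MulAut.conjNormal (1 : S) : M ≃* M) (Additive.toMul x)) = x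
        rw [map_one]; rfl
      map_mul' := fun a b => by
        apply AddMonoidHom.ext
        intro x
        change Additive.ofMul ((MulAut.conjNormal (a.1 * b.1) : M ≃* M) (Additive.toMul x)) = _
        rw [map_mul]; rfl }
  have hφ : ∀ (g : stabilizer S ω0) (x : Additive M),
      ((Additive.toMul ((φ g).1 x) : M) : S) = g.1 * (Additive.toMul x : M) * (g.1)⁻¹ := by
    intro g x
    exact MulAut.conjNormal_apply g.1 (Additive.toMul x)
  have hsol : Group.IsSolvable φ.range :=
    Group.isSolvable_of_surjective (f := φ.rangeRestrict) φ.rangeRestrict_surjective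
  have hirr : Irr φ.range := by
    intro U hU
    let U' : Subgroup S := (AddSubgroup.toSubgroup' U).map M.subtype
    have hU' : U'.Normal := by
      refine ⟨?_⟩
      rintro _ ⟨m, hm, rfl⟩ g
      -- write `g = t p`
      obtain ⟨t, ht⟩ := MulAction.exists_smul_eq M ω0 (g • ω0)
      have hp : (t : S)⁻¹ * g ∈ stabilizer S ω0 := by
        rw [mem_stabilizer_iff, mul_smul, ← ht]
        change (t : S)⁻¹ • ((t : S) • ω0) = ω0
        rw [inv_smul_smul]
      have h1 := hU _ ⟨⟨_, hp⟩, rfl⟩ (Additive.ofMul m) hm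
      refine ⟨Additive.toMul ((φ ⟨_, hp⟩).1 (Additive.ofMul m)), h1, ?_⟩
      change ((Additive.toMul ((φ ⟨_, hp⟩).1 (Additive.ofMul m)) : M) : S) = g * (m : S) * g⁻¹
      have h2 := hφ ⟨_, hp⟩ (Additive.ofMul m)
      have h3 := hcomm t t.2 _ (Additive.toMul ((φ ⟨_, hp⟩).1 (Additive.ofMul m))).2
      have h4 : ((Additive.toMul ((φ ⟨_, hp⟩).1 (Additive.ofMul m)) : M) : S) =
          t * ((Additive.toMul ((φ ⟨_, hp⟩).1 (Additive.ofMul m)) : M) : S) * (t : S)⁻¹ := by
        rw [h3, mul_inv_cancel_right]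
      rw [h4, h2]
      change (t : S) * ((t : S)⁻¹ * g * (m : S) * ((t : S)⁻¹ * g)⁻¹) * (t : S)⁻¹ = _
      group
    rcases hmin' U' hU' (by rintro _ ⟨m, _, rfl⟩; exact m.2) with h | h
    · left
      rw [eq_bot_iff]
      intro x hx
      have h1 : ((Additive.toMul x : M) : S) ∈ U' := ⟨Additive.toMul x, hx, rfl⟩
      rw [h, Subgroup.mem_bot] at h1
      have h2 : (Additive.toMul x : M) = 1 := Subtype.ext h1
      exact h2
    · right
      rw [eq_top_iff]
      intro x _
      have h1 : ((Additive.toMul x : M) : S) ∈ U' := by rw [h]; exact (Additive.toMul x).2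
      obtain ⟨y, hy, hyx⟩ := h1
      have : y = Additive.toMul x := Subtype.ext hyx
      rw [this] at hy
      exact hy
  have hnt : Nontrivial (Additive M) := by
    have h1 : Nontrivial M := (Subgroup.nontrivial_iff_ne_bot M).mpr hM
    exact inferInstance
  have hcH : (Nat.card φ.range).Coprime 3 :=
    Nat.Coprime.coprime_dvd_left ((Subgroup.card_range_dvd φ).trans
      (Subgroup.card_subgroup_dvd_card _)) h3
  have hcV : (Nat.card (Additive M)).Coprime 3 :=
    Nat.Coprime.coprime_dvd_left (Subgroup.card_subgroup_dvd_card M) h3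
  obtain ⟨Δ, hΔ0, hΔ⟩ := delta3 φ.range hsol hirr hcH hcV
  refine ⟨fun ω => if f ω = 1 then 0 else if Additive.ofMul (f ω) ∈ Δ then 1 else 2,
    fun g hg => ?_⟩
  have hf1 : f ω0 = 1 := by
    have := hff 1
    rwa [one_smul] at this
  have hg0 : g • ω0 = ω0 := by
    have h := hg ω0
    have h4 : f (g • ω0) = 1 := by
      by_contra hne
      simp only [if_neg hne, if_pos hf1] at h
      split_ifs at h
      all_goals exact absurd h (by decide)
    have h5 := hf (g • ω0)
    rw [h4, one_smul] at h5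
    exact h5.symm
  let p : stabilizer S ω0 := ⟨g, hg0⟩
  have hact : ∀ m : M, f (g • (m • ω0)) = Additive.toMul ((φ p).1 (Additive.ofMul m)) := by
    intro m
    rw [← hff (Additive.toMul ((φ p).1 (Additive.ofMul m)))]
    congr 1
    change g • ((m : S) • ω0) =
      ((Additive.toMul ((φ p).1 (Additive.ofMul m)) : M) : S) • ω0
    rw [hφ]
    change g • ((m : S) • ω0) = (g * (m : S) * g⁻¹) • ω0
    rw [mul_smul, mul_smul]
    congr 2
    rw [eq_inv_smul_iff]; exact hg0
  have hp1 : φ p = 1 := by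
    apply hΔ _ ⟨p, rfl⟩
    intro x hx
    have hx0 : Additive.toMul x ≠ 1 := by
      intro h
      apply hΔ0
      have : x = 0 := h
      rw [← this]; exact hx
    have h := hg ((Additive.toMul x : M) • ω0)
    beta_reduce at h
    rw [hact, hff] at h
    rw [if_neg hx0, ofMul_toMul, if_pos hx] at h
    by_contra hne
    split_ifs at h with h6 h7
    · exact absurd h (by decide)
    · exact hne h7
    · exact absurd h (by decide)
  apply FaithfulSMul.eq_of_smul_eq_smul (α := Ω)
  intro ω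
  rw [one_smul, ← hf ω]
  apply_fun f using (fun a b hab => by rw [← hf a, ← hf b, hab])
  rw [hact, hff, hp1]
  rfl

/-- **Three colours for a primitive solvable group of order prime to three.** -/
theorem prim_color3 {G : Type u} {Ω : Type w} [Group G] [Finite G] [Group.IsSolvable G]
    [MulAction G Ω] (h3 : (Nat.card G).Coprime 3) (hprim : IsPreprimitive G Ω) :
    ∃ κ : Ω → Fin 3, ∀ g : G, (∀ ω, κ (g • ω) = κ ω) → ∀ ω : Ω, g • ω = ω :=
  prim_reduce hprim (fun n => n.Coprime 3) (fun _ _ h h' => Nat.Coprime.coprime_dvd_left h h') h3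
    (fun _ _ _ _ _ _ hp hnt hc => prim_faithful3 hp hnt hc)

end Cfsg.Agent.H578.PermCol

namespace Cfsg.Agent.H578

/-- the numerical condition used in the induction -/
def QC (p a b : ℕ) : Prop := a.Coprime p ∧ ∀ q : ℕ, q.Prime → q ∣ b → q = p

theorem QC.mono {p a b c d : ℕ} (h1 : a ∣ c) (h2 : b ∣ d) (h : QC p c d) : QC p a b :=
  ⟨Nat.Coprime.coprime_dvd_left h1 h.1, fun q hq hqb => h.2 q hq (hqb.trans h2)⟩

theorem QC.cop {p a b : ℕ} (h : QC p a b) : a.Coprime b := by
  apply Nat.coprime_of_dvd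
  intro q hq hqa hqb
  have h1 := h.2 q hq hqb
  subst h1
  have h2 := Nat.dvd_gcd hqa (dvd_refl q)
  rw [h.1] at h2
  exact hq.one_lt.ne' (Nat.dvd_one.mp h2)

theorem QC.exp {p a : ℕ} {W : Type u} [AddCommGroup W] [Finite W] [Nontrivial W]
    {H : Subgroup (AU W)} (hirr : Irr H) (h : QC p a (Nat.card W)) : ∀ x : W, p • x = 0 := by
  obtain ⟨r, hr, hrW⟩ := irr_prime hirr
  obtain ⟨x, hx⟩ := exists_ne (0 : W)
  have : Fact r.Prime := ⟨hr⟩
  have h1 := addOrderOf_eq_prime (hrW x) hx
  have h2 : addOrderOf x ∣ Nat.card W := addOrderOf_dvd_natCard x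
  rw [h1] at h2
  rw [← h.2 r hr h2]
  exact hrW

/-- **Irreducible coprime solvable linear groups have bases of size two.** -/
theorem irr2cop {V : Type u} [AddCommGroup V] [Finite V] [Nontrivial V] (G : Subgroup (AU V))
    (hG : Group.IsSolvable G) (hcop : (Nat.card G).Coprime (Nat.card V)) (hirr : Irr G) :
    HasBase (Fin 2) G := by
  obtain ⟨p, hp, hpV⟩ := irr_prime hirr
  have hfact : Fact p.Prime := ⟨hp⟩
  obtain ⟨x, hx⟩ := exists_ne (0 : V)
  have hpc : p ∣ Nat.card V := by
    rw [← addOrderOf_eq_prime (hpV x) hx]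
    exact addOrderOf_dvd_natCard x
  have hQ : QC p (Nat.card G) (Nat.card V) := by
    refine ⟨Nat.Coprime.coprime_dvd_right hpc hcop, fun q hq hqV => ?_⟩
    have : Fact q.Prime := ⟨hq⟩
    obtain ⟨y, hy⟩ := exists_prime_addOrderOf_dvd_card' q hqV
    have h1 := addOrderOf_dvd_of_nsmul_eq_zero (hpV y)
    rw [hy] at h1
    exact (Nat.prime_dvd_prime_iff_eq hq hp).mp h1
  by_cases h2 : p = 2
  · subst h2
    exact irr2odd G hG (Nat.coprime_two_right.mp hQ.1) hirr
  by_cases h3 : p = 3
  · subst h3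
    refine induct (Fin 2) (QC 3) (fun _ _ _ _ h1 h2 h => h.mono h1 h2) 3 ?_ ?_ ?_ (Nat.card V)
      V G rfl hG hQ hirr
    · intro W _ _ _ H _ hQH hH hb
      exact regp H hp hQH.1 (hQH.exp hH) hb
    · intro G Ω _ _ _ _ _ hQG hpr
      exact PermCol.prim_color3 hQG.1 hpr
    · intro V _ _ _ G hG hQ hirr hprim
      obtain ⟨D⟩ := exists_dat hirr hprim hG
      exact D.prim2 hQ.cop
  · have h5 : 5 ≤ p := by
      have := hp.two_le
      by_contra hlt
      have h4 : p = 4 := by omega
      rw [h4] at hp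
      exact absurd hp (by norm_num)
    refine induct (Fin 2) (QC p) (fun _ _ _ _ h1 h2 h => h.mono h1 h2) 5 ?_ ?_ ?_ (Nat.card V)
      V G rfl hG hQ hirr
    · intro W _ _ _ H _ hQH hH hb
      obtain ⟨x, hx1, hx2⟩ := regp H hp hQH.1 (hQH.exp hH) hb
      exact ⟨fun c => x (Fin.castLE h5 c), fun c => hx1 _, fun c c' h hh hc =>
        Fin.castLE_injective h5 (hx2 _ _ h hh hc)⟩
    · intro G Ω _ _ _ _ _ _ hpr
      exact PermCol.prim5 hpr
    · intro V _ _ _ G hG hQ hirr hprim
      obtain ⟨D⟩ := exists_dat hirr hprim hG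
      exact D.prim2 hQ.cop

end Cfsg.Agent.H578
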