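import Cfsg.Agent.H578.CopAct
import Cfsg.Agent.H578.Cop

/-!
# Coprime actions of solvable groups have bases of size two (helper578)
-/

set_option autoImplicit false

universe u v w

namespace Cfsg.Agent.H578.CopAct

open Cfsg.Agent.H578.Marks

variable {A : Type w} {K : Type v} [Group A] [Group K] [MulDistribMulAction A K]

/-- the action on an invariant subgroup -/
@[reducible] def subAct (N : Subgroup K) (hN : ∀ (a : A), ∀ n ∈ N, a • n ∈ N) :
    MulDistribMulAction A N where
  smul a n := ⟨a • (n : K), hN a n n.2⟩
  one_smul n := Subtype.ext (one_smul A (n : K))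
  mul_smul a b n := Subtype.ext (mul_smul a b (n : K))
  smul_one a := Subtype.ext (smul_one a)
  smul_mul a m n := Subtype.ext (smul_mul' a (m : K) (n : K))

/-- the action on the quotient by an invariant normal subgroup -/
@[reducible] def quoAct (N : Subgroup K) [N.Normal] (hN : ∀ (a : A), ∀ n ∈ N, a • n ∈ N) :
    MulDistribMulAction A (K ⧸ N) where
  smul a x := QuotientGroup.map N N (MulDistribMulAction.toMonoidHom K a)
    (fun n hn => hN a n hn) x
  one_smul x := by
    obtain ⟨k, rfl⟩ := QuotientGroup.mk_surjective x
    change (((1 : A) • k : K) : K ⧸ N) = (k : K ⧸ N)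
    rw [one_smul]
  mul_smul a b x := by
    obtain ⟨k, rfl⟩ := QuotientGroup.mk_surjective x
    change (((a * b) • k : K) : K ⧸ N) = ((a • b • k : K) : K ⧸ N)
    rw [mul_smul]
  smul_one a := map_one _
  smul_mul a x y := map_mul _ x y

/-- the numbers of fixed points multiply -/
theorem fc_mul [Finite A] [Finite K] (hA : Group.IsSolvable A)
    (hcop : (Nat.card A).Coprime (Nat.card K)) (N : Subgroup K) [N.Normal]
    (hN : ∀ (a : A), ∀ n ∈ N, a • n ∈ N) (B : Subgroup A) :
    Fc A K B = (letI := subAct N hN; Fc A N B) * (letI := quoAct N hN; Fc A (K ⧸ N) B) := by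
  letI i1 := subAct N hN
  letI i2 := quoAct N hN
  change Nat.card (fxs K B) = Nat.card (fxs N B) * Nat.card (fxs (K ⧸ N) B)
  let π : fxs K B →* K ⧸ N := (QuotientGroup.mk' N).comp (fxs K B).subtype
  have hker : Nat.card π.ker = Nat.card (fxs N B) :=
    Nat.card_congr
      { toFun := fun x => ⟨⟨x.1.1, (QuotientGroup.eq_one_iff _).mp x.2⟩, fun b hb =>
          Subtype.ext (x.1.2 b hb)⟩
        invFun := fun x => ⟨⟨x.1.1, fun b hb => congrArg Subtype.val (x.2 b hb)⟩,
          (QuotientGroup.eq_one_iff _).mpr x.1.2⟩
        left_inv := fun _ => rfl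
        right_inv := fun _ => rfl }
  have hrange : π.range = fxs (K ⧸ N) B := by
    ext x
    constructor
    · rintro ⟨k, rfl⟩ b hb
      change (((b • (k : K)) : K) : K ⧸ N) = ((k : K) : K ⧸ N)
      rw [k.2 b hb]
    · intro hx
      obtain ⟨k, rfl⟩ := QuotientGroup.mk_surjective x
      obtain ⟨c, hc, hkc⟩ := fix_coset hA hcop B N (fun b _ => hN b) k (fun b hb => by
        have h1 : (((b • k : K)) : K ⧸ N) = (k : K ⧸ N) := hx b hb
        exact QuotientGroup.eq.mp h1.symm)
      exact ⟨⟨c, hc⟩, (QuotientGroup.eq.mpr hkc).symm⟩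
  rw [Subgroup.card_eq_card_quotient_mul_card_subgroup π.ker, hker, ← hrange, mul_comm]
  congr 1
  exact Nat.card_congr (QuotientGroup.quotientKerEquivRange π).toEquiv

/-- the case of an irreducible abelian group -/
theorem mk_irr [Finite A] [Finite K] (hA : Group.IsSolvable A)
    (hcop : (Nat.card A).Coprime (Nat.card K)) (hcomm : ∀ x y : K, x * y = y * x)
    (hirr : ∀ N : Subgroup K, (∀ (a : A), ∀ n ∈ N, a • n ∈ N) → N = ⊥ ∨ N = ⊤)
    (hnt : Nontrivial K) : Mk.{v, w} A (fun B => Fc A K B * Fc A K B) := by
  let _ : CommGroup K := { (inferInstance : Group K) with mul_comm := hcomm }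
  let φ : A →* AU (Additive K) := MonoidHom.toHomUnits
    { toFun := fun a => MonoidHom.toAdditive (MulDistribMulAction.toMonoidHom K a)
      map_one' := by
        apply AddMonoidHom.ext
        intro x
        exact one_smul A (Additive.toMul x)
      map_mul' := fun a b => by
        apply AddMonoidHom.ext
        intro x
        exact mul_smul a b (Additive.toMul x) }
  have hφ : ∀ (a : A) (x : Additive K), (φ a).1 x = Additive.ofMul (a • (Additive.toMul x : K)) :=
    fun _ _ => rfl
  have hsol : Group.IsSolvable φ.range :=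
    Group.isSolvable_of_surjective (f := φ.rangeRestrict) φ.rangeRestrict_surjective
  have hirr' : Irr φ.range := by
    intro U hU
    rcases hirr (AddSubgroup.toSubgroup' U) (fun a n hn => hU _ ⟨a, rfl⟩ (Additive.ofMul n) hn)
      with h | h
    · left
      rw [eq_bot_iff]
      intro x hx
      have h1 : (Additive.toMul x : K) ∈ AddSubgroup.toSubgroup' U := hx
      rw [h, Subgroup.mem_bot] at h1
      exact h1
    · right
      rw [eq_top_iff]
      intro x _
      have h1 : (Additive.toMul x : K) ∈ AddSubgroup.toSubgroup' U := by rw [h]; trivial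
      exact h1
  have hnt' : Nontrivial (Additive K) := inferInstance
  have hc : (Nat.card φ.range).Coprime (Nat.card (Additive K)) :=
    Nat.Coprime.coprime_dvd_left (Subgroup.card_range_dvd φ) hcop
  obtain ⟨v, hv⟩ := irr2cop φ.range hsol hc hirr'
  refine ⟨K × K, inferInstance, inferInstance,
    ⟨(Additive.toMul (v 0), Additive.toMul (v 1)), fun a ha x => ?_⟩, fun B => ?_⟩
  · have h1 : φ a = 1 := by
      apply hv _ ⟨a, rfl⟩
      intro i
      fin_cases i
      · exact congrArg Prod.fst ha
      · exact congrArg Prod.snd ha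
    have h2 : ∀ y : K, a • y = y := by
      intro y
      have h3 := hφ a (Additive.ofMul y)
      rw [h1] at h3
      exact h3.symm
    exact Prod.ext (h2 _) (h2 _)
  · change Nat.card _ = Nat.card _ * Nat.card _
    rw [← Nat.card_prod]
    exact Nat.card_congr
      { toFun := fun x => (⟨x.1.1, fun b hb => congrArg Prod.fst (x.2 b hb)⟩,
          ⟨x.1.2, fun b hb => congrArg Prod.snd (x.2 b hb)⟩)
        invFun := fun x => ⟨(x.1.1, x.2.1), fun b hb => Prod.ext (x.1.2 b hb) (x.2.2 b hb)⟩
        left_inv := fun _ => rfl
        right_inv := fun _ => rfl }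

/-- **the squares of the fixed point numbers are marks with a regular point** -/
theorem mk_sq (A : Type w) [Group A] [Finite A] (hA : Group.IsSolvable A) (n : ℕ) :
    ∀ (K : Type v) [Group K] [Finite K] [MulDistribMulAction A K], Nat.card K = n →
      (Nat.card A).Coprime (Nat.card K) → Mk.{v, w} A (fun B => Fc A K B * Fc A K B) := by
  induction n using Nat.strong_induction_on with
  | _ n ih =>
  intro K _ _ _ hn hcop
  classical
  by_cases hpp : ∃ p k : ℕ, p.Prime ∧ Nat.card K = p ^ k
  · obtain ⟨p, k, hp, hk⟩ := hpp
    have hfact : Fact p.Prime := ⟨hp⟩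
    by_cases htriv : Subsingleton K
    · have h1 : (fun B : Subgroup A => Fc A K B * Fc A K B) = fun _ => 1 := by
        funext B
        have : Fc A K B = 1 := by
          unfold Fc
          rw [Nat.card_eq_one_iff_unique]
          exact ⟨inferInstance, ⟨⟨1, fun b _ => smul_one b⟩⟩⟩
        rw [this]
      rw [h1]
      exact Mk.one A
    rw [not_subsingleton_iff_nontrivial] at htriv
    by_cases hN : ∃ N : Subgroup K, N.Normal ∧ (∀ (a : A), ∀ n ∈ N, a • n ∈ N) ∧ N ≠ ⊥ ∧ N ≠ ⊤
    · obtain ⟨N, hNn, hNinv, hN0, hN1⟩ := hN
      have h1 : Nat.card N < n := by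
        rw [← hn]
        refine lt_of_le_of_ne (Nat.card_le_card_of_injective _ Subtype.val_injective) fun h => ?_
        exact hN1 (Subgroup.eq_top_of_card_eq _ h)
      have h2 : Nat.card (K ⧸ N) < n := by
        have h3 := Subgroup.card_eq_card_quotient_mul_card_subgroup N
        rw [hn] at h3
        have h4 : 1 < Nat.card N := (Subgroup.one_lt_card_iff_ne_bot N).mpr hN0
        have h5 : 0 < Nat.card (K ⧸ N) := Nat.card_pos
        rw [h3]
        nlinarith
      have h3 := @ih _ h1 N _ _ (subAct N hNinv) rfl
        (Nat.Coprime.coprime_dvd_right (Subgroup.card_subgroup_dvd_card N) hcop)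
      have h4 := @ih _ h2 (K ⧸ N) _ _ (quoAct N hNinv) rfl
        (Nat.Coprime.coprime_dvd_right (Subgroup.card_quotient_dvd_card N) hcop)
      have h5 := h3.mul h4
      have h6 : (fun B : Subgroup A => Fc A K B * Fc A K B) = fun B =>
          ((letI := subAct N hNinv; Fc A N B) * (letI := subAct N hNinv; Fc A N B)) *
          ((letI := quoAct N hNinv; Fc A (K ⧸ N) B) *
            (letI := quoAct N hNinv; Fc A (K ⧸ N) B)) := by
        funext B
        rw [fc_mul hA hcop N hNinv B]
        ring
      rw [h6]
      exact h5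
    · push Not at hN
      have hab : ∀ x y : K, x * y = y * x := by
        have h1 : commutator K ≠ ⊤ := by
          have h2 : IsPGroup p K := IsPGroup.of_card hk
          have h3 : Group.IsNilpotent K := h2.isNilpotent
          have h4 : Group.IsSolvable K := inferInstance
          intro h5
          have h6 : (⊤ : Subgroup K) ≠ ⊥ := top_ne_bot
          have h7 := Group.IsSolvable.commutator_lt_of_ne_bot h6
          exact h7.ne h5
        have h2 : commutator K = ⊥ := by
          by_contra hne
          refine h1 (hN (commutator K) inferInstance (fun a n hn => ?_) hne)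
          have h3 : (commutator K).map (MulDistribMulAction.toMonoidHom K a) ≤ commutator K := by
            rw [commutator_def, Subgroup.map_commutator]
            exact Subgroup.commutator_mono le_top le_top
          exact h3 ⟨n, hn, rfl⟩
        intro x y
        have h3 : x * y * x⁻¹ * y⁻¹ ∈ commutator K :=
          Subgroup.commutator_mem_commutator (Subgroup.mem_top x) (Subgroup.mem_top y)
        rw [h2, Subgroup.mem_bot, mul_inv_eq_one, mul_inv_eq_iff_eq_mul] at h3
        exact h3
      refine mk_irr hA hcop hab (fun N hNinv => ?_) htriv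
      by_cases h0 : N = ⊥
      · exact Or.inl h0
      · right
        have hNn : N.Normal := ⟨fun n hn g => by
          rw [hab g n, mul_inv_cancel_right]; exact hn⟩
        exact hN N hNn hNinv h0
  · -- several primes
    push Not at hpp
    choose P hPinv hPcard hPfix using fun p : {p : ℕ // p.Prime} =>
      inv_sylow (A := A) (K := K) hA hcop p.1 p.2
    have hlt : ∀ p : {p : ℕ // p.Prime}, Nat.card (P p) < n := by
      intro p
      rw [← hn]
      refine lt_of_le_of_ne (Nat.card_le_card_of_injective _ Subtype.val_injective) fun h => ?_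
      exact hpp p.1 _ p.2 (h.symm.trans (hPcard p))
    have h1 : ∀ p : {p : ℕ // p.Prime}, Mk.{v, w} A
        (fun B => p.1 ^ (Fc A K B).factorization p.1 * p.1 ^ (Fc A K B).factorization p.1) := by
      intro p
      have h2 := @ih _ (hlt p) (P p) _ _ (subAct (P p) (hPinv p)) rfl
        (Nat.Coprime.coprime_dvd_right (Subgroup.card_subgroup_dvd_card _) hcop)
      have h3 : ∀ B : Subgroup A, (letI := subAct (P p) (hPinv p); Fc A (P p) B) =
          p.1 ^ (Fc A K B).factorization p.1 := by
        intro B
        rw [← hPfix p B]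
        exact Nat.card_congr (Equiv.subtypeEquivRight fun x =>
          ⟨fun h b hb => congrArg Subtype.val (h b hb), fun h b hb => Subtype.ext (h b hb)⟩)
      have h4 : (fun B : Subgroup A =>
          p.1 ^ (Fc A K B).factorization p.1 * p.1 ^ (Fc A K B).factorization p.1) =
          fun B => (letI := subAct (P p) (hPinv p); Fc A (P p) B) *
            (letI := subAct (P p) (hPinv p); Fc A (P p) B) := by
        funext B
        rw [h3]
      rw [h4]
      exact h2
    have h2 := Mk.prod (A := A) (Nat.card K).primeFactors
      (f := fun p B => p ^ (Fc A K B).factorization p * p ^ (Fc A K B).factorization p)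
      (fun p hp => h1 ⟨p, Nat.prime_of_mem_primeFactors hp⟩)
    have h3 : (fun B : Subgroup A => Fc A K B * Fc A K B) = fun B =>
        ∏ p ∈ (Nat.card K).primeFactors,
          (p ^ (Fc A K B).factorization p * p ^ (Fc A K B).factorization p) := by
      funext B
      rw [Finset.prod_mul_distrib]
      have h4 : Fc A K B = ∏ p ∈ (Nat.card K).primeFactors,
          p ^ (Fc A K B).factorization p := by
        have h5 : Fc A K B ∣ Nat.card K := Subgroup.card_subgroup_dvd_card (fxs K B)
        have h6 : Fc A K B ≠ 0 := Nat.card_pos (α := fxs K B) |>.ne'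
        have h7 : (Fc A K B).primeFactors ⊆ (Nat.card K).primeFactors :=
          Nat.primeFactors_mono h5 Nat.card_pos.ne'
        conv_lhs => rw [← Nat.prod_factorization_pow_eq_self h6]
        rw [Finsupp.prod_of_support_subset _ h7 _ (fun _ _ => pow_zero _)]
      rw [← h4]
    rw [h3]
    exact h2

/-- **Base size two for coprime actions of solvable groups.** -/
theorem base_two {A : Type w} {K : Type v} [Group A] [Finite A] [Group K] [Finite K]
    [MulDistribMulAction A K] (hA : Group.IsSolvable A)
    (hcop : (Nat.card A).Coprime (Nat.card K)) :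
    ∃ x y : K, ∀ a : A, a • x = x → a • y = y → ∀ z : K, a • z = z := by
  have h1 := mk_sq A hA _ K rfl hcop
  have h2 : (fun B : Subgroup A => Fc A K B * Fc A K B) = Fc A (K × K) := by
    funext B
    symm
    change Nat.card _ = Nat.card _ * Nat.card _
    rw [← Nat.card_prod]
    exact Nat.card_congr
      { toFun := fun x => (⟨x.1.1, fun b hb => congrArg Prod.fst (x.2 b hb)⟩,
          ⟨x.1.2, fun b hb => congrArg Prod.snd (x.2 b hb)⟩)
        invFun := fun x => ⟨(x.1.1, x.2.1), fun b hb => Prod.ext (x.1.2 b hb) (x.2.2 b hb)⟩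
        left_inv := fun _ => rfl
        right_inv := fun _ => rfl }
  rw [h2] at h1
  obtain ⟨⟨x, y⟩, hxy⟩ := h1.transfer
  exact ⟨x, y, fun a hx hy z => congrArg Prod.fst (hxy a (Prod.ext hx hy) (z, z))⟩

end Cfsg.Agent.H578.CopAct
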