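import Cfsg.Prelude.Def_OddOrderLocal
import Cfsg.Agent.OddOrderLocal.PiCore
import Cfsg.Agent.H578.BaseTwo

/-!
# Hall subgroups of `π`-solvable groups (helper578)
-/

set_option autoImplicit false

universe u

namespace Cfsg.Agent.H578.PiSolv

open Cfsg.Agent.OddOrderLocal.PiCore
open Subgroup Pointwise

/-- the chain condition -/
def PChain (π : Set ℕ) (G : Type u) [Group G] : Prop :=
  ∃ (n : ℕ) (N : Fin (n + 1) → Subgroup G), N 0 = ⊥ ∧ N (Fin.last n) = ⊤ ∧ Monotone N ∧
    (∀ i, (N i).Normal) ∧
      ∀ i : Fin n, (∃ p ∈ π, p.Prime ∧ ∃ k : ℕ, (N i.castSucc).relIndex (N i.succ) = p ^ k) ∨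
        (∀ q : ℕ, q.Prime → q ∣ (N i.castSucc).relIndex (N i.succ) → q ∉ π)

theorem PChain.quot {π : Set ℕ} {G : Type u} [Group G] (h : PChain π G) (O : Subgroup G)
    [hO : O.Normal] : PChain π (G ⧸ O) := by
  obtain ⟨n, N, h0, h1, hm, hn, hr⟩ := h
  have hdvd : ∀ i : Fin n, ((N i.castSucc).map (QuotientGroup.mk' O)).relIndex
      ((N i.succ).map (QuotientGroup.mk' O)) ∣ (N i.castSucc).relIndex (N i.succ) := by
    intro i
    have hle : N i.castSucc ≤ N i.succ := hm (Fin.castSucc_lt_succ (i := i)).le
    have := hn i.castSucc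
    rw [relIndex_map_map, QuotientGroup.ker_mk']
    have h2 : N i.succ ⊔ O = N i.succ ⊔ (N i.castSucc ⊔ O) := by
      rw [← sup_assoc, sup_eq_left.mpr hle]
    rw [h2, relIndex_sup_right]
    exact relIndex_dvd_of_le_left _ le_sup_left
  refine ⟨n, fun i => (N i).map (QuotientGroup.mk' O), ?_, ?_, ?_, ?_, fun i => ?_⟩
  · change (N 0).map (QuotientGroup.mk' O) = ⊥
    rw [h0, Subgroup.map_bot]
  · change (N (Fin.last n)).map (QuotientGroup.mk' O) = ⊤
    rw [h1, ← MonoidHom.range_eq_map]
    exact MonoidHom.range_eq_top.mpr (QuotientGroup.mk'_surjective O)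
  · intro i j hij
    exact Subgroup.map_mono (hm hij)
  · intro i
    exact (hn i).map _ (QuotientGroup.mk'_surjective O)
  · rcases hr i with ⟨p, hp, hpp, k, hk⟩ | h
    · left
      have h2 := hdvd i
      rw [hk] at h2
      obtain ⟨j, -, hj⟩ := (Nat.dvd_prime_pow hpp).mp h2
      exact ⟨p, hp, hpp, j, hj⟩
    · right
      exact fun q hq hqd => h q hq (hqd.trans (hdvd i))

theorem relIndex_eq_card {G : Type u} [Group G] (N B : Subgroup G) [N.Normal] :
    N.relIndex B = Nat.card (B.map (QuotientGroup.mk' N)) := by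
  have h := relIndex_ker B (QuotientGroup.mk' N)
  rwa [QuotientGroup.ker_mk'] at h

theorem relIndex_dvd {G : Type u} [Group G] (N : Subgroup G) [N.Normal] {B C : Subgroup G}
    (h : B ≤ C) : N.relIndex B ∣ N.relIndex C := by
  rw [relIndex_eq_card, relIndex_eq_card]
  exact card_dvd_of_le (Subgroup.map_mono h)

theorem solvable_of_chain {π : Set ℕ} {G : Type u} [Group G] [Finite G] (h : PChain π G)
    (H : Subgroup G) (hH : ∀ p : ℕ, p.Prime → p ∣ Nat.card H → p ∈ π) : Group.IsSolvable H := by
  obtain ⟨n, N, h0, h1, hm, hn, hr⟩ := h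
  have key : ∀ i, Group.IsSolvable (H ⊓ N i : Subgroup G) := by
    intro i
    induction i using Fin.induction with
    | zero =>
      rw [h0, inf_bot_eq]
      infer_instance
    | succ i ih =>
      have hle : N i.castSucc ≤ N i.succ := hm (Fin.castSucc_lt_succ (i := i)).le
      have := hn i.castSucc
      let B : Subgroup G := H ⊓ N i.succ
      let f : B →* (G ⧸ N i.castSucc) := (QuotientGroup.mk' (N i.castSucc)).comp B.subtype
      have hcard : Nat.card f.range = (N i.castSucc).relIndex B := by
        rw [relIndex_eq_card]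
        have : f.range = B.map (QuotientGroup.mk' (N i.castSucc)) := by
          change ((QuotientGroup.mk' (N i.castSucc)).comp B.subtype).range = _
          rw [MonoidHom.range_comp, B.range_subtype]
        rw [this]
      have hd1 : Nat.card f.range ∣ (N i.castSucc).relIndex (N i.succ) := by
        rw [hcard]; exact relIndex_dvd _ inf_le_right
      have hd2 : Nat.card f.range ∣ Nat.card H :=
        (card_range_dvd f).trans (card_dvd_of_le inf_le_left)
      have hsol : Group.IsSolvable f.range := by
        rcases hr i with ⟨p, hp, hpp, k, hk⟩ | h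
        · rw [hk] at hd1
          obtain ⟨j, -, hj⟩ := (Nat.dvd_prime_pow hpp).mp hd1
          have : Fact p.Prime := ⟨hpp⟩
          have h3 : IsPGroup p f.range := IsPGroup.of_card hj
          have h4 : Group.IsNilpotent f.range := h3.isNilpotent
          infer_instance
        · have h3 : Nat.card f.range = 1 := by
            by_contra hne
            obtain ⟨q, hq, hqd⟩ := Nat.exists_prime_and_dvd hne
            exact h q hq (hqd.trans hd1) (hH q hq (hqd.trans hd2))
          have h4 : Subsingleton f.range := (Nat.card_eq_one_iff_unique.mp h3).1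
          infer_instance
      refine Group.isSolvable_of_ker_le_range
        (Subgroup.inclusion (inf_le_inf_left H hle) : (H ⊓ N i.castSucc : Subgroup G) →* B)
        f.rangeRestrict ?_
      intro x hx
      have h3 : f x = 1 := congrArg Subtype.val hx
      have h4 : (x : G) ∈ N i.castSucc := (QuotientGroup.eq_one_iff _).mp h3
      exact ⟨⟨x, x.2.1, h4⟩, rfl⟩
  have h2 := key (Fin.last n)
  rw [h1, inf_top_eq] at h2
  exact h2

/-- **Hall–Higman** -/
theorem centralizer_le {π : Set ℕ} {G : Type u} [Group G] [Finite G] (h : PChain π G)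
    (hcore : Cfsg.piCore π G = ⊥) :
    Subgroup.centralizer (Cfsg.piCore {q | q ∉ π} G : Set G) ≤ Cfsg.piCore {q | q ∉ π} G := by
  obtain ⟨n, N, h0, h1, hm, hn, hr⟩ := h
  set K : Subgroup G := Cfsg.piCore {q | q ∉ π} G with hK
  have hKn : K.Normal := Cfsg.piCore_normal _ _
  have hKpi : ∀ p : ℕ, p.Prime → p ∣ Nat.card K → p ∉ π := fun p hp hd =>
    piCore_isPi (G := G) {q | q ∉ π} p hp hd
  set C : Subgroup G := Subgroup.centralizer (K : Set G) with hC
  have hCn : C.Normal := by rw [hC]; infer_instance
  have key : ∀ i, C ⊓ N i ≤ K := by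
    intro i
    induction i using Fin.induction with
    | zero =>
      rw [h0, inf_bot_eq]
      exact bot_le
    | succ i ih =>
      have hle : N i.castSucc ≤ N i.succ := hm (Fin.castSucc_lt_succ (i := i)).le
      have hNn := hn i.castSucc
      have hNn' := hn i.succ
      set D : Subgroup G := C ⊓ N i.succ with hD
      set E : Subgroup G := C ⊓ N i.castSucc with hE
      have hED : E ≤ D := inf_le_inf_left C hle
      have hDn : D.Normal := by rw [hD]; infer_instance
      have hEn : E.Normal := by rw [hE]; infer_instance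
      have hrel : E.relIndex D = (N i.castSucc).relIndex D := by
        have : E = N i.castSucc ⊓ D := by
          rw [hE, hD]
          apply le_antisymm
          · exact le_inf inf_le_right (inf_le_inf_left C hle)
          · exact le_inf (inf_le_right.trans inf_le_left) inf_le_left
        rw [this, inf_relIndex_right]
      have hreld : E.relIndex D ∣ (N i.castSucc).relIndex (N i.succ) := by
        rw [hrel]; exact relIndex_dvd _ inf_le_right
      have hcard : Nat.card D = Nat.card E * E.relIndex D := by
        have := relIndex_mul_relIndex ⊥ E D bot_le hED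
        rw [relIndex_bot_left, relIndex_bot_left] at this
        exact this.symm
      rcases hr i with ⟨p, hp, hpp, k, hk⟩ | h
      · have hfact : Fact p.Prime := ⟨hpp⟩
        rw [hk] at hreld
        obtain ⟨j, -, hj⟩ := (Nat.dvd_prime_pow hpp).mp hreld
        obtain ⟨P⟩ : Nonempty (Sylow p D) := inferInstance
        let E' : Subgroup D := E.subgroupOf D
        have htop : E' ⊔ (P : Subgroup D) = ⊤ := by
          rw [← index_eq_one]
          by_contra hne
          obtain ⟨q, hq, hqd⟩ := Nat.exists_prime_and_dvd hne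
          have h2 : q ∣ p ^ j := by
            rw [← hj]
            exact hqd.trans (index_dvd_of_le le_sup_left)
          have h3 : q = p := (Nat.prime_dvd_prime_iff_eq hq hpp).mp (hq.dvd_of_dvd_pow h2)
          subst h3
          exact P.not_dvd_index (hqd.trans (index_dvd_of_le le_sup_right))
        have hcen : ∀ e ∈ E', ∀ d : D, e * d = d * e := by
          intro e he d
          apply Subtype.ext
          have h2 : (e : G) ∈ K := ih he
          exact (Subgroup.mem_centralizer_iff.mp d.2.1 e h2)
        have hPn : (P : Subgroup D).Normal := by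
          have h2 : (⊤ : Subgroup D) ≤ Subgroup.normalizer ((P : Subgroup D) : Set D) := by
            rw [← htop]
            refine sup_le (fun e he => ?_) le_normalizer
            rw [Subgroup.mem_set_normalizer_iff]
            intro x
            rw [hcen e he x, mul_inv_cancel_right]
          exact normalizer_eq_top_iff.mp (top_le_iff.mp h2)
        have hPc : (P : Subgroup D).Characteristic := P.characteristic_of_normal hPn
        have hPG : ((P : Subgroup D).map D.subtype).Normal := inferInstance
        have h2 : (P : Subgroup D).map D.subtype ≤ Cfsg.piCore π G := by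
          apply le_piCore hPG
          intro q hq hqd
          have h3 : IsPGroup p ((P : Subgroup D).map D.subtype) := P.2.map _
          obtain ⟨m, hm'⟩ := IsPGroup.iff_card.mp h3
          rw [hm'] at hqd
          rw [(Nat.prime_dvd_prime_iff_eq hq hpp).mp (hq.dvd_of_dvd_pow hqd)]
          exact hp
        rw [hcore, le_bot_iff, Subgroup.map_eq_bot_iff_of_injective _ D.subtype_injective] at h2
        have h3 : ¬ p ∣ Nat.card D := by
          have := P.not_dvd_index
          rwa [h2, index_bot] at this
        have h4 : j = 0 := by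
          by_contra hj0
          apply h3
          rw [hcard, hj]
          exact (dvd_pow_self p hj0).mul_left _
        rw [h4, pow_zero, relIndex_eq_one] at hj
        exact hj.trans ih
      · apply le_piCore hDn
        intro q hq hqd
        rw [hcard, hq.dvd_mul] at hqd
        rcases hqd with h2 | h2
        · exact hKpi q hq (h2.trans (card_dvd_of_le ih))
        · exact h q hq (h2.trans hreld)
  have h2 := key (Fin.last n)
  rw [h1, inf_top_eq] at h2
  exact h2

/-- the case of a trivial `π`-core -/
theorem core {π : Set ℕ} {G : Type u} [Group G] [Finite G] (h : PChain π G)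
    (hcore : Cfsg.piCore π G = ⊥) {H : Subgroup G} (hH : Cfsg.IsPiHall π H) :
    ∃ x y : G, ∀ g ∈ H, x⁻¹ * g * x ∈ H → y⁻¹ * g * y ∈ H → g = 1 := by
  have hHH := centralizer_le h hcore
  have hsol := solvable_of_chain h H hH.1
  set K : Subgroup G := Cfsg.piCore {q | q ∉ π} G with hK
  have hKn : K.Normal := Cfsg.piCore_normal _ _
  have hKpi : ∀ p : ℕ, p.Prime → p ∣ Nat.card K → p ∉ π := fun p hp hd =>
    piCore_isPi (G := G) {q | q ∉ π} p hp hd
  have hcop : (Nat.card H).Coprime (Nat.card K) := by
    apply Nat.coprime_of_dvd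
    intro q hq h1 h2
    exact hKpi q hq h2 (hH.1 q hq h1)
  have hdis : ∀ g, g ∈ H → g ∈ K → g = 1 := by
    intro g h1 h2
    have h3 := Subgroup.disjoint_of_coprime_natCard hcop
    exact (Subgroup.mem_bot.mp (h3.le_bot ⟨h1, h2⟩))
  let _ : MulDistribMulAction H K :=
    MulDistribMulAction.compHom K ((MulAut.conjNormal : G →* MulAut K).comp H.subtype)
  have hact : ∀ (g : H) (k : K), ((g • k : K) : G) = g * k * (g : G)⁻¹ := by
    intro g k
    exact MulAut.conjNormal_apply (g : G) k
  obtain ⟨x, y, hxy⟩ := Cfsg.Agent.H578.CopAct.base_two (A := H) (K := K) hsol hcop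
  refine ⟨x, y, fun g hg hx hy => ?_⟩
  have key : ∀ z : K, (z : G)⁻¹ * g * z ∈ H → (⟨g, hg⟩ : H) • z = z := by
    intro z hz
    apply Subtype.ext
    rw [hact]
    change g * (z : G) * g⁻¹ = z
    have h1 : g⁻¹ * ((z : G)⁻¹ * g * z) = 1 := by
      apply hdis
      · exact H.mul_mem (H.inv_mem hg) hz
      · have h2 : g⁻¹ * ((z : G)⁻¹ * g * z) = (g⁻¹ * (z : G)⁻¹ * g⁻¹⁻¹) * z := by
          rw [inv_inv]; simp only [mul_assoc]
        rw [h2]
        exact K.mul_mem (hKn.conj_mem _ (K.inv_mem z.2) g⁻¹) z.2
    have h2 : g = (z : G)⁻¹ * g * z := inv_mul_eq_one.mp h1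
    have h3 : (z : G) * g = g * z := by
      conv_lhs => rw [h2]
      simp only [mul_assoc, mul_inv_cancel_left]
    rw [mul_inv_eq_iff_eq_mul, h3]
  have h1 := hxy ⟨g, hg⟩ (key x hx) (key y hy)
  apply hdis g hg
  apply hHH
  rw [Subgroup.mem_centralizer_iff]
  intro z hz
  have h2 := congrArg (fun k : K => (k : G)) (h1 ⟨z, hz⟩)
  have h3 : g * z * g⁻¹ = z := by
    rw [← hact ⟨g, hg⟩ ⟨z, hz⟩]; exact h2
  exact (mul_inv_eq_iff_eq_mul.mp h3).symm

/-- the general case -/
theorem general {π : Set ℕ} {G : Type u} [Group G] [Finite G] (h : PChain π G)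
    {H : Subgroup G} (hH : Cfsg.IsPiHall π H) :
    ∃ x y : G, H ⊓ MulAut.conj x • H ⊓ MulAut.conj y • H = Cfsg.piCore π G := by
  set O : Subgroup G := Cfsg.piCore π G with hO
  have hOn : O.Normal := Cfsg.piCore_normal _ _
  have hOpi : ∀ p : ℕ, p.Prime → p ∣ Nat.card O → p ∈ π := fun p hp hd =>
    piCore_isPi (G := G) π p hp hd
  -- the quotient
  have hcore : Cfsg.piCore π (G ⧸ O) = ⊥ := by
    rw [eq_bot_iff]
    have hM : (Cfsg.piCore π (G ⧸ O)).Normal := Cfsg.piCore_normal _ _
    have h1 : (Cfsg.piCore π (G ⧸ O)).comap (QuotientGroup.mk' O) ≤ O := by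
      apply le_piCore (hM.comap _)
      intro p hp hd
      have h2 : Nat.card ((Cfsg.piCore π (G ⧸ O)).comap (QuotientGroup.mk' O)) =
          Nat.card O * Nat.card (Cfsg.piCore π (G ⧸ O)) := by
        have h3 : O ≤ (Cfsg.piCore π (G ⧸ O)).comap (QuotientGroup.mk' O) := by
          intro x hx
          rw [Subgroup.mem_comap]
          have : QuotientGroup.mk' O x = 1 := (QuotientGroup.eq_one_iff x).mpr hx
          rw [this]
          exact Subgroup.one_mem _
        have h4 := relIndex_mul_relIndex ⊥ O _ bot_le h3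
        rw [relIndex_bot_left, relIndex_bot_left, relIndex_eq_card,
          Subgroup.map_comap_eq_self_of_surjective (QuotientGroup.mk'_surjective O)] at h4
        exact h4.symm
      rw [h2, hp.dvd_mul] at hd
      rcases hd with hd | hd
      · exact hOpi p hp hd
      · exact piCore_isPi (G := G ⧸ O) π p hp hd
    intro x hx
    obtain ⟨g, rfl⟩ := QuotientGroup.mk'_surjective O x
    rw [Subgroup.mem_bot]
    exact (QuotientGroup.eq_one_iff g).mpr (h1 hx)
  have hHall : Cfsg.IsPiHall π (H.map (QuotientGroup.mk' O)) := by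
    refine ⟨fun p hp hd => hH.1 p hp (hd.trans (Subgroup.card_map_dvd H _)),
      fun p hp hpp hd => ?_⟩
    exact hH.2 p hp hpp (hd.trans (Subgroup.index_map_dvd H (QuotientGroup.mk'_surjective O)))
  obtain ⟨x', y', hxy⟩ := core (h.quot O) hcore hHall
  obtain ⟨x, rfl⟩ := QuotientGroup.mk'_surjective O x'
  obtain ⟨y, rfl⟩ := QuotientGroup.mk'_surjective O y'
  have hOH : O ≤ H := by
    have h1 : H.relIndex (H ⊔ O) = 1 := by
      by_contra hne
      obtain ⟨q, hq, hqd⟩ := Nat.exists_prime_and_dvd hne
      have h2 : q ∣ Nat.card (H ⊔ O : Subgroup G) := hqd.trans (relIndex_dvd_card H _)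
      have h3 := h2.trans (card_sup_dvd H O)
      have h4 : q ∈ π := by
        rcases (hq.dvd_mul).mp h3 with h5 | h5
        · exact hH.1 q hq h5
        · exact hOpi q hq h5
      exact hH.2 q hq h4 (hqd.trans (relIndex_dvd_index_of_le le_sup_left))
    exact le_sup_right.trans (relIndex_eq_one.mp h1)
  refine ⟨x, y, le_antisymm ?_ ?_⟩
  · rintro g ⟨⟨hg, hgx⟩, hgy⟩
    have hgx' : x⁻¹ * g * x ∈ H := by
      have := Subgroup.mem_pointwise_smul_iff_inv_smul_mem.mp hgx
      rw [← map_inv, MulAut.smul_def, MulAut.conj_apply, inv_inv] at this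
      exact this
    have hgy' : y⁻¹ * g * y ∈ H := by
      have := Subgroup.mem_pointwise_smul_iff_inv_smul_mem.mp hgy
      rw [← map_inv, MulAut.smul_def, MulAut.conj_apply, inv_inv] at this
      exact this
    have h1 := hxy (QuotientGroup.mk' O g) ⟨g, hg, rfl⟩
      ⟨_, hgx', by rw [map_mul, map_mul, map_inv]⟩ ⟨_, hgy', by rw [map_mul, map_mul, map_inv]⟩
    exact (QuotientGroup.eq_one_iff g).mp h1
  · refine le_inf (le_inf hOH ?_) ?_
    · intro g hg
      rw [Subgroup.mem_pointwise_smul_iff_inv_smul_mem, ← map_inv, MulAut.smul_def,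
        MulAut.conj_apply]
      exact hOH (hOn.conj_mem g hg x⁻¹)
    · intro g hg
      rw [Subgroup.mem_pointwise_smul_iff_inv_smul_mem, ← map_inv, MulAut.smul_def,
        MulAut.conj_apply]
      exact hOH (hOn.conj_mem g hg y⁻¹)

end Cfsg.Agent.H578.PiSolv
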