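import Mathlib

/-!
# Groups of order prime to three acting on triples (helper578)
-/

set_option autoImplicit false

namespace Cfsg.Agent.H578

/-- a group of order prime to three acting on three points fixes one of them -/
theorem fixed_of_three {H Y : Type*} [Group H] [Finite H] [MulAction H Y]
    (hY : Nat.card Y = 3) (hH : (Nat.card H).Coprime 3) : ∃ y : Y, ∀ h : H, h • y = y := by
  classical
  have hfin : Finite Y := Nat.finite_of_card_ne_zero (by rw [hY]; norm_num)
  have hdvd : ∀ y : Y, Nat.card (MulAction.orbit H y) ∣ Nat.card H := by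
    intro y
    rw [Nat.card_congr (MulAction.orbitEquivQuotientStabilizer H y)]
    exact Subgroup.card_quotient_dvd_card _
  have hle : ∀ y : Y, Nat.card (MulAction.orbit H y) ≤ 3 := by
    intro y
    rw [← hY]
    exact Nat.card_le_card_of_injective (fun x : MulAction.orbit H y => x.1)
      Subtype.val_injective
  have hpos : ∀ y : Y, 0 < Nat.card (MulAction.orbit H y) := by
    intro y
    have : Nonempty (MulAction.orbit H y) := ⟨⟨y, MulAction.mem_orbit_self y⟩⟩
    exact Nat.card_pos
  have hne3 : ∀ y : Y, Nat.card (MulAction.orbit H y) ≠ 3 := by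
    intro y h
    have h1 := hdvd y
    rw [h] at h1
    have h2 := Nat.dvd_gcd h1 (dvd_refl 3)
    rw [hH] at h2
    omega
  have hone : ∀ y : Y, Nat.card (MulAction.orbit H y) = 1 → ∀ h : H, h • y = y := by
    intro y h1 h
    obtain ⟨h2, -⟩ := Nat.card_eq_one_iff_unique.mp h1
    have := h2.elim ⟨h • y, MulAction.mem_orbit y h⟩ ⟨y, MulAction.mem_orbit_self y⟩
    exact congrArg Subtype.val this
  obtain ⟨y⟩ : Nonempty Y := by
    rw [← not_isEmpty_iff]
    intro h
    rw [Nat.card_of_isEmpty] at hY
    omega
  by_cases h1 : Nat.card (MulAction.orbit H y) = 1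
  · exact ⟨y, hone y h1⟩
  have h2 : Nat.card (MulAction.orbit H y) = 2 := by
    have := hle y; have := hpos y; have := hne3 y; omega
  -- the remaining point
  obtain ⟨y', hy'⟩ : ∃ y', y' ∉ MulAction.orbit H y := by
    by_contra hcon
    push Not at hcon
    have : Nat.card (MulAction.orbit H y) = Nat.card Y := by
      rw [Set.eq_univ_of_forall hcon]
      exact Nat.card_univ
    omega
  refine ⟨y', hone y' ?_⟩
  -- the two orbits are disjoint
  have h3 : Nat.card (MulAction.orbit H y) + Nat.card (MulAction.orbit H y') ≤ Nat.card Y := by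
    rw [← Nat.card_sum]
    apply Nat.card_le_card_of_injective
      (fun x : MulAction.orbit H y ⊕ MulAction.orbit H y' => Sum.elim (fun a => a.1) (fun a => a.1) x)
    rintro (⟨a, ha⟩ | ⟨a, ha⟩) (⟨b, hb⟩ | ⟨b, hb⟩) hab
    · simp only [Sum.elim_inl] at hab; subst hab; rfl
    · simp only [Sum.elim_inl, Sum.elim_inr] at hab
      subst hab
      exfalso
      apply hy'
      have e1 := MulAction.orbit_eq_iff.mpr ha
      have e2 := MulAction.orbit_eq_iff.mpr hb
      rw [← e1, e2]
      exact MulAction.mem_orbit_self y'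
    · simp only [Sum.elim_inl, Sum.elim_inr] at hab
      subst hab
      exfalso
      apply hy'
      have e1 := MulAction.orbit_eq_iff.mpr ha
      have e2 := MulAction.orbit_eq_iff.mpr hb
      rw [← e2, e1]
      exact MulAction.mem_orbit_self y'
    · simp only [Sum.elim_inr] at hab; subst hab; rfl
  have := hpos y'
  omega

/-- an equivariant section -/
theorem equiv_section {H Y Z : Type*} [Group H] [Finite H] [MulAction H Y] [MulAction H Z]
    (π : Y → Z) (hπ : ∀ (h : H) (y : Y), π (h • y) = h • π y)
    (h3 : ∀ z, Nat.card {y // π y = z} = 3) (hH : (Nat.card H).Coprime 3) :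
    ∃ s : Z → Y, (∀ z, π (s z) = z) ∧ ∀ (h : H) (z : Z), s (h • z) = h • s z := by
  classical
  -- a fixed point in each fibre
  have key : ∀ z : Z, ∃ y : Y, π y = z ∧ ∀ h : H, h • z = z → h • y = y := by
    intro z
    let _ : MulAction (MulAction.stabilizer H z) {y // π y = z} :=
      { smul := fun h y => ⟨h.1 • y.1, by
          rw [hπ, y.2]; exact h.2⟩
        one_smul := fun y => Subtype.ext (one_smul H y.1)
        mul_smul := fun a b y => Subtype.ext (mul_smul a.1 b.1 y.1) }
    obtain ⟨y, hy⟩ := fixed_of_three (H := MulAction.stabilizer H z) (h3 z)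
      (Nat.Coprime.coprime_dvd_left (Subgroup.card_subgroup_dvd_card _) hH)
    exact ⟨y.1, y.2, fun h hh => congrArg Subtype.val (hy ⟨h, hh⟩)⟩
  choose y₀ hy₀ hfix using key
  -- representatives
  let _ : Setoid Z := MulAction.orbitRel H Z
  let r : Z → Z := fun z => Quotient.out (Quotient.mk (MulAction.orbitRel H Z) z)
  have hr : ∀ z, ∃ h : H, h • r z = z := by
    intro z
    have h1 : MulAction.orbitRel H Z z (r z) :=
      Setoid.symm (Quotient.exact (Quotient.out_eq (Quotient.mk (MulAction.orbitRel H Z) z)))
    exact h1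
  have hr' : ∀ (h : H) z, r (h • z) = r z := by
    intro h z
    have h1 : (Quotient.mk (MulAction.orbitRel H Z) (h • z)) =
        Quotient.mk (MulAction.orbitRel H Z) z :=
      Quotient.sound (s := MulAction.orbitRel H Z) ⟨h, rfl⟩
    change Quotient.out _ = Quotient.out _
    rw [h1]
  choose t ht using hr
  refine ⟨fun z => t z • y₀ (r z), fun z => ?_, fun h z => ?_⟩
  · rw [hπ, hy₀, ht]
  · change t (h • z) • y₀ (r (h • z)) = h • t z • y₀ (r z)
    rw [hr', smul_smul]
    have h1 : ((h * t z)⁻¹ * t (h • z)) • y₀ (r z) = y₀ (r z) := by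
      apply hfix
      rw [mul_smul]
      have := ht (h • z)
      rw [hr'] at this
      rw [this, inv_smul_eq_iff, mul_smul, ht]
    rw [mul_smul, inv_smul_eq_iff] at h1
    exact h1

end Cfsg.Agent.H578
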