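import Cfsg.Agent.H578.Comb

/-!
# Rigid subsets of affine spaces over abelian groups of odd order (helper578)

* `aff_odd`: an abelian group `X` of odd order has a subset `D` which is preserved by no
  nontrivial affine bijection `x ↦ T x + t` of odd order.
-/

set_option autoImplicit false

namespace Cfsg.Agent.H578.Aff

open Cfsg.Agent.H578.Comb

/-- An injective self-map of odd order which preserves a set with two elements fixes both. -/
theorem pair_fix {X : Type*} (F : X → X) (hF : Function.Injective F)
    (hm : ∃ m, Odd m ∧ ∀ x, F^[m] x = x) {a b : X} (hab : a ≠ b) (ha : F a = a ∨ F a = b)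
    (hb : F b = a ∨ F b = b) : F a = a ∧ F b = b := by
  rcases ha with ha | ha
  · refine ⟨ha, ?_⟩
    rcases hb with hb | hb
    · exact absurd (hF (ha.trans hb.symm)) hab
    · exact hb
  · exfalso
    have hb' : F b = a := by
      rcases hb with hb | hb
      · exact hb
      · exact absurd (hF (ha.trans hb.symm)) hab
    obtain ⟨m, ⟨k, rfl⟩, hm2⟩ := hm
    have hit : ∀ k, F^[2 * k] a = a := by
      intro k
      induction k with
      | zero => rfl
      | succ k ih =>
        rw [Nat.mul_succ, Function.iterate_add_apply]
        have : F^[2] a = a := by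
          simp only [Function.iterate_succ, Function.iterate_zero, Function.comp_apply, id]
          rw [ha, hb']
        rw [this, ih]
    have h9 := hm2 a
    rw [Nat.add_comm, Function.iterate_add_apply, hit] at h9
    simp only [Function.iterate_one] at h9
    rw [ha] at h9
    exact hab h9.symm

/-- rigidity of a subset under affine bijections of odd order -/
def Rigid {X : Type*} [AddCommGroup X] (D : Set X) : Prop :=
  ∀ (T : X →+ X) (t : X), Function.Injective T → (∀ x ∈ D, T x + t ∈ D) →
    (∃ m, Odd m ∧ ∀ x, (fun x => T x + t)^[m] x = x) → t = 0 ∧ ∀ x, T x = x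

theorem Rigid.compl {X : Type*} [AddCommGroup X] [Finite X] {D : Set X} (h : Rigid D) :
    Rigid Dᶜ := by
  intro T t hT hD hm
  have hF : Function.Injective (fun x => T x + t) := fun x y hxy => hT (add_right_cancel hxy)
  refine h T t hT ?_ hm
  -- the restriction to `Dᶜ` is surjective onto `Dᶜ`
  intro x hx
  by_contra hx'
  have himg : (fun x => T x + t) '' Dᶜ = Dᶜ := by
    refine Set.eq_of_subset_of_ncard_le ?_ ?_ (Set.toFinite _)
    · rintro _ ⟨x, hx, rfl⟩; exact hD x hx
    · rw [Set.ncard_image_of_injective _ hF]
  have hx'' : T x + t ∈ (fun x => T x + t) '' Dᶜ := by rw [himg]; exact hx'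
  obtain ⟨y, hy, hyx⟩ := hx''
  have : y = x := hF hyx
  rw [this] at hy
  exact hy hx

theorem aff_odd (n : ℕ) : ∀ (X : Type _) [AddCommGroup X] [Finite X], Nat.card X = n →
    Odd (Nat.card X) → ∃ D : Set X, Rigid D := by
  induction n using Nat.strong_induction_on with
  | _ n ih =>
  intro X _ _ hXn hX
  classical
  obtain ⟨N, n, hn, ⟨e⟩⟩ := exists_coord X
  have hcard : Nat.card X = ∏ i, n i := by
    rw [Nat.card_congr e.toEquiv, Nat.card_pi]
    simp
  have hodd : ∀ i, Odd (n i) := by
    intro i
    rw [hcard, Finset.prod_eq_mul_prod_sdiff_singleton_of_mem (Finset.mem_univ i)] at hX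
    exact (Nat.odd_mul.mp hX).1
  have hn3 : ∀ i, 3 ≤ n i := by
    intro i
    have h1 := hn i
    have h2 := hodd i
    rcases h2 with ⟨k, hk⟩
    omega
  have hne : ∀ i, ind e {i} ≠ 0 := by
    intro i h
    rw [← ind_empty e] at h
    have := ind_inj e hn h
    exact absurd this (Finset.singleton_ne_empty i)
  by_cases hN : N ≤ 1
  · -- cyclic groups
    by_cases hN0 : N = 0
    · subst hN0
      have hsub : Subsingleton X := e.toEquiv.subsingleton
      exact ⟨∅, fun T t _ _ _ => ⟨Subsingleton.elim _ _, fun x => Subsingleton.elim _ _⟩⟩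
    have hN1 : N = 1 := by omega
    subst hN1
    let b : X := ind e {0}
    have hb : b ≠ 0 := hne 0
    refine ⟨{0, b}, fun T t hT hD hm => ?_⟩
    have hF : Function.Injective (fun x => T x + t) := fun x y hxy => hT (add_right_cancel hxy)
    have h1 := pair_fix (fun x => T x + t) hF hm (a := 0) (b := b) hb.symm
      (hD 0 (by simp)) (hD b (by simp))
    simp only [map_zero, zero_add] at h1
    refine ⟨h1.1, fun x => ?_⟩
    refine eq_id_of_fix e hn T (fun i => ?_) x
    have : i = 0 := Subsingleton.elim _ _
    rw [this]
    have h2 := h1.2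
    rw [h1.1, add_zero] at h2
    exact h2
  by_cases hN2 : N = 2
  · -- the parallelogram
    subst hN2
    let a : X := ind e {0}
    let b : X := ind e {1}
    have hab : a ≠ b := by
      intro h
      have := ind_inj e hn h
      rw [Finset.singleton_inj] at this
      exact absurd this (by decide)
    have ha : a ≠ 0 := hne 0
    have hb : b ≠ 0 := hne 1
    have hdbl : ∀ x : X, x + x = 0 → x = 0 := by
      intro x hx
      obtain ⟨k, hk⟩ := hX
      have h1 : Nat.card X • x = 0 := card_nsmul_eq_zero'
      have h2 : (2 * k + 1) • x = k • (x + x) + x := by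
        rw [add_nsmul, one_nsmul, mul_comm, mul_nsmul', two_nsmul]
      rw [hk, h2, hx, nsmul_zero, zero_add] at h1
      exact h1
    have hab0 : a + b ≠ 0 := by
      intro h
      have h1 := ind_pair e (i := 0) (j := 1) (by decide)
      have h2 : ind e ({0, 1} : Finset (Fin 2)) = ind e ∅ := by
        rw [← h1, ind_empty]; exact h
      have := ind_inj e hn h2
      exact absurd this (Finset.insert_ne_empty _ _)
    refine ⟨{0, a, b, a + b}, fun T t hT hD hm => ?_⟩
    set F : X → X := fun x => T x + t with hFdef
    have hF : Function.Injective F := fun x y hxy => hT (add_right_cancel hxy)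
    have hrel : F 0 + F (a + b) = F a + F b := by
      simp only [hFdef, map_add, map_zero]; abel
    have h0 : F 0 = 0 ∨ F 0 = a ∨ F 0 = b ∨ F 0 = a + b := hD 0 (by simp)
    have h1 : F (a + b) = 0 ∨ F (a + b) = a ∨ F (a + b) = b ∨ F (a + b) = a + b :=
      hD (a + b) (by simp)
    have h2 : F a = 0 ∨ F a = a ∨ F a = b ∨ F a = a + b := hD a (by simp)
    have h3 : F b = 0 ∨ F b = a ∨ F b = b ∨ F b = a + b := hD b (by simp)
    have n01 : F 0 ≠ F (a + b) := fun h => hab0 (hF h).symm
    have n02 : F 0 ≠ F a := fun h => ha (hF h).symm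
    have n03 : F 0 ≠ F b := fun h => hb (hF h).symm
    have n12 : F (a + b) ≠ F a := fun h => hb (by simpa using hF h)
    have n13 : F (a + b) ≠ F b := fun h => ha (by simpa using hF h)
    have n23 : F a ≠ F b := fun h => hab (hF h)
    have h2inj : ∀ x y : X, x + x = y + y → x = y := by
      intro x y hxy
      have : (x - y) + (x - y) = 0 := by
        have h : (x - y) + (x - y) = (x + x) - (y + y) := by abel
        rw [h, hxy, sub_self]
      exact sub_eq_zero.mp (hdbl _ this)
    have hsum : F 0 + F (a + b) = a + b := by
      let s : Finset X := {0, a, b, a + b}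
      have hs : s.image F = s := by
        refine Finset.eq_of_subset_of_card_le ?_ (Finset.card_image_of_injective s hF).ge
        intro x hx
        obtain ⟨y, hy, rfl⟩ := Finset.mem_image.mp hx
        have := hD y (by simpa [s] using hy)
        simpa [s] using this
      have h4 : ∑ x ∈ s, F x = ∑ x ∈ s, x := by
        rw [← Finset.sum_image (f := fun x => x) (fun x _ y _ h => hF h), hs]
      have hs4 : ∀ f : X → X, ∑ x ∈ s, f x = f 0 + (f a + (f b + f (a + b))) := by
        intro f
        have e1 : (0 : X) ∉ ({a, b, a + b} : Finset X) := by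
          simp only [Finset.mem_insert, Finset.mem_singleton, not_or]
          exact ⟨ha.symm, hb.symm, hab0.symm⟩
        have e2 : a ∉ ({b, a + b} : Finset X) := by
          simp only [Finset.mem_insert, Finset.mem_singleton, not_or]
          exact ⟨hab, fun h => hb (by simpa using h)⟩
        have e3 : b ∉ ({a + b} : Finset X) := by
          simp only [Finset.mem_singleton]
          exact fun h => ha (by simpa using h)
        rw [Finset.sum_insert e1, Finset.sum_insert e2, Finset.sum_insert e3,
          Finset.sum_singleton]
      rw [hs4, hs4] at h4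
      apply h2inj
      have h5 : F 0 + (F a + (F b + F (a + b))) = (F 0 + F (a + b)) + (F a + F b) := by abel
      rw [h5, ← hrel] at h4
      rw [h4]; abel
    have hsum' : F a + F b = a + b := by rw [← hrel, hsum]
    have hcase : ((F 0 = 0 ∨ F 0 = a + b) ∧ (F (a + b) = 0 ∨ F (a + b) = a + b) ∧
        (F a = a ∨ F a = b) ∧ (F b = a ∨ F b = b)) ∨
        ((F 0 = a ∨ F 0 = b) ∧ (F (a + b) = a ∨ F (a + b) = b) ∧
        (F a = 0 ∨ F a = a + b) ∧ (F b = 0 ∨ F b = a + b)) := by
      have c1 : (F 0 = 0 ∨ F 0 = a + b) → (F (a + b) = 0 ∨ F (a + b) = a + b) := by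
        rintro (h | h)
        · right; rw [h, zero_add] at hsum; exact hsum
        · left; rw [h] at hsum; exact (add_eq_left.mp hsum)
      have c2 : (F 0 = a ∨ F 0 = b) → (F (a + b) = a ∨ F (a + b) = b) := by
        rintro (h | h)
        · right; rw [h] at hsum; exact add_left_cancel hsum
        · left; rw [h] at hsum; exact add_left_cancel (hsum.trans (add_comm a b))
      have c3 : (F 0 = 0 ∨ F 0 = a + b) → ∀ y, (y = F a ∨ y = F b) →
          (y = 0 ∨ y = a ∨ y = b ∨ y = a + b) → (y = a ∨ y = b) := by
        intro h y hy hy4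
        have h' := c1 h
        have d1 : y ≠ 0 := by
          intro hy0
          rcases h with h | h
          · rcases hy with hy | hy
            · exact n02 (by rw [h, ← hy, hy0])
            · exact n03 (by rw [h, ← hy, hy0])
          · rcases h' with h' | h'
            · rcases hy with hy | hy
              · exact n12 (by rw [h', ← hy, hy0])
              · exact n13 (by rw [h', ← hy, hy0])
            · exact n01 (by rw [h, h'])
        have d2 : y ≠ a + b := by
          intro hy0
          rcases h with h | h
          · rcases h' with h' | h'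
            · exact n01 (by rw [h, h'])
            · rcases hy with hy | hy
              · exact n12 (by rw [h', ← hy, hy0])
              · exact n13 (by rw [h', ← hy, hy0])
          · rcases hy with hy | hy
            · exact n02 (by rw [h, ← hy, hy0])
            · exact n03 (by rw [h, ← hy, hy0])
        rcases hy4 with h | h | h | h
        · exact absurd h d1
        · exact Or.inl h
        · exact Or.inr h
        · exact absurd h d2
      have c4 : (F 0 = a ∨ F 0 = b) → ∀ y, (y = F a ∨ y = F b) →
          (y = 0 ∨ y = a ∨ y = b ∨ y = a + b) → (y = 0 ∨ y = a + b) := by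
        intro h y hy hy4
        have h' := c2 h
        have d1 : y ≠ a := by
          intro hy0
          rcases h with h | h
          · rcases hy with hy | hy
            · exact n02 (by rw [h, ← hy, hy0])
            · exact n03 (by rw [h, ← hy, hy0])
          · rcases h' with h' | h'
            · rcases hy with hy | hy
              · exact n12 (by rw [h', ← hy, hy0])
              · exact n13 (by rw [h', ← hy, hy0])
            · exact n01 (by rw [h, h'])
        have d2 : y ≠ b := by
          intro hy0
          rcases h with h | h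
          · rcases h' with h' | h'
            · exact n01 (by rw [h, h'])
            · rcases hy with hy | hy
              · exact n12 (by rw [h', ← hy, hy0])
              · exact n13 (by rw [h', ← hy, hy0])
          · rcases hy with hy | hy
            · exact n02 (by rw [h, ← hy, hy0])
            · exact n03 (by rw [h, ← hy, hy0])
        rcases hy4 with h | h | h | h
        · exact Or.inl h
        · exact absurd h d1
        · exact absurd h d2
        · exact Or.inr h
      by_cases hc : F 0 = 0 ∨ F 0 = a + b
      · left
        exact ⟨hc, c1 hc, c3 hc _ (Or.inl rfl) h2, c3 hc _ (Or.inr rfl) h3⟩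
      · right
        have hc' : F 0 = a ∨ F 0 = b := by
          rcases h0 with h | h | h | h
          · exact absurd (Or.inl h) hc
          · exact Or.inl h
          · exact Or.inr h
          · exact absurd (Or.inr h) hc
        exact ⟨hc', c2 hc', c4 hc' _ (Or.inl rfl) h2, c4 hc' _ (Or.inr rfl) h3⟩
    have hF2 : Function.Injective (fun x => F (F x)) := fun x y h => hF (hF h)
    have hm2 : ∃ m, Odd m ∧ ∀ x, (fun x => F (F x))^[m] x = x := by
      obtain ⟨m, hm1, hm2⟩ := hm
      refine ⟨m, hm1, fun x => ?_⟩
      have : (fun x => F (F x)) = F^[2] := by funext x; rfl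
      rw [this, ← Function.iterate_mul, mul_comm, Function.iterate_mul]
      have h : F^[m] = id := funext hm2
      rw [h]; simp
    have e1 := pair_fix (fun x => F (F x)) hF2 hm2 (a := 0) (b := a + b) hab0.symm
      (by
        rcases hcase with ⟨q0, q1, q2, q3⟩ | ⟨q0, q1, q2, q3⟩
        · rcases q0 with q | q <;> rw [q]
          · rw [q]; exact Or.inl rfl
          · exact q1
        · rcases q0 with q | q <;> rw [q]
          · exact q2
          · exact q3)
      (by
        rcases hcase with ⟨q0, q1, q2, q3⟩ | ⟨q0, q1, q2, q3⟩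
        · rcases q1 with q | q <;> rw [q]
          · exact q0
          · rw [q]; exact Or.inr rfl
        · rcases q1 with q | q <;> rw [q]
          · exact q2
          · exact q3)
    have e2 := pair_fix (fun x => F (F x)) hF2 hm2 (a := a) (b := b) hab
      (by
        rcases hcase with ⟨q0, q1, q2, q3⟩ | ⟨q0, q1, q2, q3⟩
        · rcases q2 with q | q <;> rw [q]
          · rw [q]; exact Or.inl rfl
          · exact q3
        · rcases q2 with q | q <;> rw [q]
          · exact q0
          · exact q1)
      (by
        rcases hcase with ⟨q0, q1, q2, q3⟩ | ⟨q0, q1, q2, q3⟩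
        · rcases q3 with q | q <;> rw [q]
          · exact q2
          · rw [q]; exact Or.inr rfl
        · rcases q3 with q | q <;> rw [q]
          · exact q0
          · exact q1)
    have hTt : T t + t = 0 := by
      have := e1.1
      simpa [hFdef] using this
    have hFF : ∀ x, F (F x) = T (T x) := by
      intro x
      simp only [hFdef, map_add]
      rw [add_assoc, hTt, add_zero]
    have hTT : ∀ x, (T.comp T) x = x := by
      refine eq_id_of_fix e hn (T.comp T) (fun i => ?_)
      rw [AddMonoidHom.comp_apply, ← hFF]
      fin_cases i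
      · exact e2.1
      · exact e2.2
    have hFid : ∀ x, F x = x := by
      obtain ⟨m, ⟨k, rfl⟩, hm3⟩ := hm
      intro x
      have hit : ∀ k (y : X), F^[2 * k] y = y := by
        intro k
        induction k with
        | zero => intro y; rfl
        | succ k ih =>
          intro y
          rw [Nat.mul_succ, Function.iterate_add_apply]
          have : F^[2] y = y := by
            change F (F y) = y
            rw [hFF]; exact hTT y
          rw [this, ih]
      have h9 := hm3 x
      rw [Nat.add_comm, Function.iterate_add_apply, hit] at h9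
      exact h9
    have ht : t = 0 := by
      have := hFid 0
      simpa [hFdef] using this
    refine ⟨ht, fun x => ?_⟩
    have := hFid x
    simpa [hFdef, ht] using this
  -- at least three factors
  have hN3 : 3 ≤ N := by omega
  let l : Fin N := ⟨N - 1, by omega⟩
  let y : X := ind e {l}
  let Y : AddSubgroup X := ((Pi.evalAddMonoidHom (fun i => ZMod (n i)) l).comp e.toAddMonoidHom).ker
  have hY : ∀ x, x ∈ Y ↔ e x l = 0 := fun x => by
    simp only [Y, AddMonoidHom.mem_ker, AddMonoidHom.comp_apply]
    rfl
  have hsurj : Function.Surjective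
      ((Pi.evalAddMonoidHom (fun i => ZMod (n i)) l).comp e.toAddMonoidHom) := by
    intro z
    refine ⟨e.symm (Pi.single l z), ?_⟩
    simp
  have hindex : Y.index = n l := by
    rw [AddSubgroup.index_ker, AddMonoidHom.range_eq_top.mpr hsurj, AddSubgroup.card_top]
    simp
  have hYX : Nat.card Y * n l = Nat.card X := by
    rw [← hindex]; exact AddSubgroup.card_mul_index Y
  have hXpos : 0 < Nat.card X := Nat.card_pos
  have hYlt : Nat.card Y < Nat.card X := by
    have := hn3 l
    have h1 : 0 < Nat.card Y := Nat.card_pos
    nlinarith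
  have hYodd : Odd (Nat.card Y) := by
    rw [← hYX] at hX
    exact (Nat.odd_mul.mp hX).1
  have hY9 : 9 ≤ Nat.card Y := by
    have h27 : 9 * n l ≤ Nat.card X := by
      rw [hcard]
      let i0 : Fin N := ⟨0, by omega⟩
      let i1 : Fin N := ⟨1, by omega⟩
      have hsub : ({i0, i1, l} : Finset (Fin N)) ⊆ Finset.univ := Finset.subset_univ _
      have h1 : ∏ i ∈ ({i0, i1, l} : Finset (Fin N)), n i ≤ ∏ i, n i :=
        Finset.prod_le_prod_of_subset_of_one_le' hsub (fun i _ _ => by have := hn i; omega)
      refine le_trans ?_ h1
      have e1 : i0 ∉ ({i1, l} : Finset (Fin N)) := by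
        simp only [Finset.mem_insert, Finset.mem_singleton, not_or, i0, i1, l, Fin.mk.injEq]
        omega
      have e2 : i1 ∉ ({l} : Finset (Fin N)) := by
        simp only [Finset.mem_singleton, i1, l, Fin.mk.injEq]
        omega
      rw [Finset.prod_insert e1, Finset.prod_insert e2, Finset.prod_singleton]
      have := hn3 i0
      have := hn3 i1
      have h4 : 9 ≤ n i0 * n i1 := by nlinarith
      nlinarith [Nat.zero_le (n l)]
    rw [← hYX] at h27
    exact Nat.le_of_mul_le_mul_right h27 (by have := hn3 l; omega)
  have hyY : y ∉ Y := by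
    rw [hY]
    change e (ind e {l}) l ≠ 0
    rw [ind_apply, if_pos (Finset.mem_singleton_self l)]
    have : Fact (1 < n l) := ⟨hn l⟩
    exact one_ne_zero
  -- a rigid subset of `Y` with more than half of the elements
  obtain ⟨D0, hD0, hD0c⟩ : ∃ D0 : Set Y, Rigid D0 ∧ Nat.card Y < 2 * D0.ncard := by
    obtain ⟨D1, hD1⟩ := ih (Nat.card Y) (hXn ▸ hYlt) Y rfl hYodd
    have hc : D1.ncard + D1ᶜ.ncard = Nat.card Y := Set.ncard_add_ncard_compl D1
    by_cases h : Nat.card Y < 2 * D1.ncard
    · exact ⟨D1, hD1, h⟩
    · refine ⟨D1ᶜ, hD1.compl, ?_⟩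
      obtain ⟨k, hk⟩ := hYodd
      omega
  refine ⟨insert y ((fun x : Y => (x : X)) '' D0), fun T t hT hD hm => ?_⟩
  set F : X → X := fun x => T x + t with hFdef
  have hF : Function.Injective F := fun x y hxy => hT (add_right_cancel hxy)
  -- `T` preserves `Y`
  let W : AddSubgroup X := Y ⊓ Y.map T
  have hWY : W = Y := by
    by_contra hne'
    have hWlt : 3 * Nat.card W ≤ Nat.card Y := by
      have hle : W ≤ Y := inf_le_left
      have h1 : W.relIndex Y * Nat.card W = Nat.card Y := by
        rw [mul_comm, ← AddSubgroup.relIndex_bot_left, ← AddSubgroup.relIndex_bot_left]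
        exact AddSubgroup.relIndex_mul_relIndex _ _ _ bot_le hle
      have h2 : W.relIndex Y ≠ 1 := by
        intro h
        exact hne' (le_antisymm hle (AddSubgroup.relIndex_eq_one.mp h))
      have h3 : Odd (W.relIndex Y) := by
        rw [← h1] at hYodd
        exact (Nat.odd_mul.mp hYodd).1
      have h4 : 3 ≤ W.relIndex Y := by
        obtain ⟨k, hk⟩ := h3; omega
      rw [← h1]
      exact Nat.mul_le_mul_right _ h4
    -- the elements of `D0` with image in `Y`
    let E : Set Y := {x | x ∈ D0 ∧ F x ∈ Y}
    have hE1 : D0.ncard ≤ E.ncard + 1 := by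
      have hsub : D0 ⊆ E ∪ {x | x ∈ D0 ∧ F x = y} := by
        intro x hx
        have h1 := hD x (Set.mem_insert_of_mem _ ⟨x, hx, rfl⟩)
        rcases h1 with h1 | ⟨z, hz, h1⟩
        · exact Or.inr ⟨hx, h1⟩
        · refine Or.inl ⟨hx, ?_⟩
          have : F x = z := h1.symm
          rw [this]; exact z.2
      have h2 : ({x | x ∈ D0 ∧ F x = y} : Set Y).ncard ≤ 1 := by
        rw [Set.ncard_le_one (Set.toFinite _)]
        intro a ha b hb
        exact Subtype.ext (hF (ha.2.trans hb.2.symm))
      calc D0.ncard ≤ (E ∪ {x | x ∈ D0 ∧ F x = y}).ncard :=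
            Set.ncard_le_ncard hsub (Set.toFinite _)
        _ ≤ E.ncard + ({x | x ∈ D0 ∧ F x = y} : Set Y).ncard := Set.ncard_union_le _ _
        _ ≤ E.ncard + 1 := by omega
    have hE2 : E.ncard ≤ Nat.card W := by
      rcases Set.eq_empty_or_nonempty E with h | ⟨x0, hx0⟩
      · rw [h, Set.ncard_empty]; exact Nat.zero_le _
      · let f : Y → X := fun x => F x - F x0
        have hf : Function.Injective f := fun a b hab => Subtype.ext (hF (sub_left_injective hab))
        have h1 : f '' E ⊆ (W : Set X) := by
          rintro _ ⟨x, hx, rfl⟩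
          refine ⟨Y.sub_mem hx.2 hx0.2, ?_⟩
          refine ⟨(x : X) - x0, Y.sub_mem x.2 x0.2, ?_⟩
          simp only [f, hFdef, map_sub]
          abel
        calc E.ncard = (f '' E).ncard := (Set.ncard_image_of_injective E hf).symm
          _ ≤ (W : Set X).ncard := Set.ncard_le_ncard h1 (Set.toFinite _)
          _ = Nat.card W := by rw [← Nat.card_coe_set_eq]; rfl
    omega
  have hYT : Y ≤ Y.map T := by
    have h1 : W ≤ Y.map T := inf_le_right
    rw [hWY] at h1; exact h1
  have hTY : Y.map T = Y := by
    symm
    refine AddSubgroup.eq_of_le_of_card_ge hYT ?_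
    exact (Nat.card_congr (AddSubgroup.equivMapOfInjective Y T hT).toEquiv).ge
  have hTmem : ∀ x ∈ Y, T x ∈ Y := by
    intro x hx
    rw [← hTY]; exact ⟨x, hx, rfl⟩
  have htY : t ∈ Y := by
    -- two elements of `D0`; one of them is mapped into `Y`
    have hex : ∃ x : Y, x ∈ D0 ∧ F x ∈ Y := by
      by_contra hcon
      push Not at hcon
      have h2 : D0.ncard ≤ 1 := by
        rw [Set.ncard_le_one (Set.toFinite _)]
        intro a ha b hb
        have h1 : ∀ x : Y, x ∈ D0 → F x = y := by
          intro x hx
          have h1 := hD x (Set.mem_insert_of_mem _ ⟨x, hx, rfl⟩)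
          rcases h1 with h1 | ⟨z, hz, h1⟩
          · exact h1
          · exfalso
            have : F x = z := h1.symm
            exact hcon x hx (by rw [this]; exact z.2)
        exact Subtype.ext (hF ((h1 a ha).trans (h1 b hb).symm))
      omega
    obtain ⟨x, -, hx⟩ := hex
    have h1 := Y.sub_mem hx (hTmem x x.2)
    simpa [hFdef] using h1
  have hFmem : ∀ x ∈ Y, F x ∈ Y := fun x hx => Y.add_mem (hTmem x hx) htY
  have hFmem' : ∀ x, F x ∈ Y → x ∈ Y := by
    intro x hx
    have h1 : T x ∈ Y := by
      have := Y.sub_mem hx htY
      simpa [hFdef] using this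
    rw [← hTY] at h1
    obtain ⟨z, hz, hzx⟩ := h1
    rw [← hT hzx]; exact hz
  let TY : Y →+ Y := (T.comp Y.subtype).codRestrict Y (fun x => hTmem x x.2)
  have hrig := hD0 TY ⟨t, htY⟩ (by
      intro a b hab
      have : T a = T b := congrArg Subtype.val hab
      exact Subtype.ext (hT this)) (by
      intro x hx
      have h1 := hD x (Set.mem_insert_of_mem _ ⟨x, hx, rfl⟩)
      rcases h1 with h1 | ⟨z, hz, h1⟩
      · exact absurd (h1 ▸ hFmem x x.2) hyY
      · have : TY x + ⟨t, htY⟩ = z := Subtype.ext h1.symm
        rw [this]; exact hz) (by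
      obtain ⟨m, hm1, hm2⟩ := hm
      refine ⟨m, hm1, fun x => ?_⟩
      have hit : ∀ k (x : Y), (((fun x => TY x + ⟨t, htY⟩)^[k] x : Y) : X) = F^[k] x := by
        intro k
        induction k with
        | zero => intro x; rfl
        | succ k ih =>
          intro x
          rw [Function.iterate_succ_apply, Function.iterate_succ_apply, ih]
          rfl
      exact Subtype.ext ((hit m x).trans (hm2 x)))
  have ht0 : t = 0 := congrArg Subtype.val hrig.1
  have hTfix : ∀ x ∈ Y, T x = x := fun x hx => congrArg Subtype.val (hrig.2 ⟨x, hx⟩)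
  have hTy : T y = y := by
    have h1 := hD y (Set.mem_insert _ _)
    rcases h1 with h1 | ⟨z, hz, h1⟩
    · rw [ht0, add_zero] at h1; exact h1
    · exfalso
      apply hyY
      apply hFmem'
      have : F y = z := h1.symm
      rw [this]; exact z.2
  refine ⟨ht0, fun x => eq_id_of_fix e hn T (fun i => ?_) x⟩
  by_cases hi : i = l
  · rw [hi]; exact hTy
  · apply hTfix
    rw [hY, ind_apply, if_neg]
    rw [Finset.mem_singleton]
    exact fun h => hi h.symm

end Cfsg.Agent.H578.Aff
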