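import Mathlib

/-!
# Rigid colourings of finite abelian groups (helper578)

* `c4`: every finite abelian group has a colouring of its nonzero elements by 4 colours which is
  preserved by no nontrivial automorphism.
* `c2odd`: an abelian group of odd order has a subset `D` of nonzero elements preserved by no
  nontrivial automorphism of odd order, such that a quadratic function vanishing outside `D` is
  trivial.
-/

set_option autoImplicit false

namespace Cfsg.Agent.H578.Comb

/-- An injective walk with steps `± 1` is monotone. -/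
theorem walk (n : ℕ) (f : ℕ → ℤ)
    (hstep : ∀ i, i + 1 < n → (f (i + 1) = f i + 1 ∨ f (i + 1) = f i - 1))
    (hinj : ∀ i j, i < n → j < n → f i = f j → i = j) :
    (∀ i, i < n → f i = f 0 + i) ∨ (∀ i, i < n → f i = f 0 - i) := by
  by_cases h1 : 1 < n
  · rcases hstep 0 h1 with h | h
    · left
      have key : ∀ i, i + 1 < n → f i = f 0 + i ∧ f (i + 1) = f 0 + (i + 1) := by
        intro i
        induction i with
        | zero => intro _; simp at h ⊢; exact h
        | succ i ih =>
          intro hi
          obtain ⟨ha, hb⟩ := ih (by omega)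
          refine ⟨by push_cast; exact hb, ?_⟩
          rcases hstep (i + 1) hi with h' | h'
          · push_cast; rw [h', hb]; ring
          · exfalso
            have : i + 1 + 1 = i := hinj _ _ hi (by omega) (by rw [h', hb, ha]; ring)
            omega
      intro i hi
      rcases Nat.eq_zero_or_pos i with h0 | h0
      · subst h0; simp
      · obtain ⟨j, rfl⟩ : ∃ j, i = j + 1 := ⟨i - 1, by omega⟩
        have := (key j hi).2
        push_cast; exact this
    · right
      have key : ∀ i, i + 1 < n → f i = f 0 - i ∧ f (i + 1) = f 0 - (i + 1) := by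
        intro i
        induction i with
        | zero => intro _; simp at h ⊢; exact h
        | succ i ih =>
          intro hi
          obtain ⟨ha, hb⟩ := ih (by omega)
          refine ⟨by push_cast; exact hb, ?_⟩
          rcases hstep (i + 1) hi with h' | h'
          · exfalso
            have : i + 1 + 1 = i := hinj _ _ hi (by omega) (by rw [h', hb, ha]; ring)
            omega
          · push_cast; rw [h', hb]; ring
      intro i hi
      rcases Nat.eq_zero_or_pos i with h0 | h0
      · subst h0; simp
      · obtain ⟨j, rfl⟩ : ∃ j, i = j + 1 := ⟨i - 1, by omega⟩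
        have := (key j hi).2
        push_cast; exact this
  · left
    intro i hi
    have : i = 0 := by omega
    subst this; simp

/-- A permutation of `Fin N` which preserves adjacency is the identity or the reversal. -/
theorem path_aut {N : ℕ} (σ : Fin N → Fin N) (hinj : Function.Injective σ)
    (hadj : ∀ i j : Fin N, j.val = i.val + 1 →
      ((σ j).val = (σ i).val + 1 ∨ (σ i).val = (σ j).val + 1)) :
    (∀ i, (σ i).val = i.val) ∨ (∀ i, (σ i).val + i.val + 1 = N) := by
  rcases Nat.eq_zero_or_pos N with h0 | hN
  · subst h0; left; intro i; exact i.elim0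
  let f : ℕ → ℤ := fun i => if h : i < N then ((σ ⟨i, h⟩).val : ℤ) else 0
  have hf : ∀ i (h : i < N), f i = ((σ ⟨i, h⟩).val : ℤ) := fun i h => dif_pos h
  have hw := walk N f (by
    intro i hi
    rw [hf _ hi, hf i (by omega)]
    rcases hadj ⟨i, by omega⟩ ⟨i + 1, hi⟩ rfl with h | h
    · left; rw [h]; push_cast; ring
    · right; rw [h]; push_cast; ring) (by
    intro i j hi hj h
    rw [hf i hi, hf j hj] at h
    have : σ ⟨i, hi⟩ = σ ⟨j, hj⟩ := Fin.ext (by exact_mod_cast h)
    have := hinj this
    simpa using this)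
  rcases hw with hw | hw
  · left
    have h0 := hw (N - 1) (by omega)
    rw [hf _ (by omega), hf 0 hN] at h0
    have h1 := (σ ⟨N - 1, by omega⟩).isLt
    have h2 : (σ ⟨0, hN⟩).val = 0 := by omega
    intro i
    have h3 := hw i.val i.isLt
    rw [hf _ i.isLt, hf 0 hN, h2] at h3
    have h4 : σ ⟨i.val, i.isLt⟩ = σ i := rfl
    rw [h4] at h3
    omega
  · right
    have h0 := hw (N - 1) (by omega)
    rw [hf _ (by omega), hf 0 hN] at h0
    have h1 := (σ ⟨0, hN⟩).isLt
    have h2 : (σ ⟨0, hN⟩).val = N - 1 := by omega
    intro i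
    have h3 := hw i.val i.isLt
    rw [hf _ i.isLt, hf 0 hN, h2] at h3
    have h4 : σ ⟨i.val, i.isLt⟩ = σ i := rfl
    rw [h4] at h3
    have := i.isLt
    omega

section Ind

variable {X : Type*} [AddCommGroup X] {N : ℕ} {n : Fin N → ℕ}
  (e : X ≃+ ((i : Fin N) → ZMod (n i)))

open Classical in
/-- The element with coordinates 1 on `S` and 0 outside. -/
noncomputable def ind (S : Finset (Fin N)) : X := e.symm (fun i => if i ∈ S then 1 else 0)

open Classical in
theorem ind_apply (S : Finset (Fin N)) (i : Fin N) :
    e (ind e S) i = if i ∈ S then 1 else 0 := by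
  simp [ind]

theorem ind_inj (hn : ∀ i, 1 < n i) {S T : Finset (Fin N)} (h : ind e S = ind e T) : S = T := by
  classical
  ext i
  have h1 : e (ind e S) i = e (ind e T) i := by rw [h]
  rw [ind_apply, ind_apply] at h1
  have : Fact (1 < n i) := ⟨hn i⟩
  by_cases hS : i ∈ S <;> by_cases hT : i ∈ T <;> simp_all

theorem ind_empty : ind e ∅ = 0 := by
  classical
  unfold ind
  simp only [Finset.notMem_empty, if_false]
  exact map_zero e.symm

theorem ind_union {S T : Finset (Fin N)} (h : Disjoint S T) :
    ind e S + ind e T = ind e (S ∪ T) := by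
  classical
  apply e.injective
  rw [map_add]
  funext i
  rw [Pi.add_apply, ind_apply, ind_apply, ind_apply]
  by_cases hS : i ∈ S
  · have hT : i ∉ T := Finset.disjoint_left.mp h hS
    simp [hS, hT]
  · by_cases hT : i ∈ T <;> simp [hS, hT]

theorem ind_pair {i j : Fin N} (h : i ≠ j) : ind e {i} + ind e {j} = ind e {i, j} := by
  classical
  rw [ind_union e (Finset.disjoint_singleton.mpr h)]
  rfl

/-- In odd characteristics, a sum of two indicators is an indicator only if the supports are
disjoint. -/
theorem ind_add_odd (hn : ∀ i, 1 < n i) (hodd : ∀ i, Odd (n i)) {S T U : Finset (Fin N)}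
    (h : ind e S + ind e T = ind e U) : Disjoint S T ∧ U = S ∪ T := by
  classical
  have hdis : Disjoint S T := by
    rw [Finset.disjoint_left]
    intro i hS hT
    have h1 : e (ind e S + ind e T) i = e (ind e U) i := by rw [h]
    rw [map_add, Pi.add_apply, ind_apply, ind_apply, ind_apply, if_pos hS, if_pos hT] at h1
    have : Fact (1 < n i) := ⟨hn i⟩
    have : NeZero (n i) := ⟨by have := hn i; omega⟩
    by_cases hU : i ∈ U
    · rw [if_pos hU] at h1
      have : (1 : ZMod (n i)) = 0 := by
        have h2 : (1 : ZMod (n i)) + 1 = 1 + 0 := by rw [h1, add_zero]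
        exact add_left_cancel h2
      exact one_ne_zero this
    · rw [if_neg hU] at h1
      have h2 : ((2 : ℕ) : ZMod (n i)) = 0 := by
        push_cast
        rw [← h1]; norm_num
      rw [ZMod.natCast_eq_zero_iff] at h2
      have h3 := Nat.le_of_dvd (by norm_num) h2
      have h4 := hn i
      have h5 : n i = 2 := by omega
      have h6 := hodd i
      rw [h5] at h6
      exact absurd h6 (by decide)
  refine ⟨hdis, ?_⟩
  rw [ind_union e hdis] at h
  exact (ind_inj e hn h).symm

/-- A homomorphism which fixes all `ind {i}` is the identity. -/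
theorem eq_id_of_fix (hn : ∀ i, 1 < n i) (T : X →+ X) (h : ∀ i, T (ind e {i}) = ind e {i})
    (x : X) : T x = x := by
  classical
  have hx : x = ∑ i, (e x i).val • ind e {i} := by
    apply e.injective
    rw [map_sum]
    funext j
    rw [Finset.sum_apply]
    rw [Finset.sum_eq_single j]
    · rw [map_nsmul, Pi.smul_apply, ind_apply, if_pos (Finset.mem_singleton_self j)]
      have : NeZero (n j) := ⟨by have := hn j; omega⟩
      rw [nsmul_eq_mul, mul_one, ZMod.natCast_zmod_val]
    · intro b _ hb
      rw [map_nsmul, Pi.smul_apply, ind_apply, if_neg (by simpa using fun h => hb h.symm)]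
      simp
    · intro h; exact absurd (Finset.mem_univ j) h
  conv_lhs => rw [hx]
  rw [map_sum]
  conv_rhs => rw [hx]
  refine Finset.sum_congr rfl (fun i _ => ?_)
  rw [map_nsmul, h i]

end Ind

theorem exists_coord (X : Type*) [AddCommGroup X] [Finite X] :
    ∃ (N : ℕ) (n : Fin N → ℕ), (∀ i, 1 < n i) ∧ Nonempty (X ≃+ ((i : Fin N) → ZMod (n i))) := by
  obtain ⟨ι, hι, n, hn, ⟨f⟩⟩ := AddCommGroup.equiv_directSum_zmod_of_finite' X
  classical
  let g := Fintype.equivFin ι
  refine ⟨Fintype.card ι, fun i => n (g.symm i), fun i => hn _, ⟨?_⟩⟩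
  refine f.trans ((DirectSum.addEquivProd (fun i => ZMod (n i))).trans ?_)
  exact
    { Equiv.piCongrLeft' (fun i => ZMod (n i)) g with
      map_add' := by intro x y; rfl }

/-- **Every finite abelian group has a rigid colouring of its nonzero elements by 4 colours.** -/
theorem c4 (X : Type*) [AddCommGroup X] [Finite X] :
    ∃ κ : X → Fin 4, ∀ T : X →+ X, Function.Injective T →
      (∀ x, x ≠ 0 → κ (T x) = κ x) → ∀ x, T x = x := by
  classical
  obtain ⟨N, n, hn, ⟨e⟩⟩ := exists_coord X
  let P0 : X → Prop := fun x => ∃ i : Fin N, i.val = 0 ∧ x = ind e {i}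
  let P1 : X → Prop := fun x => ∃ i : Fin N, x = ind e {i}
  let P2 : X → Prop := fun x => ∃ i j : Fin N, j.val = i.val + 1 ∧ x = ind e {i, j}
  let κ : X → Fin 4 := fun x => if P0 x then 0 else if P1 x then 1 else if P2 x then 2 else 3
  have hκ0 : ∀ x, κ x = 0 → P0 x := by
    intro x hx
    by_contra h0
    simp only [κ, if_neg h0] at hx
    split_ifs at hx <;> exact absurd hx (by decide)
  have hκ1 : ∀ x, κ x = 1 → ¬ P0 x ∧ P1 x := by
    intro x hx
    by_cases h0 : P0 x
    · simp only [κ, if_pos h0] at hx
      exact absurd hx (by decide)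
    by_cases h1 : P1 x
    · exact ⟨h0, h1⟩
    · simp only [κ, if_neg h0, if_neg h1] at hx
      split_ifs at hx <;> exact absurd hx (by decide)
  have hκ2 : ∀ x, κ x = 2 → P2 x := by
    intro x hx
    by_contra h2
    simp only [κ, if_neg h2] at hx
    split_ifs at hx <;> exact absurd hx (by decide)
  refine ⟨κ, fun T hT hc => ?_⟩
  have hne : ∀ i, ind e {i} ≠ 0 := by
    intro i h
    rw [← ind_empty e] at h
    have := ind_inj e hn h
    exact absurd this (Finset.singleton_ne_empty i)
  -- the images of the basis elements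
  have hσ : ∀ i : Fin N, ∃ j : Fin N, T (ind e {i}) = ind e {j} ∧ (i.val = 0 → j.val = 0) := by
    intro i
    have hci := hc _ (hne i)
    by_cases h0 : i.val = 0
    · have h1 : κ (ind e {i}) = 0 := if_pos ⟨i, h0, rfl⟩
      rw [h1] at hci
      obtain ⟨j, hj, hj'⟩ := hκ0 _ hci
      exact ⟨j, hj', fun _ => hj⟩
    · have h1 : ¬ P0 (ind e {i}) := by
        rintro ⟨j, hj, hj'⟩
        have := ind_inj e hn hj'
        rw [Finset.singleton_inj] at this
        subst this
        exact h0 hj
      have h2 : κ (ind e {i}) = 1 := by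
        simp only [κ, if_neg h1]
        exact if_pos ⟨i, rfl⟩
      rw [h2] at hci
      obtain ⟨-, j, hj⟩ := hκ1 _ hci
      exact ⟨j, hj, fun h => absurd h h0⟩
  choose σ hσ1 hσ2 using hσ
  have hσinj : Function.Injective σ := by
    intro i j hij
    have h1 : T (ind e {i}) = T (ind e {j}) := by rw [hσ1, hσ1, hij]
    have := ind_inj e hn (hT h1)
    rwa [Finset.singleton_inj] at this
  have hadj : ∀ i j : Fin N, j.val = i.val + 1 →
      ((σ j).val = (σ i).val + 1 ∨ (σ i).val = (σ j).val + 1) := by
    intro i j hij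
    have hne' : i ≠ j := by intro h; rw [h] at hij; omega
    have hp0 : ¬ P0 (ind e {i, j}) := by
      rintro ⟨k, -, hk⟩
      have := ind_inj e hn hk
      have := congrArg Finset.card this
      rw [Finset.card_pair hne', Finset.card_singleton] at this
      omega
    have hp1 : ¬ P1 (ind e {i, j}) := by
      rintro ⟨k, hk⟩
      have := ind_inj e hn hk
      have := congrArg Finset.card this
      rw [Finset.card_pair hne', Finset.card_singleton] at this
      omega
    have h2 : κ (ind e {i, j}) = 2 := by
      simp only [κ, if_neg hp0, if_neg hp1]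
      exact if_pos ⟨i, j, hij, rfl⟩
    have h3 : ind e {i, j} ≠ 0 := by
      intro h
      rw [← ind_empty e] at h
      have := congrArg Finset.card (ind_inj e hn h)
      rw [Finset.card_pair hne', Finset.card_empty] at this
      omega
    have h4 := hc _ h3
    rw [h2, ← ind_pair e hne', map_add, hσ1, hσ1,
      ind_pair e (fun h => hne' (hσinj h))] at h4
    obtain ⟨k, l, hkl, h5⟩ := hκ2 _ h4
    have h6 := ind_inj e hn h5
    have hi : σ i = k ∨ σ i = l := by
      have : σ i ∈ ({k, l} : Finset (Fin N)) := by rw [← h6]; simp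
      simpa using this
    have hj : σ j = k ∨ σ j = l := by
      have : σ j ∈ ({k, l} : Finset (Fin N)) := by rw [← h6]; simp
      simpa using this
    have hne'' : σ i ≠ σ j := fun h => hne' (hσinj h)
    rcases hi with hi | hi <;> rcases hj with hj | hj
    · exact absurd (hi.trans hj.symm) hne''
    · left; rw [hi, hj]; exact hkl
    · right; rw [hi, hj]; exact hkl
    · exact absurd (hi.trans hj.symm) hne''
  have hid : ∀ i, σ i = i := by
    rcases path_aut σ hσinj hadj with h | h
    · intro i; exact Fin.ext (h i)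
    · intro i
      have hN : 0 < N := i.pos
      have h1 := h ⟨0, hN⟩
      have h2 := hσ2 ⟨0, hN⟩ rfl
      rw [h2] at h1
      simp at h1
      have h3 := i.isLt
      have h4 := (σ i).isLt
      exact Fin.ext (by omega)
  intro x
  refine eq_id_of_fix e hn T (fun i => ?_) x
  rw [hσ1, hid]

section Odd

variable {X : Type*} [AddCommGroup X] {N : ℕ} {n : Fin N → ℕ}
  (e : X ≃+ ((i : Fin N) → ZMod (n i)))

/-- The zero set: basis elements and sums of consecutive basis elements. -/
def Dset : Set X :=
  {x | (∃ i : Fin N, x = ind e {i}) ∨ ∃ i j : Fin N, j.val = i.val + 1 ∧ x = ind e {i, j}}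

theorem mem_Dset {x : X} (hx : x ∈ Dset e) : ∃ S : Finset (Fin N), x = ind e S ∧
    ((∃ i, S = {i}) ∨ ∃ i j : Fin N, j.val = i.val + 1 ∧ S = {i, j}) := by
  rcases hx with ⟨i, rfl⟩ | ⟨i, j, hij, rfl⟩
  · exact ⟨{i}, rfl, Or.inl ⟨i, rfl⟩⟩
  · exact ⟨{i, j}, rfl, Or.inr ⟨i, j, hij, rfl⟩⟩

theorem not_mem_of_neg (hn : ∀ i, 1 < n i) (hodd : ∀ i, Odd (n i)) {x : X} {j : Fin N}
    (h : e x j = -1) : x ∉ Dset e := by
  classical
  intro hx
  obtain ⟨S, rfl, -⟩ := mem_Dset e hx
  rw [ind_apply] at h
  have : Fact (1 < n j) := ⟨hn j⟩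
  split_ifs at h with h1
  · have h2 : ((2 : ℕ) : ZMod (n j)) = 0 := by
      push_cast
      have : (1 : ZMod (n j)) + 1 = 0 := by rw [h]; nth_rewrite 2 [h]; ring
      rw [← this]; norm_num
    rw [ZMod.natCast_eq_zero_iff] at h2
    have h3 := Nat.le_of_dvd (by norm_num) h2
    have h4 := hn j
    have h5 : n j = 2 := by omega
    have h6 := hodd j
    rw [h5] at h6
    exact absurd h6 (by decide)
  · have h2 : (1 : ZMod (n j)) = 0 := by
      have := congrArg Neg.neg h
      rw [neg_zero, neg_neg] at this
      exact this.symm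
    exact one_ne_zero h2

theorem dset_rigid (hN : 2 ≤ N) (hn : ∀ i, 1 < n i) (hodd : ∀ i, Odd (n i)) (T : X →+ X)
    (hT : Function.Injective T) (hD : ∀ x ∈ Dset e, T x ∈ Dset e)
    (hm : ∃ m, Odd m ∧ ∀ x, T^[m] x = x) : ∀ x, T x = x := by
  classical
  -- consecutive basis elements are mapped to consecutive basis elements
  have key : ∀ i j : Fin N, j.val = i.val + 1 → ∃ k l : Fin N, T (ind e {i}) = ind e {k} ∧
      T (ind e {j}) = ind e {l} ∧ (l.val = k.val + 1 ∨ k.val = l.val + 1) := by
    intro i j hij
    have hne : i ≠ j := by intro h; rw [h] at hij; omega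
    obtain ⟨S, hS, hS'⟩ := mem_Dset e (hD _ (Or.inl ⟨i, rfl⟩))
    obtain ⟨S2, hS2, hS2'⟩ := mem_Dset e (hD _ (Or.inl ⟨j, rfl⟩))
    obtain ⟨U, hU, hU'⟩ := mem_Dset e (hD _ (Or.inr ⟨i, j, hij, rfl⟩))
    rw [← ind_pair e hne, map_add, hS, hS2] at hU
    obtain ⟨hdis, hUS⟩ := ind_add_odd e hn hodd hU
    have hcard : U.card = S.card + S2.card := by
      rw [hUS, Finset.card_union_of_disjoint hdis]
    have hS1 : 1 ≤ S.card := by
      rcases hS' with ⟨k, rfl⟩ | ⟨k, l, -, rfl⟩
      · simp
      · exact Finset.card_pos.mpr ⟨k, by simp⟩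
    have hS21 : 1 ≤ S2.card := by
      rcases hS2' with ⟨k, rfl⟩ | ⟨k, l, -, rfl⟩
      · simp
      · exact Finset.card_pos.mpr ⟨k, by simp⟩
    have hU2 : U.card ≤ 2 := by
      rcases hU' with ⟨k, rfl⟩ | ⟨k, l, -, rfl⟩
      · simp
      · exact Finset.card_le_two
    obtain ⟨k, hk⟩ := Finset.card_eq_one.mp (by omega : S.card = 1)
    obtain ⟨l, hl⟩ := Finset.card_eq_one.mp (by omega : S2.card = 1)
    refine ⟨k, l, by rw [hS, hk], by rw [hS2, hl], ?_⟩
    have hU3 : U.card = 2 := by omega
    rcases hU' with ⟨k', rfl⟩ | ⟨k', l', hkl, hU4⟩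
    · simp at hU3
    · have h6 : ({k, l} : Finset (Fin N)) = {k', l'} := by
        rw [← hU4, hUS, hk, hl]; rfl
      have hkl' : k ≠ l := by
        intro h
        rw [hk, hl, h] at hdis
        simp at hdis
      have hi : k = k' ∨ k = l' := by
        have : k ∈ ({k', l'} : Finset (Fin N)) := by rw [← h6]; simp
        simpa using this
      have hj : l = k' ∨ l = l' := by
        have : l ∈ ({k', l'} : Finset (Fin N)) := by rw [← h6]; simp
        simpa using this
      rcases hi with hi | hi <;> rcases hj with hj | hj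
      · exact absurd (hi.trans hj.symm) hkl'
      · left; rw [hi, hj]; exact hkl
      · right; rw [hi, hj]; exact hkl
      · exact absurd (hi.trans hj.symm) hkl'
  have hσ : ∀ i : Fin N, ∃ j : Fin N, T (ind e {i}) = ind e {j} := by
    intro i
    by_cases hi : i.val + 1 < N
    · obtain ⟨k, l, h1, -, -⟩ := key i ⟨i.val + 1, hi⟩ rfl
      exact ⟨k, h1⟩
    · obtain ⟨k, l, -, h1, -⟩ := key ⟨i.val - 1, by omega⟩ i (by simp; omega)
      exact ⟨l, h1⟩
  choose σ hσ1 using hσ
  have hσinj : Function.Injective σ := by
    intro i j hij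
    have h1 : T (ind e {i}) = T (ind e {j}) := by rw [hσ1, hσ1, hij]
    have := ind_inj e hn (hT h1)
    rwa [Finset.singleton_inj] at this
  have hs : ∀ {k l : Fin N}, ind e {k} = ind e {l} → k = l := by
    intro k l h
    have := ind_inj e hn h
    rwa [Finset.singleton_inj] at this
  have hadj : ∀ i j : Fin N, j.val = i.val + 1 →
      ((σ j).val = (σ i).val + 1 ∨ (σ i).val = (σ j).val + 1) := by
    intro i j hij
    obtain ⟨k, l, h1, h2, h3⟩ := key i j hij
    rw [hσ1] at h1 h2
    rw [hs h1, hs h2]
    exact h3
  have hid : ∀ i, σ i = i := by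
    rcases path_aut σ hσinj hadj with h | h
    · intro i; exact Fin.ext (h i)
    · exfalso
      obtain ⟨m, hm1, hm2⟩ := hm
      have hit : ∀ m i, T^[m] (ind e {i}) = ind e {σ^[m] i} := by
        intro m
        induction m with
        | zero => intro i; rfl
        | succ m ih =>
          intro i
          rw [Function.iterate_succ_apply, Function.iterate_succ_apply, hσ1, ih]
      have hinv : Function.Involutive σ := by
        intro i
        have h1 := h i
        have h2 := h (σ i)
        exact Fin.ext (by omega)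
      let i0 : Fin N := ⟨0, by omega⟩
      have h1 := hm2 (ind e {i0})
      rw [hit, hinv.iterate_odd hm1] at h1
      have h2 := hs h1
      have h3 := h i0
      rw [h2] at h3
      simp only [i0] at h3
      omega
  intro x
  refine eq_id_of_fix e hn T (fun i => ?_) x
  rw [hσ1, hid]

theorem dset_quad (hN : 2 ≤ N) (hn : ∀ i, 1 < n i) (hodd : ∀ i, Odd (n i)) {M : Type*}
    [CommGroup M] (ζ : X → M) (B : X → X → M) (hB1 : ∀ x y z, B (x + y) z = B x z * B y z)
    (hB2 : ∀ x y z, B x (y + z) = B x y * B x z) (hζ : ∀ x y, ζ (x + y) = ζ x * ζ y * B x y)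
    (h1 : ∀ x, x ∉ Dset e → ζ x = 1) : ∀ x, ζ x = 1 := by
  classical
  have hBz1 : ∀ z, B 0 z = 1 := by
    intro z
    have := hB1 0 0 z
    rw [add_zero] at this
    exact (mul_eq_left.mp this.symm)
  have hBz2 : ∀ z, B z 0 = 1 := by
    intro z
    have := hB2 z 0 0
    rw [add_zero] at this
    exact (mul_eq_left.mp this.symm)
  have hBn1 : ∀ x z, B (-x) z = (B x z)⁻¹ := by
    intro x z
    have := hB1 (-x) x z
    rw [neg_add_cancel, hBz1] at this
    exact eq_inv_of_mul_eq_one_left this.symm
  have hBn2 : ∀ x z, B x (-z) = (B x z)⁻¹ := by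
    intro x z
    have := hB2 x (-z) z
    rw [neg_add_cancel, hBz2] at this
    exact eq_inv_of_mul_eq_one_left this.symm
  have hcoord : ∀ i j : Fin N, e (ind e {i}) j = if j = i then 1 else 0 := by
    intro i j
    rw [ind_apply]
    simp
  have hneg1 : ∀ i : Fin N, ζ (-ind e {i}) = 1 := by
    intro i
    refine h1 _ (not_mem_of_neg e hn hodd (j := i) ?_)
    rw [map_neg, Pi.neg_apply, hcoord, if_pos rfl]
  have hB : ∀ i j : Fin N, i ≠ j → B (ind e {i}) (ind e {j}) = 1 := by
    intro i j hij
    have h2 : ζ (-ind e {i} + -ind e {j}) = 1 := by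
      refine h1 _ (not_mem_of_neg e hn hodd (j := i) ?_)
      rw [map_add, map_neg, map_neg, Pi.add_apply, Pi.neg_apply, Pi.neg_apply, hcoord, hcoord,
        if_pos rfl, if_neg hij, neg_zero, add_zero]
    rw [hζ, hneg1, hneg1, one_mul, one_mul, hBn1, hBn2, inv_inv] at h2
    exact h2
  have hz : ∀ i : Fin N, ζ (ind e {i}) = 1 := by
    intro i
    obtain ⟨j, hij⟩ : ∃ j : Fin N, i ≠ j := by
      by_cases hi : i.val = 0
      · exact ⟨⟨1, by omega⟩, fun h => by rw [h] at hi; simp at hi⟩
      · exact ⟨⟨0, by omega⟩, fun h => by rw [h] at hi; simp at hi⟩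
    have h2 : ζ (ind e {i} + -ind e {j}) = 1 := by
      refine h1 _ (not_mem_of_neg e hn hodd (j := j) ?_)
      rw [map_add, map_neg, Pi.add_apply, Pi.neg_apply, hcoord, hcoord,
        if_neg (Ne.symm hij), if_pos rfl, zero_add]
    rw [hζ, hneg1, mul_one, hBn2, hB i j hij, inv_one, mul_one] at h2
    exact h2
  intro x
  by_cases hx : x ∈ Dset e
  · rcases hx with ⟨i, rfl⟩ | ⟨i, j, hij, rfl⟩
    · exact hz i
    · have hne : i ≠ j := by intro h; rw [h] at hij; omega
      rw [← ind_pair e hne, hζ, hz, hz, hB i j hne, mul_one, mul_one]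
  · exact h1 x hx

end Odd

/-- **Abelian groups of odd order**: a set `D` of nonzero elements preserved by no nontrivial
automorphism of odd order, such that a quadratic function which is trivial outside `D` is
trivial. -/
theorem c2odd (X : Type*) [AddCommGroup X] [Finite X] (hX : Odd (Nat.card X)) :
    ∃ D : Set X, (0 : X) ∉ D ∧
      (∀ T : X →+ X, Function.Injective T → (∀ x ∈ D, T x ∈ D) →
        (∃ m, Odd m ∧ ∀ x, T^[m] x = x) → ∀ x, T x = x) ∧
      (∀ (M : Type*) [CommGroup M] (ζ : X → M) (B : X → X → M),
        (∀ x y z, B (x + y) z = B x z * B y z) → (∀ x y z, B x (y + z) = B x y * B x z) →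
        (∀ x y, ζ (x + y) = ζ x * ζ y * B x y) → (∀ x, x ∉ D → ζ x = 1) → ∀ x, ζ x = 1) := by
  classical
  obtain ⟨N, n, hn, ⟨e⟩⟩ := exists_coord X
  have hcard : Nat.card X = ∏ i, n i := by
    rw [Nat.card_congr e.toEquiv, Nat.card_pi]
    simp
  have hodd : ∀ i, Odd (n i) := by
    intro i
    rw [hcard, Finset.prod_eq_mul_prod_sdiff_singleton_of_mem (Finset.mem_univ i)] at hX
    exact (Nat.odd_mul.mp hX).1
  have hne : ∀ i, ind e {i} ≠ 0 := by
    intro i h
    rw [← ind_empty e] at h
    have := ind_inj e hn h
    exact absurd this (Finset.singleton_ne_empty i)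
  by_cases hN : 2 ≤ N
  · refine ⟨Dset e, ?_, fun T hT hD hm => dset_rigid e hN hn hodd T hT hD hm,
      fun M _ ζ B h1 h2 h3 h4 => dset_quad e hN hn hodd ζ B h1 h2 h3 h4⟩
    intro h0
    obtain ⟨S, hS, hS'⟩ := mem_Dset e h0
    rw [← ind_empty e] at hS
    have h1 := ind_inj e hn hS
    rcases hS' with ⟨i, rfl⟩ | ⟨i, j, -, rfl⟩
    · exact absurd h1.symm (Finset.singleton_ne_empty i)
    · exact absurd h1.symm (Finset.insert_ne_empty _ _)
  by_cases hN1 : N = 1
  · subst hN1
    let b : X := ind e {0}
    have hb : b ≠ 0 := hne 0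
    have hfix : ∀ T : X →+ X, T b = b → ∀ x, T x = x := by
      intro T hT x
      refine eq_id_of_fix e hn T (fun i => ?_) x
      have : i = 0 := Subsingleton.elim _ _
      rw [this]; exact hT
    have hb1 : e b 0 = 1 := by
      change e (ind e {0}) 0 = 1
      rw [ind_apply]; simp
    have h2b : b ≠ -b := by
      intro h
      have h1 : e b 0 = e (-b) 0 := by rw [← h]
      rw [map_neg, Pi.neg_apply, hb1] at h1
      exact not_mem_of_neg e hn hodd (x := b) (j := 0) (by rw [hb1, ← h1])
        (Or.inl ⟨0, rfl⟩)
    have hall : ∀ x : X, ∃ k : ℕ, x = k • b := by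
      intro x
      refine ⟨(e x 0).val, ?_⟩
      apply e.injective
      funext i
      have : i = 0 := Subsingleton.elim _ _
      subst this
      have : NeZero (n 0) := ⟨by have := hn 0; omega⟩
      rw [map_nsmul, Pi.smul_apply, hb1, nsmul_eq_mul, mul_one, ZMod.natCast_zmod_val]
    by_cases h3 : n 0 = 3
    · -- the group of order 3
      refine ⟨∅, fun h => h, ?_, fun M _ ζ B _ _ _ h4 x => h4 x (fun h => h)⟩
      intro T hT _ hm
      refine hfix T ?_
      obtain ⟨k, hk⟩ := hall (T b)
      have h3b : (3 : ℕ) • b = 0 := by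
        apply e.injective
        funext i
        have : i = 0 := Subsingleton.elim _ _
        subst this
        rw [map_nsmul, Pi.smul_apply, hb1, map_zero, nsmul_eq_mul, mul_one, Pi.zero_apply,
          ZMod.natCast_eq_zero_iff, h3]
      have hTb : T b = b ∨ T b = -b := by
        rw [hk]
        have h5 : k • b = (k % 3) • b := by
          conv_lhs => rw [← Nat.div_add_mod k 3, add_nsmul, mul_comm, mul_nsmul', h3b]
          simp
        have h6 : k % 3 < 3 := Nat.mod_lt _ (by norm_num)
        have h7 : k % 3 ≠ 0 := by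
          intro h
          rw [h, zero_nsmul] at h5
          rw [h5] at hk
          exact hb (hT (by rw [hk, map_zero]))
        have h8 : k % 3 = 1 ∨ k % 3 = 2 := by omega
        rcases h8 with h8 | h8
        · left; rw [h5, h8, one_nsmul]
        · right; rw [h5, h8]
          have : (3 : ℕ) • b = (2 : ℕ) • b + b := by rw [← succ_nsmul]
          rw [this] at h3b
          exact eq_neg_of_add_eq_zero_left h3b
      rcases hTb with h | h
      · exact h
      · exfalso
        obtain ⟨m, hm1, hm2⟩ := hm
        have hit : ∀ k, T^[2 * k] b = b := by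
          intro k
          induction k with
          | zero => rfl
          | succ k ih =>
            rw [Nat.mul_succ, Function.iterate_add_apply]
            have : T^[2] b = b := by
              simp only [Function.iterate_succ, Function.iterate_zero, Function.comp_apply, id]
              rw [h, map_neg, h, neg_neg]
            rw [this, ih]
        obtain ⟨k, rfl⟩ := hm1
        have h9 := hm2 b
        rw [Nat.add_comm, Function.iterate_add_apply, hit] at h9
        simp only [Function.iterate_one] at h9
        rw [h] at h9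
        exact h2b h9.symm
    · -- cyclic groups of order at least 5
      refine ⟨{b}, fun h => hb h.symm, ?_, ?_⟩
      · intro T hT hD _
        exact hfix T (hD b rfl)
      · intro M _ ζ B hB1 hB2 hζ h1
        have hBz1 : ∀ z, B 0 z = 1 := by
          intro z
          have := hB1 0 0 z
          rw [add_zero] at this
          exact (mul_eq_left.mp this.symm)
        have hBz2 : ∀ z, B z 0 = 1 := by
          intro z
          have := hB2 z 0 0
          rw [add_zero] at this
          exact (mul_eq_left.mp this.symm)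
        have hBn1 : ∀ x z, B (-x) z = (B x z)⁻¹ := by
          intro x z
          have := hB1 (-x) x z
          rw [neg_add_cancel, hBz1] at this
          exact eq_inv_of_mul_eq_one_left this.symm
        have hBn2 : ∀ x z, B x (-z) = (B x z)⁻¹ := by
          intro x z
          have := hB2 x (-z) z
          rw [neg_add_cancel, hBz2] at this
          exact eq_inv_of_mul_eq_one_left this.symm
        have e1 : ζ (-b) = 1 := h1 _ (fun h => h2b h.symm)
        have e2 : ζ (-b + -b) = 1 := by
          refine h1 _ (fun h => ?_)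
          have h4 : -b + -b = b := h
          have h5 : (3 : ℕ) • b = 0 := by
            have : (3 : ℕ) • b = b - (-b + -b) := by
              rw [show (3 : ℕ) = 1 + 1 + 1 from rfl, add_nsmul, add_nsmul, one_nsmul]; abel
            rw [this, h4, sub_self]
          have h6 : e ((3 : ℕ) • b) 0 = 0 := by rw [h5, map_zero]; rfl
          rw [map_nsmul, Pi.smul_apply, hb1, nsmul_eq_mul, mul_one,
            ZMod.natCast_eq_zero_iff] at h6
          have h7 := Nat.le_of_dvd (by norm_num) h6
          have h8 := hn 0
          have h9 := hodd 0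
          have h10 : n 0 = 2 := by omega
          rw [h10] at h9
          exact absurd h9 (by decide)
        rw [hζ, e1, one_mul, one_mul, hBn1, hBn2, inv_inv] at e2
        have e3 : ζ 0 = 1 := h1 _ (fun h => hb h.symm)
        have e4 := hζ b (-b)
        rw [add_neg_cancel, e3, e1, mul_one, hBn2, e2, inv_one, mul_one] at e4
        intro x
        by_cases hx : x = b
        · rw [hx]; exact e4.symm
        · exact h1 x hx
  · -- the trivial group
    have hN0 : N = 0 := by omega
    subst hN0
    have hsub : Subsingleton X := e.toEquiv.subsingleton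
    refine ⟨∅, fun h => h, fun T _ _ _ x => Subsingleton.elim _ _,
      fun M _ ζ B _ _ _ h4 x => h4 x (fun h => h)⟩

end Cfsg.Agent.H578.Comb
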