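import Cfsg.Agent.H578.Comb

/-!
# Four colours with additional properties (helper578)
-/

set_option autoImplicit false

namespace Cfsg.Agent.H578.Comb

/-- **A rigid colouring of a finite abelian group by 4 colours, with generation properties.** -/
theorem c4' (X : Type*) [AddCommGroup X] [Finite X] :
    ∃ κ : X → Fin 4, (∀ T : X →+ X, Function.Injective T →
      (∀ x, x ≠ 0 → κ (T x) = κ x) → ∀ x, T x = x) ∧
      (∀ X0 X1 X2 : AddSubgroup X, X1 ⊓ X2 ≤ X0 → X0 ≤ X1 → X0 ≤ X2 →
        (∀ x, x ≠ 0 → κ x = 0 → x ∈ X0) → (∀ x, x ≠ 0 → κ x = 1 → x ∈ X1) →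
        (∀ x, x ≠ 0 → κ x = 2 → x ∈ X2) → X0 = ⊤) ∧
      (∀ x y, κ x = 0 → κ y = 0 → x = y) := by
  classical
  obtain ⟨N, n, hn, ⟨e⟩⟩ := exists_coord X
  let P0 : X → Prop := fun x => ∃ i : Fin N, i.val = 0 ∧ x = ind e {i}
  let P1 : X → Prop := fun x => ∃ i : Fin N, x = ind e {i}
  let P2 : X → Prop := fun x => ∃ i j : Fin N, j.val = i.val + 1 ∧ x = ind e {i, j}
  let κ : X → Fin 4 := fun x => if P0 x then 0 else if P1 x then 1 else if P2 x then 2 else 3
  have hκ0 : ∀ x, κ x = 0 → P0 x := by
    intro x hx
    by_contra h0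
    simp only [κ, if_neg h0] at hx
    split_ifs at hx <;> exact absurd hx (by decide)
  have hκ1 : ∀ x, κ x = 1 → ¬ P0 x ∧ P1 x := by
    intro x hx
    by_cases h0 : P0 x
    · simp only [κ, if_pos h0] at hx
      exact absurd hx (by decide)
    by_cases h1 : P1 x
    · exact ⟨h0, h1⟩
    · simp only [κ, if_neg h0, if_neg h1] at hx
      split_ifs at hx <;> exact absurd hx (by decide)
  have hκ2 : ∀ x, κ x = 2 → P2 x := by
    intro x hx
    by_contra h2
    simp only [κ, if_neg h2] at hx
    split_ifs at hx <;> exact absurd hx (by decide)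
  have hne : ∀ i, ind e {i} ≠ 0 := by
    intro i h
    rw [← ind_empty e] at h
    have := ind_inj e hn h
    exact absurd this (Finset.singleton_ne_empty i)
  have hκe0 : ∀ i : Fin N, i.val = 0 → κ (ind e {i}) = 0 := fun i h0 => if_pos ⟨i, h0, rfl⟩
  have hκe1 : ∀ i : Fin N, i.val ≠ 0 → κ (ind e {i}) = 1 := by
    intro i h0
    have h1 : ¬ P0 (ind e {i}) := by
      rintro ⟨j, hj, hj'⟩
      have := ind_inj e hn hj'
      rw [Finset.singleton_inj] at this
      subst this
      exact h0 hj
    simp only [κ, if_neg h1]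
    exact if_pos ⟨i, rfl⟩
  have hκe2 : ∀ i j : Fin N, j.val = i.val + 1 →
      κ (ind e {i, j}) = 2 ∧ ind e {i, j} ≠ 0 ∧ ind e {i} + ind e {j} = ind e {i, j} := by
    intro i j hij
    have hne' : i ≠ j := by intro h; rw [h] at hij; omega
    have hp0 : ¬ P0 (ind e {i, j}) := by
      rintro ⟨k, -, hk⟩
      have := ind_inj e hn hk
      have := congrArg Finset.card this
      rw [Finset.card_pair hne', Finset.card_singleton] at this
      omega
    have hp1 : ¬ P1 (ind e {i, j}) := by
      rintro ⟨k, hk⟩
      have := ind_inj e hn hk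
      have := congrArg Finset.card this
      rw [Finset.card_pair hne', Finset.card_singleton] at this
      omega
    refine ⟨?_, ?_, ind_pair e hne'⟩
    · simp only [κ, if_neg hp0, if_neg hp1]
      exact if_pos ⟨i, j, hij, rfl⟩
    · intro h
      rw [← ind_empty e] at h
      have := congrArg Finset.card (ind_inj e hn h)
      rw [Finset.card_pair hne', Finset.card_empty] at this
      omega
  refine ⟨κ, ?_, ?_, ?_⟩
  rotate_left
  · intro X0 X1 X2 h12 h01 h02 h0 h1 h2
    have key : ∀ k, ∀ i : Fin N, i.val = k → ind e {i} ∈ X0 := by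
      intro k
      induction k with
      | zero => intro i hi; exact h0 _ (hne i) (hκe0 i hi)
      | succ k ih =>
        intro i hi
        obtain ⟨i', hi'⟩ : ∃ i' : Fin N, i'.val = k := ⟨⟨k, by have := i.isLt; omega⟩, rfl⟩
        have a1 := ih i' hi'
        obtain ⟨b1, b2, b3⟩ := hκe2 i' i (by omega)
        apply h12
        refine ⟨h1 _ (hne i) (hκe1 i (by omega)), ?_⟩
        have b4 := h2 _ b2 b1
        rw [← b3] at b4
        exact (X2.add_mem_cancel_left (h02 a1)).mp b4
    rw [eq_top_iff]
    intro x _
    have hx : x = ∑ i, (e x i).val • ind e {i} := by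
      apply e.injective
      rw [map_sum]
      funext j
      rw [Finset.sum_apply]
      rw [Finset.sum_eq_single j]
      · rw [map_nsmul, Pi.smul_apply, ind_apply, if_pos (Finset.mem_singleton_self j)]
        have : NeZero (n j) := ⟨by have := hn j; omega⟩
        rw [nsmul_eq_mul, mul_one, ZMod.natCast_zmod_val]
      · intro b _ hb
        rw [map_nsmul, Pi.smul_apply, ind_apply, if_neg (by simpa using fun h => hb h.symm)]
        simp
      · intro h; exact absurd (Finset.mem_univ j) h
    rw [hx]
    exact X0.sum_mem fun i _ => X0.nsmul_mem (key i.val i rfl) _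
  · intro x y hx hy
    obtain ⟨i, hi, rfl⟩ := hκ0 x hx
    obtain ⟨j, hj, rfl⟩ := hκ0 y hy
    rw [Fin.ext (hi.trans hj.symm)]
  intro T hT hc
  -- the images of the basis elements
  have hσ : ∀ i : Fin N, ∃ j : Fin N, T (ind e {i}) = ind e {j} ∧ (i.val = 0 → j.val = 0) := by
    intro i
    have hci := hc _ (hne i)
    by_cases h0 : i.val = 0
    · have h1 : κ (ind e {i}) = 0 := if_pos ⟨i, h0, rfl⟩
      rw [h1] at hci
      obtain ⟨j, hj, hj'⟩ := hκ0 _ hci
      exact ⟨j, hj', fun _ => hj⟩
    · have h1 : ¬ P0 (ind e {i}) := by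
        rintro ⟨j, hj, hj'⟩
        have := ind_inj e hn hj'
        rw [Finset.singleton_inj] at this
        subst this
        exact h0 hj
      have h2 : κ (ind e {i}) = 1 := by
        simp only [κ, if_neg h1]
        exact if_pos ⟨i, rfl⟩
      rw [h2] at hci
      obtain ⟨-, j, hj⟩ := hκ1 _ hci
      exact ⟨j, hj, fun h => absurd h h0⟩
  choose σ hσ1 hσ2 using hσ
  have hσinj : Function.Injective σ := by
    intro i j hij
    have h1 : T (ind e {i}) = T (ind e {j}) := by rw [hσ1, hσ1, hij]
    have := ind_inj e hn (hT h1)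
    rwa [Finset.singleton_inj] at this
  have hadj : ∀ i j : Fin N, j.val = i.val + 1 →
      ((σ j).val = (σ i).val + 1 ∨ (σ i).val = (σ j).val + 1) := by
    intro i j hij
    have hne' : i ≠ j := by intro h; rw [h] at hij; omega
    have hp0 : ¬ P0 (ind e {i, j}) := by
      rintro ⟨k, -, hk⟩
      have := ind_inj e hn hk
      have := congrArg Finset.card this
      rw [Finset.card_pair hne', Finset.card_singleton] at this
      omega
    have hp1 : ¬ P1 (ind e {i, j}) := by
      rintro ⟨k, hk⟩
      have := ind_inj e hn hk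
      have := congrArg Finset.card this
      rw [Finset.card_pair hne', Finset.card_singleton] at this
      omega
    have h2 : κ (ind e {i, j}) = 2 := by
      simp only [κ, if_neg hp0, if_neg hp1]
      exact if_pos ⟨i, j, hij, rfl⟩
    have h3 : ind e {i, j} ≠ 0 := by
      intro h
      rw [← ind_empty e] at h
      have := congrArg Finset.card (ind_inj e hn h)
      rw [Finset.card_pair hne', Finset.card_empty] at this
      omega
    have h4 := hc _ h3
    rw [h2, ← ind_pair e hne', map_add, hσ1, hσ1,
      ind_pair e (fun h => hne' (hσinj h))] at h4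
    obtain ⟨k, l, hkl, h5⟩ := hκ2 _ h4
    have h6 := ind_inj e hn h5
    have hi : σ i = k ∨ σ i = l := by
      have : σ i ∈ ({k, l} : Finset (Fin N)) := by rw [← h6]; simp
      simpa using this
    have hj : σ j = k ∨ σ j = l := by
      have : σ j ∈ ({k, l} : Finset (Fin N)) := by rw [← h6]; simp
      simpa using this
    have hne'' : σ i ≠ σ j := fun h => hne' (hσinj h)
    rcases hi with hi | hi <;> rcases hj with hj | hj
    · exact absurd (hi.trans hj.symm) hne''
    · left; rw [hi, hj]; exact hkl
    · right; rw [hi, hj]; exact hkl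
    · exact absurd (hi.trans hj.symm) hne''
  have hid : ∀ i, σ i = i := by
    rcases path_aut σ hσinj hadj with h | h
    · intro i; exact Fin.ext (h i)
    · intro i
      have hN : 0 < N := i.pos
      have h1 := h ⟨0, hN⟩
      have h2 := hσ2 ⟨0, hN⟩ rfl
      rw [h2] at h1
      simp at h1
      have h3 := i.isLt
      have h4 := (σ i).isLt
      exact Fin.ext (by omega)
  intro x
  refine eq_id_of_fix e hn T (fun i => ?_) x
  rw [hσ1, hid]

/-- **Three nonzero colours and a zero colour for an elementary abelian 2-group.** -/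
theorem c3 (X : Type*) [AddCommGroup X] [Finite X] (h2 : ∀ x : X, x + x = 0) :
    ∃ κ : X → Fin 4, (∀ T : X →+ X, Function.Injective T →
      (∀ x, x ≠ 0 → κ (T x) = κ x) → ∀ x, T x = x) ∧
      (∀ (M : Type*) [CommGroup M] (ζ : X → M) (B : X → X → M),
        (∀ x y z, B (x + y) z = B x z * B y z) → (∀ x y z, B x (y + z) = B x y * B x z) →
        (∀ x y, ζ (x + y) = ζ x * ζ y * B x y) → (∀ x, x ≠ 0 → κ x ≠ 3 → ζ x = 1) →
        ζ 0 = 1 → ∀ x, ζ x = 1) ∧
      (∀ X0 : AddSubgroup X, (∀ x, x ≠ 0 → κ x ≠ 3 → x ∈ X0) → X0 = ⊤) := by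
  classical
  have hft := Fintype.ofFinite X
  by_cases hcard : Nat.card X ≤ 4
  · -- an injective colouring
    obtain ⟨f, hf⟩ : ∃ f : X → Fin 4, Function.Injective f := by
      rw [Nat.card_eq_fintype_card] at hcard
      exact Function.Embedding.nonempty_of_card_le (by simpa using hcard) |>.elim
        fun g => ⟨g, g.injective⟩
    let κ : X → Fin 4 := fun x => Equiv.swap (f 0) 3 (f x)
    have hκ : Function.Injective κ := (Equiv.injective _).comp hf
    have hκ3 : ∀ x, x ≠ 0 → κ x ≠ 3 := by
      intro x hx h
      apply hx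
      apply hκ
      rw [h]
      exact (Equiv.swap_apply_left (f 0) 3).symm
    refine ⟨κ, ?_, ?_, ?_⟩
    · intro T _ h x
      by_cases hx : x = 0
      · rw [hx, map_zero]
      · exact hκ (h x hx)
    · intro M _ ζ B _ _ _ h h0 x
      by_cases hx : x = 0
      · rw [hx, h0]
      · exact h x hx (hκ3 x hx)
    · intro X0 h
      rw [eq_top_iff]
      intro x _
      by_cases hx : x = 0
      · rw [hx]; exact X0.zero_mem
      · exact h x hx (hκ3 x hx)
  · obtain ⟨κ, h1, -, h3⟩ := c4' X
    -- swap the colours 0 and 3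
    let κ' : X → Fin 4 := fun x => Equiv.swap 0 3 (κ x)
    have hκ' : ∀ x, κ' x = 3 ↔ κ x = 0 := by
      intro x
      change Equiv.swap 0 3 (κ x) = 3 ↔ _
      constructor
      · intro h
        have := congrArg (Equiv.swap 0 3) h
        rw [Equiv.swap_apply_self, Equiv.swap_apply_right] at this
        exact this
      · intro h
        rw [h, Equiv.swap_apply_left]
    have hpick : ∀ s : Finset X, s.card ≤ 4 → ∃ a, a ∉ s := by
      intro s hs
      by_contra hcon
      push Not at hcon
      apply hcard
      rw [Nat.card_eq_fintype_card, ← Finset.card_univ]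
      exact (Finset.card_le_card (fun x _ => hcon x)).trans hs
    -- the exceptional element
    obtain ⟨e, he⟩ : ∃ e : X, ∀ x, x ≠ 0 → x ≠ e → κ' x ≠ 3 := by
      by_cases hex : ∃ e, κ e = 0
      · obtain ⟨e, he⟩ := hex
        exact ⟨e, fun x _ hx h => hx (h3 x e ((hκ' x).mp h) he)⟩
      · push Not at hex
        exact ⟨0, fun x _ _ h => hex x ((hκ' x).mp h)⟩
    have hcancel : ∀ x y : X, x + y + y = x := by
      intro x y
      rw [add_assoc, h2, add_zero]
    have hadd0 : ∀ x y : X, x + y = 0 → x = y := by
      intro x y h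
      have := hcancel x y
      rw [h, zero_add] at this
      exact this.symm
    refine ⟨κ', ?_, ?_, ?_⟩
    · intro T hT h
      apply h1 T hT
      intro x hx
      have := h x hx
      exact (Equiv.injective _) this
    · intro M _ ζ B hB1 hB2 hζ h h0 x
      by_cases hx0 : x = 0
      · rw [hx0, h0]
      by_cases hxe : x = e
      · subst hxe
        -- `ζ x = B x a` for all `a ∉ {0, x}`
        have hBaa : ∀ a, ζ a = 1 → B a a = 1 := by
          intro a ha
          have := hζ a a
          rw [h2, h0, ha, one_mul, one_mul] at this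
          exact this.symm
        have key : ∀ a, a ≠ 0 → a ≠ x → ζ x = B x a := by
          intro a ha hax
          have ha1 : ζ a = 1 := h a ha (he a ha hax)
          have hxa : x + a ≠ 0 := fun h => hax (hadd0 x a h).symm
          have hxa' : x + a ≠ x := fun h => ha (by simpa using h)
          have ha2 : ζ (x + a) = 1 := h _ hxa (he _ hxa hxa')
          have h5 := hζ (x + a) a
          rw [hcancel, ha1, ha2, one_mul, one_mul, hB1, hBaa a ha1, mul_one] at h5
          exact h5
        obtain ⟨a, ha⟩ := hpick {0, x} (le_trans (Finset.card_le_two) (by norm_num))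
        obtain ⟨b, hb⟩ := hpick {0, x, a, a + x} (by
          exact Finset.card_le_four)
        simp only [Finset.mem_insert, Finset.mem_singleton, not_or] at ha hb
        have hab0 : a + b ≠ 0 := fun h => hb.2.2.1 (hadd0 a b h).symm
        have habx : a + b ≠ x := by
          intro h
          apply hb.2.2.2
          rw [← h, ← add_assoc, h2, zero_add]
        have e1 := key a ha.1 ha.2
        have e2 := key b hb.1 hb.2.1
        have e3 := key (a + b) hab0 habx
        rw [hB2, ← e1, ← e2] at e3
        exact (mul_eq_left.mp e3.symm)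
      · exact h x hx0 (he x hx0 hxe)
    · intro X0 h
      rw [eq_top_iff]
      intro x _
      by_cases hx0 : x = 0
      · rw [hx0]; exact X0.zero_mem
      by_cases hxe : x = e
      · subst hxe
        obtain ⟨a, ha⟩ := hpick {0, x} (le_trans (Finset.card_le_two) (by norm_num))
        simp only [Finset.mem_insert, Finset.mem_singleton, not_or] at ha
        have hxa : x + a ≠ 0 := fun h => ha.2 (hadd0 x a h).symm
        have hxa' : x + a ≠ x := fun h => ha.1 (by simpa using h)
        have h5 := X0.add_mem (h _ hxa (he _ hxa hxa')) (h _ ha.1 (he _ ha.1 ha.2))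
        rw [hcancel] at h5
        exact h5
      · exact h x hx0 (he x hx0 hxe)

end Cfsg.Agent.H578.Comb
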