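import Mathlib

/-!
# Marks of finite group actions (helper578)
-/

set_option autoImplicit false

universe u v w

namespace Cfsg.Agent.H578.Marks

open MulAction

/-- the number of fixed points -/
noncomputable def Fc (A : Type w) [Group A] (Ω : Type v) [MulAction A Ω] (B : Subgroup A) : ℕ :=
  Nat.card {ω : Ω // ∀ b ∈ B, b • ω = ω}

theorem le_stab {A : Type w} [Group A] {Ω : Type v} [MulAction A Ω] {B : Subgroup A} {ω : Ω} :
    (∀ b ∈ B, b • ω = ω) ↔ B ≤ stabilizer A ω := Iff.rfl

/-- the number of points with given stabiliser -/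
noncomputable def Sc (A : Type w) [Group A] (Ω : Type v) [MulAction A Ω] (B : Subgroup A) : ℕ :=
  Nat.card {ω : Ω // stabilizer A ω = B}

open Classical in
theorem fc_eq_sum {A : Type w} [Group A] [Finite A] [Fintype (Subgroup A)] {Ω : Type v}
    [Finite Ω] [MulAction A Ω] (B : Subgroup A) :
    Fc A Ω B = ∑ C ∈ Finset.univ.filter (fun C => B ≤ C), Sc A Ω C := by
  have := Fintype.ofFinite Ω
  unfold Fc Sc
  have h1 : Nat.card {ω : Ω // ∀ b ∈ B, b • ω = ω} =
      (Finset.univ.filter (fun ω : Ω => B ≤ stabilizer A ω)).card := by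
    rw [Nat.card_eq_fintype_card, Fintype.card_subtype]
    rfl
  rw [h1, Finset.card_eq_sum_card_fiberwise (f := fun ω : Ω => stabilizer A ω)
    (t := Finset.univ.filter (fun C => B ≤ C))]
  · refine Finset.sum_congr rfl fun C hC => ?_
    rw [Nat.card_eq_fintype_card, Fintype.card_subtype]
    congr 1
    ext ω
    simp only [Finset.mem_filter, Finset.mem_univ, true_and]
    constructor
    · exact fun h => h.2
    · intro h
      refine ⟨?_, h⟩
      rw [h]
      exact (Finset.mem_filter.mp hC).2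
  · intro ω hω
    simp only [Finset.coe_filter, Finset.mem_univ, true_and, Set.mem_ofPred_eq] at hω ⊢
    exact hω

/-- **two actions with the same fixed point numbers have the same stabilisers** -/
theorem marks {A : Type w} [Group A] [Finite A] {Ω : Type v} {Ω' : Type u} [Finite Ω] [Finite Ω']
    [MulAction A Ω] [MulAction A Ω'] (h : ∀ B : Subgroup A, Fc A Ω B = Fc A Ω' B)
    (S : Subgroup A) : Sc A Ω S = Sc A Ω' S := by
  classical
  have := Fintype.ofFinite (Subgroup A)
  induction S using WellFoundedGT.induction with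
  | _ S ih =>
  have h1 := h S
  rw [fc_eq_sum, fc_eq_sum] at h1
  have hS : S ∈ Finset.univ.filter (fun C => S ≤ C) := by simp
  rw [← Finset.add_sum_erase _ _ hS, ← Finset.add_sum_erase _ _ hS] at h1
  have h2 : ∑ C ∈ (Finset.univ.filter (fun C => S ≤ C)).erase S, Sc A Ω C =
      ∑ C ∈ (Finset.univ.filter (fun C => S ≤ C)).erase S, Sc A Ω' C := by
    refine Finset.sum_congr rfl fun C hC => ih C ?_
    simp only [Finset.mem_erase, Finset.mem_filter, Finset.mem_univ, true_and] at hC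
    exact lt_of_le_of_ne hC.2 (Ne.symm hC.1)
  rw [h2] at h1
  exact Nat.add_right_cancel h1

/-- functions realised by an action with a point of minimal stabiliser -/
def Mk (A : Type w) [Group A] (f : Subgroup A → ℕ) : Prop :=
  ∃ (Ω : Type v) (_ : Finite Ω) (_ : MulAction A Ω),
    (∃ ω : Ω, ∀ a : A, a • ω = ω → ∀ ω' : Ω, a • ω' = ω') ∧ ∀ B, Fc A Ω B = f B

theorem Mk.one (A : Type w) [Group A] : Mk.{v, w} A (fun _ => 1) := by
  refine ⟨PUnit, inferInstance,
    { smul := fun _ x => x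
      one_smul := fun _ => rfl
      mul_smul := fun _ _ _ => rfl }, ⟨PUnit.unit, fun _ _ _ => rfl⟩, fun B => ?_⟩
  unfold Fc
  rw [Nat.card_eq_one_iff_unique]
  exact ⟨⟨fun a b => Subtype.ext rfl⟩, ⟨⟨PUnit.unit, fun _ _ => rfl⟩⟩⟩

theorem Mk.mul {A : Type w} [Group A] {f g : Subgroup A → ℕ} (hf : Mk.{v, w} A f)
    (hg : Mk.{v, w} A g) : Mk.{v, w} A (fun B => f B * g B) := by
  obtain ⟨Ω, hΩ, aΩ, ⟨ω, hω⟩, h1⟩ := hf
  obtain ⟨Ω', hΩ', aΩ', ⟨ω', hω'⟩, h2⟩ := hg
  refine ⟨Ω × Ω', inferInstance, inferInstance, ⟨(ω, ω'), fun a ha x => ?_⟩, fun B => ?_⟩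
  · exact Prod.ext (hω a (congrArg Prod.fst ha) x.1) (hω' a (congrArg Prod.snd ha) x.2)
  · change Fc A (Ω × Ω') B = f B * g B
    rw [← h1, ← h2]
    unfold Fc
    rw [← Nat.card_prod]
    exact Nat.card_congr
      { toFun := fun x => (⟨x.1.1, fun b hb => congrArg Prod.fst (x.2 b hb)⟩,
          ⟨x.1.2, fun b hb => congrArg Prod.snd (x.2 b hb)⟩)
        invFun := fun x => ⟨(x.1.1, x.2.1), fun b hb => Prod.ext (x.1.2 b hb) (x.2.2 b hb)⟩
        left_inv := fun _ => rfl
        right_inv := fun _ => rfl }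

theorem Mk.prod {A : Type w} [Group A] {ι : Type*} (s : Finset ι) {f : ι → Subgroup A → ℕ}
    (hf : ∀ i ∈ s, Mk.{v, w} A (f i)) : Mk.{v, w} A (fun B => ∏ i ∈ s, f i B) := by
  classical
  induction s using Finset.induction_on with
  | empty => simpa using Mk.one A
  | insert a s ha ih =>
    have h1 := (hf a (Finset.mem_insert_self a s)).mul
      (ih fun i hi => hf i (Finset.mem_insert_of_mem hi))
    simp only [Finset.prod_insert ha]
    exact h1

/-- transfer of the point of minimal stabiliser -/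
theorem Mk.transfer {A : Type w} [Group A] [Finite A] {Ω : Type u} [Finite Ω] [MulAction A Ω]
    (h : Mk.{v, w} A (Fc A Ω)) : ∃ ω : Ω, ∀ a : A, a • ω = ω → ∀ ω' : Ω, a • ω' = ω' := by
  obtain ⟨Ω', hΩ', aΩ', ⟨ω', hω'⟩, h1⟩ := h
  have h2 := marks (A := A) (Ω := Ω) (Ω' := Ω') (fun B => (h1 B).symm) (stabilizer A ω')
  have h3 : 0 < Sc A Ω' (stabilizer A ω') := by
    unfold Sc
    have : Nonempty {ω : Ω' // stabilizer A ω = stabilizer A ω'} := ⟨⟨ω', rfl⟩⟩
    exact Nat.card_pos
  rw [← h2] at h3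
  have h4 : Nonempty {ω : Ω // stabilizer A ω = stabilizer A ω'} := (Nat.card_pos_iff.mp h3).1
  obtain ⟨ω, hω⟩ := h4
  refine ⟨ω, fun a ha => ?_⟩
  have h5 : a ∈ stabilizer A ω' := by rw [← hω]; exact ha
  have h6 := hω' a h5
  -- `a` fixes everything in `Ω`
  have h7 := h1 (Subgroup.zpowers a)
  have h8 := h1 ⊥
  have h9 : Fc A Ω' (Subgroup.zpowers a) = Nat.card Ω' := by
    unfold Fc
    refine Nat.card_congr (Equiv.subtypeUnivEquiv fun x b hb => ?_)
    have : Subgroup.zpowers a ≤ stabilizer A x := by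
      rw [Subgroup.zpowers_le]; exact h6 x
    exact this hb
  have h10 : ∀ (X : Type _) [MulAction A X], Fc A X ⊥ = Nat.card X := by
    intro X _
    unfold Fc
    refine Nat.card_congr (Equiv.subtypeUnivEquiv fun x b hb => ?_)
    rw [Subgroup.mem_bot] at hb
    rw [hb, one_smul]
  have h11 : ∀ (X : Type _) [MulAction A X], Fc A X ⊥ = Nat.card X := by
    intro X _
    unfold Fc
    refine Nat.card_congr (Equiv.subtypeUnivEquiv fun x b hb => ?_)
    rw [Subgroup.mem_bot] at hb
    rw [hb, one_smul]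
  rw [h9, ← h10 Ω', h8, h11 Ω] at h7
  -- counting
  unfold Fc at h7
  intro x
  have h12 : Function.Surjective (Subtype.val : {ω : Ω // ∀ b ∈ Subgroup.zpowers a, b • ω = ω} → Ω) :=
    (Nat.bijective_iff_injective_and_card _).mpr ⟨Subtype.val_injective, h7.symm⟩ |>.2
  obtain ⟨y, hy⟩ := h12 x
  rw [← hy]
  exact y.2 a (Subgroup.mem_zpowers a)

end Cfsg.Agent.H578.Marks
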