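import Cfsg.Agent.S0022
import Cfsg.Agent.S0023
import Cfsg.Agent.S0024
import Cfsg.Agent.S0025
import Cfsg.Agent.H578.Marks

/-!
# Coprime actions: invariant Sylow subgroups and fixed points (helper578)
-/

set_option autoImplicit false

universe u v w

namespace Cfsg.Agent.H578.CopAct

open Cfsg.Agent.H578.Marks
open SemidirectProduct

variable {A : Type w} {K : Type v} [Group A] [Group K] [MulDistribMulAction A K]

/-- the semidirect product -/
abbrev SD (A : Type w) (K : Type v) [Group A] [Group K] [MulDistribMulAction A K] :=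
  K ⋊[MulDistribMulAction.toMulAut A K] A

/-- the kernel as a subgroup -/
abbrev KK (A : Type w) (K : Type v) [Group A] [Group K] [MulDistribMulAction A K] :
    Subgroup (SD A K) := (inl : K →* SD A K).range

/-- the complement as a subgroup -/
abbrev AA (K : Type v) [Group K] [MulDistribMulAction A K] (B : Subgroup A) :
    Subgroup (SD A K) := B.map (inr : A →* SD A K)

theorem conj_inl (a : A) (k : K) :
    (inr a * inl k * (inr a)⁻¹ : SD A K) = inl (a • k) := by
  rw [← map_inv, ← SemidirectProduct.inl_aut]; rfl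

theorem norm_inl {N : Subgroup K} {B : Subgroup A} (h : ∀ b ∈ B, ∀ n ∈ N, b • n ∈ N) :
    AA K B ≤ Subgroup.normalizer ((N.map (inl : K →* SD A K) : Subgroup (SD A K)) :
      Set (SD A K)) := by
  rintro _ ⟨b, hb, rfl⟩
  rw [Subgroup.mem_set_normalizer_iff]
  intro x
  constructor
  · rintro ⟨n, hn, rfl⟩
    exact ⟨b • n, h b hb n hn, (conj_inl b n).symm⟩
  · rintro ⟨n, hn, hx⟩
    refine ⟨b⁻¹ • n, h _ (B.inv_mem hb) n hn, ?_⟩
    rw [← conj_inl, map_inv, hx]
    simp only [inv_inv]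
    group

theorem norm_KK (B : Subgroup A) :
    AA K B ≤ Subgroup.normalizer ((KK A K : Subgroup (SD A K)) : Set (SD A K)) := by
  have h := norm_inl (A := A) (K := K) (N := ⊤) (B := B) (fun _ _ _ _ => trivial)
  rw [← MonoidHom.range_eq_map] at h
  exact h

instance finite_SD [Finite A] [Finite K] : Finite (SD A K) :=
  Finite.of_equiv (K × A) SemidirectProduct.equivProd.symm

theorem card_KK : Nat.card (KK A K) = Nat.card K :=
  Nat.card_congr (MonoidHom.ofInjective (inl_injective (φ := MulDistribMulAction.toMulAut A K))).symm.toEquiv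

theorem card_AA (B : Subgroup A) : Nat.card (AA K B) = Nat.card B :=
  Nat.card_congr (Subgroup.equivMapOfInjective B _ inr_injective).symm.toEquiv

theorem cop_AA [Finite A] [Finite K] (hcop : (Nat.card A).Coprime (Nat.card K)) (B : Subgroup A) :
    (Nat.card (AA K B)).Coprime (Nat.card (KK A K)) := by
  rw [card_AA, card_KK]
  exact Nat.Coprime.coprime_dvd_left (Subgroup.card_subgroup_dvd_card B) hcop

theorem sol_AA (hA : Group.IsSolvable A) (B : Subgroup A) : Group.IsSolvable (AA K B) := by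
  have h1 : Group.IsSolvable B := inferInstance
  exact Group.isSolvable_of_surjective (f := (Subgroup.equivMapOfInjective B
    (inr : A →* SD A K) inr_injective).toMonoidHom)
    (Subgroup.equivMapOfInjective B _ inr_injective).surjective

/-- fixed points in fixed cosets -/
theorem fix_coset [Finite A] [Finite K] (hA : Group.IsSolvable A)
    (hcop : (Nat.card A).Coprime (Nat.card K)) (B : Subgroup A) (N : Subgroup K) [hn : N.Normal]
    (hN : ∀ b ∈ B, ∀ n ∈ N, b • n ∈ N) (k : K) (hk : ∀ b ∈ B, k⁻¹ * b • k ∈ N) :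
    ∃ c : K, (∀ b ∈ B, b • c = c) ∧ k⁻¹ * c ∈ N := by
  obtain ⟨c, ⟨⟨c, rfl⟩, hc⟩, hkc⟩ := Cfsg.Agent.S0022.result (AA K B) (KK A K) (norm_KK B)
    (cop_AA hcop B) (Or.inl (sol_AA hA B)) (N.map inl) (by
      rintro _ ⟨n, _, rfl⟩
      exact ⟨n, rfl⟩) (by
      rintro _ ⟨m, rfl⟩
      rw [Subgroup.mem_set_normalizer_iff]
      intro x
      constructor
      · rintro ⟨n, hn', rfl⟩
        exact ⟨m * n * m⁻¹, hn.conj_mem n hn' m, by simp⟩
      · rintro ⟨n, hn', hx⟩
        refine ⟨m⁻¹ * n * m, ?_, ?_⟩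
        · have := hn.conj_mem n hn' m⁻¹
          rwa [inv_inv] at this
        · rw [map_mul, map_mul, hx, map_inv]
          group) (norm_inl hN) (inl k) ⟨k, rfl⟩ (by
      rintro _ ⟨b, hb, rfl⟩
      refine ⟨b • k * k⁻¹, ?_, ?_⟩
      · have := hn.conj_mem _ (hk b hb) k
        rwa [mul_inv_cancel_left] at this
      · rw [map_mul, ← conj_inl, map_inv])
  refine ⟨c, fun b hb => ?_, ?_⟩
  · have h1 := Subgroup.mem_centralizer_iff.mp hc (inr b) ⟨b, hb, rfl⟩
    apply inl_injective (φ := MulDistribMulAction.toMulAut A K)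
    rw [← conj_inl, h1, mul_inv_cancel_right]
  · obtain ⟨n, hn', hx⟩ := hkc
    rw [← map_inv, ← map_mul] at hx
    rw [← inl_injective hx]
    exact hn'

/-- the fixed subgroup -/
def fxs (K : Type v) [Group K] [MulDistribMulAction A K] (B : Subgroup A) : Subgroup K where
  carrier := {k | ∀ b ∈ B, b • k = k}
  one_mem' := fun b _ => smul_one b
  mul_mem' := fun {x y} hx hy b hb => by rw [smul_mul', hx b hb, hy b hb]
  inv_mem' := fun {x} hx b hb => by rw [smul_inv', hx b hb]

theorem fc_eq_card (B : Subgroup A) : Fc A K B = Nat.card (fxs K B) := rfl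

/-- **invariant Sylow subgroups and their fixed points** -/
theorem inv_sylow [Finite A] [Finite K] (hA : Group.IsSolvable A)
    (hcop : (Nat.card A).Coprime (Nat.card K)) (p : ℕ) (hp : p.Prime) :
    ∃ P : Subgroup K, (∀ a : A, ∀ x ∈ P, a • x ∈ P) ∧
      Nat.card P = p ^ (Nat.card K).factorization p ∧
      ∀ B : Subgroup A, Nat.card {x : P // ∀ b ∈ B, b • (x : K) = x} =
        p ^ (Fc A K B).factorization p := by
  classical
  have hfact : Fact p.Prime := ⟨hp⟩
  obtain ⟨P, hP⟩ := Cfsg.Agent.S0023.result (AA K (⊤ : Subgroup A)) (KK A K) (norm_KK ⊤)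
    (cop_AA hcop ⊤) (Or.inl (sol_AA hA ⊤)) p
  let P' : Subgroup (SD A K) := (P : Subgroup (KK A K)).map (KK A K).subtype
  let P0 : Subgroup K := P'.comap inl
  have hP0 : ∀ a : A, ∀ x ∈ P0, a • x ∈ P0 := by
    intro a x hx
    change inl (a • x) ∈ P'
    rw [← conj_inl]
    exact (Subgroup.mem_set_normalizer_iff.mp (hP ⟨a, trivial, rfl⟩) (inl x)).mp hx
  have hcardP : Nat.card P0 = p ^ (Nat.card K).factorization p := by
    have h1 : P0.map (inl : K →* SD A K) = P' := by
      rw [Subgroup.map_comap_eq]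
      apply inf_eq_right.mpr
      rintro _ ⟨x, _, rfl⟩
      exact x.2
    have h2 : Nat.card P0 = Nat.card (P0.map (inl : K →* SD A K)) :=
      Nat.card_congr (Subgroup.equivMapOfInjective P0 _ inl_injective).toEquiv
    have h3 : Nat.card P' = Nat.card P :=
      Nat.card_congr (Subgroup.equivMapOfInjective (P : Subgroup (KK A K)) _
        (KK A K).subtype_injective).symm.toEquiv
    rw [h2, h1, h3, P.card_eq_multiplicity, card_KK]
  refine ⟨P0, hP0, hcardP, fun B => ?_⟩
  -- a Sylow subgroup of the fixed subgroup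
  obtain ⟨Q⟩ : Nonempty (Sylow p (fxs K B)) := inferInstance
  let U : Subgroup K := (Q : Subgroup (fxs K B)).map (fxs K B).subtype
  have hUfix : ∀ u ∈ U, ∀ b ∈ B, b • u = u := by
    rintro _ ⟨u, _, rfl⟩
    exact u.2
  have hcardU : Nat.card U = p ^ (Nat.card (fxs K B)).factorization p := by
    have h3 : Nat.card U = Nat.card Q :=
      Nat.card_congr (Subgroup.equivMapOfInjective (Q : Subgroup (fxs K B)) _
        (fxs K B).subtype_injective).symm.toEquiv
    rw [h3, Q.card_eq_multiplicity]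
  have hUp : IsPGroup p U := IsPGroup.of_card hcardU
  obtain ⟨P1, hUP1, hP1⟩ := Cfsg.Agent.S0025.result (AA K B) (KK A K) (norm_KK B)
    (cop_AA hcop B) (Or.inl (sol_AA hA B)) p (U.map inl) (by
      rintro _ ⟨n, _, rfl⟩
      exact ⟨n, rfl⟩) (hUp.map _) (norm_inl fun b hb u hu => by rw [hUfix u hu b hb]; exact hu)
  have hPB : AA K B ≤ Subgroup.normalizer (P' : Set (SD A K)) :=
    le_trans (Subgroup.map_mono le_top) hP
  obtain ⟨⟨_, c, rfl⟩, hc, hcP⟩ := Cfsg.Agent.S0024.result (AA K B) (KK A K) (norm_KK B)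
    (cop_AA hcop B) (Or.inl (sol_AA hA B)) p P1 P hP1 hPB
  have hcfix : ∀ b ∈ B, b • c = c := by
    intro b hb
    have h1 := Subgroup.mem_centralizer_iff.mp hc (inr b) ⟨b, hb, rfl⟩
    apply inl_injective (φ := MulDistribMulAction.toMulAut A K)
    rw [← conj_inl, h1, mul_inv_cancel_right]
  have hcU : ∀ u ∈ U, c * u * c⁻¹ ∈ P0 := by
    intro u hu
    obtain ⟨x, hx, hxu⟩ := hUP1 ⟨u, hu, rfl⟩
    have h1 : (⟨inl c, ⟨c, rfl⟩⟩ : KK A K) * x * (⟨inl c, ⟨c, rfl⟩⟩ : KK A K)⁻¹ ∈
        (P : Subgroup (KK A K)) := by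
      rw [← hcP]
      exact ⟨x, hx, rfl⟩
    refine ⟨_, h1, ?_⟩
    change (inl c : SD A K) * (x : SD A K) * (inl c)⁻¹ = inl (c * u * c⁻¹)
    have h2 : (x : SD A K) = inl u := hxu
    rw [h2, map_mul, map_mul, map_inv]
  have hle : Nat.card U ≤ Nat.card {x : P0 // ∀ b ∈ B, b • (x : K) = x} := by
    apply Nat.card_le_card_of_injective
      (fun u : U => (⟨⟨c * u * c⁻¹, hcU u u.2⟩, fun b hb => by
        rw [smul_mul', smul_mul', smul_inv', hcfix b hb, hUfix u u.2 b hb]⟩ :
        {x : P0 // ∀ b ∈ B, b • (x : K) = x}))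
    intro x y hxy
    have h1 : c * (x : K) * c⁻¹ = c * (y : K) * c⁻¹ :=
      congrArg (fun z : {x : P0 // ∀ b ∈ B, b • (x : K) = x} => (z.1 : K)) hxy
    exact Subtype.ext (by simpa using h1)
  have hinf : Nat.card {x : P0 // ∀ b ∈ B, b • (x : K) = x} =
      Nat.card (P0 ⊓ fxs K B : Subgroup K) :=
    Nat.card_congr
      { toFun := fun x => ⟨x.1.1, x.1.2, x.2⟩
        invFun := fun x => ⟨⟨x.1, x.2.1⟩, x.2.2⟩
        left_inv := fun _ => rfl
        right_inv := fun _ => rfl }
  have hdvd1 : Nat.card (P0 ⊓ fxs K B : Subgroup K) ∣ p ^ (Nat.card K).factorization p := by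
    rw [← hcardP]
    exact Subgroup.card_dvd_of_le inf_le_left
  have hdvd2 : Nat.card (P0 ⊓ fxs K B : Subgroup K) ∣ Nat.card (fxs K B) :=
    Subgroup.card_dvd_of_le inf_le_right
  obtain ⟨j, -, hj⟩ := (Nat.dvd_prime_pow hp).mp hdvd1
  rw [hcardU, hinf, hj] at hle
  rw [hj] at hdvd2
  have h5 : j ≤ (Nat.card (fxs K B)).factorization p :=
    (hp.pow_dvd_iff_le_factorization Nat.card_pos.ne').mp hdvd2
  have h6 : (Nat.card (fxs K B)).factorization p ≤ j :=
    (Nat.pow_le_pow_iff_right hp.one_lt).mp hle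
  rw [hinf, hj, fc_eq_card, le_antisymm h5 h6]

end Cfsg.Agent.H578.CopAct
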