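import Cfsg.Agent.H578.Struct

/-!
# Primitive solvable linear groups: the data `(K, E)` (helper578)
-/

set_option autoImplicit false

universe u

namespace Cfsg.Agent.H578

open scoped commutatorElement

variable {V : Type u} [AddCommGroup V]

/-- a commutative subring of the endomorphism ring whose nonzero elements are roots of unity -/
structure IsF (K : Subring (AddMonoid.End V)) : Prop where
  comm : ∀ a ∈ K, ∀ b ∈ K, a * b = b * a
  inv : ∀ a ∈ K, a ≠ 0 → ∃ n : ℕ, 0 < n ∧ a ^ n = 1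

namespace IsF

variable {K : Subring (AddMonoid.End V)}

theorem eq_zero (h : IsF K) {a : AddMonoid.End V} (ha : a ∈ K) {v : V} (hv : v ≠ 0)
    (h0 : a v = 0) : a = 0 := by
  by_contra hne
  obtain ⟨n, hn, h1⟩ := h.inv a ha hne
  apply hv
  have h2 : (a ^ n) v = v := by rw [h1]; rfl
  obtain ⟨m, rfl⟩ : ∃ m, n = m + 1 := ⟨n - 1, by omega⟩
  rw [pow_succ] at h2
  have h3 : (a ^ m * a) v = (a ^ m) (a v) := rfl
  rw [h3, h0, map_zero] at h2
  exact h2.symm

theorem eq_of_apply (h : IsF K) {a b : AddMonoid.End V} (ha : a ∈ K) (hb : b ∈ K) {v : V}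
    (hv : v ≠ 0) (h0 : a v = b v) : a = b := by
  have h1 : (a - b) v = 0 := by
    change a v - b v = 0
    rw [h0, sub_self]
  exact sub_eq_zero.mp (h.eq_zero (K.sub_mem ha hb) hv h1)

theorem exists_unit (h : IsF K) {a : AddMonoid.End V} (ha : a ∈ K) (ha0 : a ≠ 0) :
    ∃ k : AU V, k.1 = a := by
  obtain ⟨n, hn, h1⟩ := h.inv a ha ha0
  obtain ⟨m, rfl⟩ : ∃ m, n = m + 1 := ⟨n - 1, by omega⟩
  exact ⟨⟨a, a ^ m, by rw [← pow_succ', h1], by rw [← pow_succ, h1]⟩, rfl⟩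

theorem ne_zero_au [Nontrivial V] (a : AU V) : a.1 ≠ 0 := by
  intro h0
  obtain ⟨v, hv⟩ := exists_ne (0 : V)
  have h1 := au_inv_apply a v
  rw [h0] at h1
  apply hv
  rw [← h1]
  exact map_zero _

/-- the unit group -/
def units [Nontrivial V] (h : IsF K) : Subgroup (AU V) where
  carrier := {k | k.1 ∈ K}
  one_mem' := K.one_mem
  mul_mem' := fun ha hb => K.mul_mem ha hb
  inv_mem' := fun {a} ha => by
    obtain ⟨n, hn, h1⟩ := h.inv a.1 ha (ne_zero_au a)
    obtain ⟨m, rfl⟩ : ∃ m, n = m + 1 := ⟨n - 1, by omega⟩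
    have h2 : a ^ (m + 1) = 1 := Units.ext (by rw [Units.val_pow_eq_pow_val, h1]; rfl)
    have h3 : a⁻¹ = a ^ m := by
      rw [inv_eq_iff_mul_eq_one, ← pow_succ', h2]
    change (a⁻¹).1 ∈ K
    rw [h3, Units.val_pow_eq_pow_val]
    exact K.pow_mem ha m

theorem mem_units [Nontrivial V] (h : IsF K) {k : AU V} : k ∈ h.units ↔ k.1 ∈ K := Iff.rfl

theorem mul_eq_zero [Nontrivial V] (h : IsF K) {a b : AddMonoid.End V} (ha : a ∈ K)
    (hab : a * b = 0) : a = 0 ∨ b = 0 := by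
  by_cases h0 : a = 0
  · exact Or.inl h0
  · right
    obtain ⟨k, rfl⟩ := h.exists_unit ha h0
    have h1 : (k⁻¹).1 * (k.1 * b) = 0 := by rw [hab, mul_zero]
    rwa [← mul_assoc, Units.inv_mul, one_mul] at h1

theorem sq_eq_one [Nontrivial V] (h : IsF K) {a : AddMonoid.End V} (ha : a ∈ K)
    (h1 : a * a = 1) : a = 1 ∨ a = -1 := by
  have h2 : (a - 1) * (a + 1) = 0 := by
    rw [sub_mul, mul_add, one_mul, mul_one, h1]; abel
  rcases h.mul_eq_zero (K.sub_mem ha K.one_mem) h2 with h3 | h3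
  · left; exact sub_eq_zero.mp h3
  · right; exact eq_neg_of_add_eq_zero_left h3

theorem isDomain [Nontrivial V] (h : IsF K) : IsDomain K := by
  have : Nontrivial K := ⟨⟨0, 1, fun h0 => by
    obtain ⟨v, hv⟩ := exists_ne (0 : V)
    apply hv
    have h1 : (0 : AddMonoid.End V) = 1 := congrArg Subtype.val h0
    have h2 : (1 : AddMonoid.End V) v = 0 := by rw [← h1]; rfl
    exact h2⟩⟩
  have : NoZeroDivisors K := ⟨fun {a b} hab => by
    have h1 : a.1 * b.1 = 0 := congrArg Subtype.val hab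
    rcases h.mul_eq_zero a.2 h1 with h2 | h2
    · left; exact Subtype.ext h2
    · right; exact Subtype.ext h2⟩
  exact NoZeroDivisors.to_isDomain K

/-- the unit group is cyclic -/
theorem gen [Nontrivial V] [Finite V] (h : IsF K) :
    ∃ θ : AU V, θ.1 ∈ K ∧ ∀ k : AU V, k.1 ∈ K → ∃ n : ℕ, k = θ ^ n := by
  have hfe : Finite (AddMonoid.End V) := finite_end
  let _ : CommRing K := { (inferInstance : Ring K) with
    mul_comm := fun a b => Subtype.ext (h.comm a.1 a.2 b.1 b.2) }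
  have : IsDomain K := h.isDomain
  obtain ⟨g, hg⟩ := IsCyclic.exists_generator (α := Kˣ)
  let f : Kˣ →* AU V := Units.map (K.subtype : K →* AddMonoid.End V)
  refine ⟨f g, g.1.2, fun k hk => ?_⟩
  have hk' : (k⁻¹).1 ∈ K := h.units.inv_mem (x := k) hk
  let k' : Kˣ := ⟨⟨k.1, hk⟩, ⟨(k⁻¹).1, hk'⟩, Subtype.ext (Units.mul_inv k),
    Subtype.ext (Units.inv_mul k)⟩
  obtain ⟨n, hn⟩ := mem_powers_iff_mem_zpowers.mpr (hg k')
  refine ⟨n, ?_⟩
  rw [← map_pow]
  have hn' : g ^ n = k' := hn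
  rw [hn']
  exact Units.ext rfl

/-- `-1` is a sum of two squares -/
theorem sum_sq [Nontrivial V] [Finite V] (h : IsF K) :
    ∃ a ∈ K, ∃ b ∈ K, a * a + b * b = -1 := by
  have hfe : Finite (AddMonoid.End V) := finite_end
  have hdom : IsDomain K := h.isDomain
  obtain ⟨p, hp⟩ := CharP.exists K
  have hp0 : NeZero p := ⟨CharP.char_ne_zero_of_finite K p⟩
  obtain ⟨a, b, hab⟩ := CharP.sq_add_sq K p (-1)
  refine ⟨((a : K) : AddMonoid.End V), (a : K).2, ((b : K) : AddMonoid.End V), (b : K).2, ?_⟩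
  have h1 := congrArg Subtype.val hab
  rw [pow_two, pow_two, Int.cast_neg, Int.cast_one] at h1
  exact h1

end IsF

theorem class2_conj {A : Type*} [Group A] (x y c : A) (hc : y * x = c * (x * y))
    (hcy : c * y = y * c) (n : ℕ) : y ^ n * x = c ^ n * (x * y ^ n) := by
  induction n with
  | zero => simp
  | succ n ih =>
    have h1 : Commute y (c ^ n) := (Commute.pow_right (show Commute y c from hcy.symm) n)
    calc y ^ (n + 1) * x = y * (y ^ n * x) := by rw [pow_succ']; group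
      _ = y * (c ^ n * (x * y ^ n)) := by rw [ih]
      _ = (y * c ^ n) * (x * y ^ n) := by group
      _ = (c ^ n * y) * (x * y ^ n) := by rw [h1.eq]
      _ = c ^ n * (y * x) * y ^ n := by group
      _ = c ^ n * (c * (x * y)) * y ^ n := by rw [hc]
      _ = c ^ (n + 1) * (x * y ^ (n + 1)) := by rw [pow_succ c, pow_succ' y]; group

/-- the star property -/
def Star (K : Subring (AddMonoid.End V)) (Z N : Subgroup (AU V)) : Prop :=
  ∀ x ∈ N, ∀ r : ℕ, r.Prime → x ^ r ∈ Z → ∃ k : AU V, k.1 ∈ K ∧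
    ((k * x) ^ r = 1 ∨ (r = 2 ∧ (k * x) ^ 2 = -1))

theorem neg_conj (g k : AU V) : g * (-k) * g⁻¹ = -(g * k * g⁻¹) := by
  rw [mul_neg, neg_mul]

theorem star_section [Nontrivial V] [Finite V] {K : Subring (AddMonoid.End V)} (hK : IsF K)
    {G Z N : Subgroup (AU V)} (hGK : ∀ g ∈ G, ∀ a ∈ K, cj g a ∈ K) (hZK : ∀ z ∈ Z, z.1 ∈ K)
    (hNK : ∀ x ∈ N, ∀ a ∈ K, x.1 * a = a * x.1) {r : ℕ} (hr : r.Prime) (hZN : Z ≤ N)
    (hNZ : N ≠ Z) (hcomm : ∀ x ∈ N, ∀ y ∈ N, x * y * x⁻¹ * y⁻¹ ∈ Z) (hpow : ∀ x ∈ N, x ^ r ∈ Z)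
    (hcen : ∀ x ∈ N, (∀ y ∈ N, x * y = y * x) → x ∈ Z) (hNn : NB G N)
    (hmin : ∀ N' : Subgroup (AU V), Z ≤ N' → N' ≤ N → NB G N' → N' = Z ∨ N' = N) :
    Star K Z N := by
  classical
  have hNK' : ∀ x ∈ N, ∀ k : AU V, k.1 ∈ K → x * k = k * x := fun x hx k hk =>
    Units.ext (hNK x hx k.1 hk)
  -- powers of products
  have hpw : ∀ x ∈ N, ∀ y ∈ N, (x * y) ^ r = x ^ r * y ^ r ∨
      (r = 2 ∧ (x * y) ^ r = -(x ^ r * y ^ r)) := by
    intro x hx y hy
    have hcZ : y * x * y⁻¹ * x⁻¹ ∈ Z := hcomm y hy x hx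
    have hcK := hZK _ hcZ
    have hc : y * x = (y * x * y⁻¹ * x⁻¹) * (x * y) := by group
    have hcx := (hNK' x hx _ hcK).symm
    have hcy := (hNK' y hy _ hcK).symm
    have h1 := class2_pow x y _ hc hcx hcy r
    have h2 := class2_conj x y _ hc hcy r
    have h3 : y ^ r * x = x * y ^ r := (hNK' x hx _ (hZK _ (hpow y hy))).symm
    rw [h3] at h2
    have h4 : (y * x * y⁻¹ * x⁻¹) ^ r = 1 := by
      have := h2
      nth_rewrite 1 [← one_mul (x * y ^ r)] at this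
      exact (mul_right_cancel this).symm
    rcases hr.eq_two_or_odd' with h5 | h5
    · rw [h5] at h1 h4 ⊢
      have h6 : (y * x * y⁻¹ * x⁻¹).1 * (y * x * y⁻¹ * x⁻¹).1 = 1 := by
        rw [← Units.val_mul, ← pow_two, h4]; rfl
      rcases hK.sq_eq_one hcK h6 with h7 | h7
      · left
        have h8 : y * x * y⁻¹ * x⁻¹ = 1 := Units.ext h7
        rw [h1, h8, one_pow, one_mul]
      · right
        refine ⟨rfl, ?_⟩
        have h8 : y * x * y⁻¹ * x⁻¹ = -1 := Units.ext h7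
        rw [h1, h8, show 2 * (2 - 1) / 2 = 1 from rfl, pow_one, neg_mul, one_mul]
    · left
      obtain ⟨m, hm⟩ := h5
      have h6 : r * (r - 1) / 2 = r * m := by
        rw [show r - 1 = 2 * m by omega, show r * (2 * m) = 2 * (r * m) by ring]
        omega
      rw [h1, h6, pow_mul, h4, one_pow, one_mul]
  let P : AU V → Prop := fun x => ∃ k : AU V, k.1 ∈ K ∧ (x ^ r = k ^ r ∨ (r = 2 ∧ x ^ r = -k ^ r))
  have hkk : ∀ k k' : AU V, k.1 ∈ K → k'.1 ∈ K → (k * k') ^ r = k ^ r * k' ^ r := by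
    intro k k' hk hk'
    have : Commute k k' := Units.ext (hK.comm _ hk _ hk')
    exact this.mul_pow r
  have hP : ∀ x ∈ N, ∀ y ∈ N, P x → P y → P (x * y) := by
    rintro x hx y hy ⟨k, hk, h1⟩ ⟨k', hk', h2⟩
    refine ⟨k * k', K.mul_mem hk hk', ?_⟩
    rw [hkk k k' hk hk']
    rcases hpw x hx y hy with h3 | ⟨h3, h4⟩
    · rw [h3]
      rcases h1 with h1 | ⟨hr2, h1⟩ <;> rcases h2 with h2 | ⟨hr2', h2⟩
      · left; rw [h1, h2]
      · right; refine ⟨hr2', ?_⟩; rw [h1, h2, mul_neg]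
      · right; refine ⟨hr2, ?_⟩; rw [h1, h2, neg_mul]
      · left; rw [h1, h2, neg_mul_neg]
    · rw [h4]
      rcases h1 with h1 | ⟨hr2, h1⟩ <;> rcases h2 with h2 | ⟨hr2', h2⟩
      · right; refine ⟨h3, ?_⟩; rw [h1, h2]
      · left; rw [h1, h2, mul_neg, neg_neg]
      · left; rw [h1, h2, neg_mul, neg_neg]
      · right; refine ⟨h3, ?_⟩; rw [h1, h2, neg_mul_neg]
  have hPz : ∀ z ∈ Z, P z := fun z hz => ⟨z, hZK z hz, Or.inl rfl⟩
  let N₁ : Subgroup (AU V) :=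
    { carrier := {x | x ∈ N ∧ P x}
      one_mem' := ⟨N.one_mem, hPz 1 Z.one_mem⟩
      mul_mem' := fun {a b} ha hb => ⟨N.mul_mem ha.1 hb.1, hP a ha.1 b hb.1 ha.2 hb.2⟩
      inv_mem' := fun {a} ha => ⟨N.inv_mem ha.1, by
        obtain ⟨k, hk, h1⟩ := ha.2
        refine ⟨k⁻¹, hK.units.inv_mem hk, ?_⟩
        rw [inv_pow, inv_pow]
        rcases h1 with h1 | ⟨hr2, h1⟩
        · left; rw [h1]
        · right; refine ⟨hr2, ?_⟩; rw [h1, inv_neg]⟩ }
  have h1 : Z ≤ N₁ := fun z hz => ⟨hZN hz, hPz z hz⟩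
  have h2 : N₁ ≤ N := fun x hx => hx.1
  have h3 : NB G N₁ := by
    intro g hg x hx
    refine ⟨hNn g hg x hx.1, ?_⟩
    obtain ⟨k, hk, h1⟩ := hx.2
    refine ⟨g * k * g⁻¹, hGK g hg _ hk, ?_⟩
    rw [conj_pow, conj_pow]
    rcases h1 with h1 | ⟨hr2, h1⟩
    · left; rw [h1]
    · right; refine ⟨hr2, ?_⟩; rw [h1, neg_conj]
  rcases hmin N₁ h1 h2 h3 with h | h
  · exfalso
    obtain ⟨θ, hθ, hgen⟩ := hK.gen
    have hab : ∀ x ∈ N, ∀ y ∈ N, x * y = y * x := by
      intro x hx y hy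
      obtain ⟨a, ha⟩ := hgen _ (hZK _ (hpow x hx))
      obtain ⟨b, hb⟩ := hgen _ (hZK _ (hpow y hy))
      by_cases hrb : r ∣ b
      · obtain ⟨b', rfl⟩ := hrb
        have h4 : y ∈ N₁ := ⟨hy, θ ^ b', by
          rw [Units.val_pow_eq_pow_val]; exact K.pow_mem hθ _, Or.inl (by
          rw [hb, ← pow_mul, mul_comm])⟩
        rw [h] at h4
        exact hNK' x hx y (hZK y h4)
      · obtain ⟨j, hj⟩ : ∃ j, r ∣ a + j * b := by
          have : Fact r.Prime := ⟨hr⟩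
          refine ⟨((-(a : ZMod r)) * (b : ZMod r)⁻¹).val, ?_⟩
          rw [← ZMod.natCast_eq_zero_iff]
          have hb0 : (b : ZMod r) ≠ 0 := fun h0 => hrb ((ZMod.natCast_eq_zero_iff b r).mp h0)
          rw [Nat.cast_add, Nat.cast_mul, ZMod.natCast_val, ZMod.cast_id, mul_assoc,
            inv_mul_cancel₀ hb0, mul_one, add_neg_cancel]
        obtain ⟨m, hm⟩ := hj
        have hyj : y ^ j ∈ N := N.pow_mem hy j
        have h5 : x ^ r * (y ^ j) ^ r = (θ ^ m) ^ r := by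
          rw [← pow_mul, mul_comm j r, pow_mul, hb, ha, ← pow_mul, ← pow_add, ← pow_mul,
            mul_comm b j, hm, mul_comm]
        have h4 : x * y ^ j ∈ N₁ := by
          refine ⟨N.mul_mem hx hyj, θ ^ m, by
            rw [Units.val_pow_eq_pow_val]; exact K.pow_mem hθ _, ?_⟩
          rcases hpw x hx _ hyj with h6 | ⟨h6, h7⟩
          · left; rw [h6, h5]
          · right; refine ⟨h6, ?_⟩; rw [h7, h5]
        rw [h] at h4
        have h6 := hNK' y hy _ (hZK _ h4)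
        -- y * (x * y ^ j) = x * y ^ j * y
        have h7 : y * x * y ^ j = x * y * y ^ j := by
          calc y * x * y ^ j = y * (x * y ^ j) := by group
            _ = x * y ^ j * y := h6
            _ = x * (y ^ j * y) := by group
            _ = x * (y * y ^ j) := by rw [← pow_succ, ← pow_succ']
            _ = _ := by group
        exact (mul_right_cancel h7).symm
    exact hNZ (le_antisymm (fun x hx => hcen x hx (hab x hx)) hZN)
  · intro x hx r' hr' hxr'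
    by_cases hrr : r' = r
    · subst hrr
      have h4 : x ∈ N₁ := by rw [h]; exact hx
      obtain ⟨k, hk, h5⟩ := h4.2
      have hki := hK.units.inv_mem (x := k) hk
      refine ⟨k⁻¹, hki, ?_⟩
      have h6 : Commute k⁻¹ x := (hNK' x hx _ hki).symm
      rcases h5 with h5 | ⟨hr2, h5⟩
      · left
        rw [h6.mul_pow, h5, inv_pow, inv_mul_cancel]
      · right
        refine ⟨hr2, ?_⟩
        subst hr2
        rw [h6.mul_pow, h5, inv_pow, mul_neg, inv_mul_cancel]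
    · have h4 : x ∈ Z := mem_of_coprime ((Nat.coprime_primes hr' hr).mpr hrr) hxr' (hpow x hx)
      refine ⟨x⁻¹, hZK _ (Z.inv_mem h4), Or.inl ?_⟩
      rw [inv_mul_cancel, one_pow]

theorem commute_closure {S : Set (AddMonoid.End V)} {x : AddMonoid.End V}
    (h : ∀ a ∈ S, x * a = a * x) : ∀ a ∈ Subring.closure S, x * a = a * x := by
  intro a ha
  have h1 : Subring.closure S ≤ Subring.centralizer {x} := by
    rw [Subring.closure_le]
    intro b hb
    rw [SetLike.mem_coe, Subring.mem_centralizer_iff]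
    intro y hy
    rw [Set.mem_singleton_iff] at hy
    rw [hy]; exact h b hb
  have h2 := h1 ha
  rw [Subring.mem_centralizer_iff] at h2
  exact h2 x rfl

/-- the product of a member of the family with a minimal section -/
theorem fam_prod [Nontrivial V] [Finite V] {K : Subring (AddMonoid.End V)} (hK : IsF K)
    {G Z N E : Subgroup (AU V)} (hZK : ∀ z ∈ Z, z.1 ∈ K)
    (hNK : ∀ x ∈ N, ∀ a ∈ K, x.1 * a = a * x.1) (hEK : ∀ x ∈ E, ∀ a ∈ K, x.1 * a = a * x.1)
    {r : ℕ} (hr : r.Prime) (hZN : Z ≤ N) (hNG : N ≤ G)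
    (hcomm : ∀ x ∈ N, ∀ y ∈ N, x * y * x⁻¹ * y⁻¹ ∈ Z) (hpow : ∀ x ∈ N, x ^ r ∈ Z)
    (hcen : ∀ x ∈ N, (∀ y ∈ N, x * y = y * x) → x ∈ Z) (hNn : NB G N)
    (hNE : ∀ x ∈ N, ∀ y ∈ E, x * y = y * x)
    (hE : Fam G Z E) (hstN : Star K Z N) (hstE : Star K Z E) :
    Fam G Z (prodSub N E hNE) ∧ Star K Z (prodSub N E hNE) := by
  have hcen' : ∀ x ∈ N, ∀ y ∈ E, (∀ w ∈ prodSub N E hNE, (x * y) * w = w * (x * y)) →
      x ∈ Z ∧ y ∈ Z := by
    intro x hx y hy h
    constructor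
    · apply hcen x hx
      intro n hn
      have h1 := h n (le_prodSub_left hNE hn)
      have h2 := hNE n hn y hy
      have h3 : x * n * y = n * x * y := by
        calc x * n * y = x * (n * y) := by group
          _ = x * (y * n) := by rw [h2]
          _ = (x * y) * n := by group
          _ = n * (x * y) := h1
          _ = _ := by group
      exact mul_right_cancel h3
    · apply hE.center y hy
      intro e he
      have h1 := h e (le_prodSub_right hNE he)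
      have h2 := hNE x hx e he
      have h3 : x * (y * e) = x * (e * y) := by
        calc x * (y * e) = (x * y) * e := by group
          _ = e * (x * y) := h1
          _ = (e * x) * y := by group
          _ = (x * e) * y := by rw [h2]
          _ = _ := by group
      exact mul_left_cancel h3
  refine ⟨⟨hZN.trans (le_prodSub_left hNE), ?_, ?_, ?_, ?_, ?_, ?_⟩, ?_⟩
  · rintro _ ⟨x, hx, y, hy, rfl⟩
    exact G.mul_mem (hNG hx) (hE.EG hy)
  · rintro g hg _ ⟨x, hx, y, hy, rfl⟩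
    exact ⟨g * x * g⁻¹, hNn g hg x hx, g * y * g⁻¹, hE.nb g hg y hy, by group⟩
  · rintro _ ⟨x, hx, y, hy, rfl⟩ z hz
    have h1 : x * z = z * x := hNE x hx z (hE.ZE hz)
    rw [mul_assoc, hE.EZ y hy z hz, ← mul_assoc, h1, mul_assoc]
  · rintro _ ⟨x, hx, y, hy, rfl⟩ _ ⟨x', hx', y', hy', rfl⟩
    have e1 := hNE x' hx' y hy
    have e2 := hNE x' hx' y' hy'
    have e3 := hNE x hx y hy
    have h1 : x * y * (x' * y') * (x * y)⁻¹ * (x' * y')⁻¹ =
        (x * x' * x⁻¹ * x'⁻¹) * (y * y' * y⁻¹ * y'⁻¹) := by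
      have hyx : Commute y x' := e1.symm
      have hyx2 : Commute y x := e3.symm
      have c1 : Commute (y * y') x'⁻¹ := ((hNE _ (N.inv_mem hx') _ (E.mul_mem hy hy'))).symm
      have c2 : Commute (y * y' * y⁻¹) x'⁻¹ :=
        ((hNE _ (N.inv_mem hx') _ (E.mul_mem (E.mul_mem hy hy') (E.inv_mem hy)))).symm
      have c3 : Commute (y * y' * y⁻¹) x⁻¹ :=
        ((hNE _ (N.inv_mem hx) _ (E.mul_mem (E.mul_mem hy hy') (E.inv_mem hy)))).symm
      calc x * y * (x' * y') * (x * y)⁻¹ * (x' * y')⁻¹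
          = x * (y * x') * y' * (x * y)⁻¹ * (x' * y')⁻¹ := by group
        _ = x * (x' * y) * y' * (y * x)⁻¹ * (y' * x')⁻¹ := by rw [hyx.eq, e3, e2]
        _ = x * x' * (y * y') * (x⁻¹ * y⁻¹) * (x'⁻¹ * y'⁻¹) := by group
        _ = x * x' * (y * y') * (y⁻¹ * x⁻¹) * (x'⁻¹ * y'⁻¹) := by
          rw [(hyx2.inv_inv).eq]
        _ = x * x' * ((y * y' * y⁻¹) * x⁻¹) * (x'⁻¹ * y'⁻¹) := by group
        _ = x * x' * (x⁻¹ * (y * y' * y⁻¹)) * (x'⁻¹ * y'⁻¹) := by rw [c3.eq]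
        _ = x * x' * x⁻¹ * ((y * y' * y⁻¹) * x'⁻¹) * y'⁻¹ := by group
        _ = x * x' * x⁻¹ * (x'⁻¹ * (y * y' * y⁻¹)) * y'⁻¹ := by rw [c2.eq]
        _ = _ := by group
    rw [h1]
    exact Z.mul_mem (hcomm x hx x' hx') (hE.comm y hy y' hy')
  · rintro _ ⟨x, hx, y, hy, rfl⟩ h
    obtain ⟨h1, h2⟩ := hcen' x hx y hy h
    exact Z.mul_mem h1 h2
  · obtain ⟨s, hs, hsE⟩ := hE.sqf
    by_cases hrs : r ∣ s
    · refine ⟨s, hs, ?_⟩
      rintro _ ⟨x, hx, y, hy, rfl⟩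
      rw [prodSub_pow hNE hx hy]
      refine Z.mul_mem ?_ (hsE y hy)
      obtain ⟨t, rfl⟩ := hrs
      rw [pow_mul]; exact Z.pow_mem (hpow x hx) t
    · refine ⟨r * s, ?_, ?_⟩
      · rw [Nat.squarefree_mul ((Nat.Prime.coprime_iff_not_dvd hr).mpr hrs)]
        exact ⟨hr.squarefree, hs⟩
      · rintro _ ⟨x, hx, y, hy, rfl⟩
        rw [prodSub_pow hNE hx hy]
        refine Z.mul_mem ?_ ?_
        · rw [pow_mul]; exact Z.pow_mem (hpow x hx) s
        · rw [mul_comm, pow_mul]; exact Z.pow_mem (hsE y hy) r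
  · rintro _ ⟨x, hx, y, hy, rfl⟩ r' hr' hxy
    rw [prodSub_pow hNE hx hy] at hxy
    obtain ⟨h1, h2⟩ := hcen' (x ^ r') (N.pow_mem hx r') (y ^ r') (E.pow_mem hy r') (by
      rintro _ ⟨x', hx', y', hy', rfl⟩
      have e1 : Commute (x ^ r' * y ^ r') x' := (hNE x' hx' _ (hE.ZE hxy)).symm
      have e2 : Commute (x ^ r' * y ^ r') y' := (hE.EZ y' hy' _ hxy).symm
      exact (e1.mul_right e2).eq)
    obtain ⟨k, hk, hk1⟩ := hstN x hx r' hr' h1
    obtain ⟨k', hk', hk1'⟩ := hstE y hy r' hr' h2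
    refine ⟨k * k', K.mul_mem hk hk', ?_⟩
    have c1 : Commute k' x := (Units.ext (hNK x hx _ hk')).symm
    have c2 : Commute k y := (Units.ext (hEK y hy _ hk)).symm
    have c3 : Commute k k' := Units.ext (hK.comm _ hk _ hk')
    have c4 : Commute x y := hNE x hx y hy
    have h3 : k * k' * (x * y) = (k * x) * (k' * y) := by
      calc k * k' * (x * y) = k * (k' * x) * y := by group
        _ = k * (x * k') * y := by rw [c1.eq]
        _ = _ := by group
    have c5 : Commute (k * x) (k' * y) :=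
      (c3.mul_right c2).mul_left (c1.symm.mul_right c4)
    rcases hk1 with hk1 | ⟨hr2, hk1⟩ <;> rcases hk1' with hk1' | ⟨hr2', hk1'⟩
    · left; rw [h3, c5.mul_pow, hk1, hk1', mul_one]
    · right
      refine ⟨hr2', ?_⟩
      subst hr2'
      rw [h3, c5.mul_pow, hk1, hk1', one_mul]
    · right
      refine ⟨hr2, ?_⟩
      subst hr2
      rw [h3, c5.mul_pow, hk1, hk1', mul_one]
    · left
      subst hr2
      rw [h3, c5.mul_pow, hk1, hk1', neg_mul_neg, one_mul]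

/-- the data attached to a primitive solvable linear group -/
structure Dat (G : Subgroup (AU V)) where
  /-- the field -/
  K : Subring (AddMonoid.End V)
  /-- the group of symplectic type -/
  E : Subgroup (AU V)
  isF : IsF K
  GK : ∀ g ∈ G, ∀ a ∈ K, cj g a ∈ K
  KE : ∀ k : AU V, k.1 ∈ K → k ∈ E
  GE : NB G E
  EK : ∀ e ∈ E, ∀ a ∈ K, e.1 * a = a * e.1
  comm : ∀ x ∈ E, ∀ y ∈ E, (x * y * x⁻¹ * y⁻¹).1 ∈ K
  center : ∀ x ∈ E, (∀ y ∈ E, x * y = y * x) → x.1 ∈ K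
  cent : ∀ g ∈ G, (∀ y ∈ E, g * y = y * g) → g.1 ∈ K
  sqf : ∃ s : ℕ, Squarefree s ∧ s ∣ Nat.card G ∧ ∀ x ∈ E, (x ^ s).1 ∈ K
  star : ∀ x ∈ E, ∀ r : ℕ, r.Prime → (x ^ r).1 ∈ K → ∃ k : AU V, k.1 ∈ K ∧
    ((k * x) ^ r = 1 ∨ (r = 2 ∧ (k * x) ^ 2 = -1))
  EG : ∀ x ∈ E, ∃ e ∈ E, ∃ k : AU V, e ∈ G ∧ k.1 ∈ K ∧ x = e * k

theorem exists_dat [Nontrivial V] [Finite V] {G : Subgroup (AU V)} (hirr : Irr G)
    (hprim : Prim G) (hsol : Group.IsSolvable G) : Nonempty (Dat G) := by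
  classical
  have hfe : Finite (AddMonoid.End V) := finite_end
  -- the maximal abelian normal subgroup
  obtain ⟨Z, ⟨hZG, hZn, hZab⟩, hZmax0⟩ := Set.Finite.exists_maximal
    (s := {Z : Subgroup (AU V) | Z ≤ G ∧ NB G Z ∧ ∀ x ∈ Z, ∀ y ∈ Z, x * y = y * x})
    (Set.toFinite _) ⟨⊥, bot_le, fun g _ x hx => by
      rw [Subgroup.mem_bot] at hx ⊢; rw [hx]; group, fun x hx y hy => by
      rw [Subgroup.mem_bot] at hx hy; rw [hx, hy]⟩
  have hZmax : ∀ B : Subgroup (AU V), B ≤ G → NB G B → (∀ x ∈ B, ∀ y ∈ B, x * y = y * x) →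
      Z ≤ B → B = Z := fun B h1 h2 h3 h4 => le_antisymm (hZmax0 ⟨h1, h2, h3⟩ h4) h4
  -- the field
  let S : Set (AddMonoid.End V) := {a | ∃ z ∈ Z, a = z.1}
  let K : Subring (AddMonoid.End V) := Subring.closure S
  have hZK : ∀ z ∈ Z, z.1 ∈ K := fun z hz => Subring.subset_closure ⟨z, hz, rfl⟩
  have hcen : ∀ x : AU V, (∀ z ∈ Z, x * z = z * x) → ∀ a ∈ K, x.1 * a = a * x.1 := by
    intro x hx
    apply commute_closure
    rintro _ ⟨z, hz, rfl⟩
    exact congrArg Units.val (hx z hz)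
  have hKcomm : ∀ a ∈ K, ∀ b ∈ K, a * b = b * a := by
    intro a ha
    apply commute_closure
    rintro _ ⟨z, hz, rfl⟩
    exact (hcen z (fun w hw => hZab z hz w hw) a ha).symm
  have hGK : ∀ g ∈ G, ∀ a ∈ K, cj g a ∈ K := by
    intro g hg a ha
    have h1 : Subring.closure S ≤ K.comap (cjHom g) := by
      rw [Subring.closure_le]
      rintro _ ⟨z, hz, rfl⟩
      exact hZK _ (hZn g hg z hz)
    exact h1 ha
  have hK : IsF K := ⟨hKcomm, fun a ha ha0 => field_of_prim hirr hprim K hKcomm hGK ha ha0⟩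
  -- the maximal member of the family
  obtain ⟨E, ⟨hE, hst⟩, hEmax⟩ := Set.Finite.exists_maximal
    (s := {E : Subgroup (AU V) | Fam G Z E ∧ Star K Z E}) (Set.toFinite _)
    ⟨Z, ⟨le_rfl, hZG, hZn, hZab, fun x hx y hy => by
      rw [hZab x hx y hy, mul_inv_cancel_right, mul_inv_cancel]; exact Z.one_mem,
      fun x hx _ => hx, 1, squarefree_one, fun x hx => by rwa [pow_one]⟩,
      fun x hx r _ _ => ⟨x⁻¹, hZK _ (Z.inv_mem hx), Or.inl (by
        rw [inv_mul_cancel, one_pow])⟩⟩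
  have hEK : ∀ e ∈ E, ∀ a ∈ K, e.1 * a = a * e.1 := fun e he =>
    hcen e (fun z hz => hE.EZ e he z hz)
  have hCE : ∀ g ∈ G, (∀ y ∈ E, g * y = y * g) → g ∈ Z := by
    intro g hg hgE
    by_contra hgZ
    obtain ⟨N, r, hr, hZN, hNG, hNn, hNZ, hNE, hNcomm, hNpow, hNcen, hNmin⟩ :=
      exists_section hsol hZn hZmax hE hg hgE hgZ
    have hNK : ∀ x ∈ N, ∀ a ∈ K, x.1 * a = a * x.1 := fun x hx =>
      hcen x (fun z hz => hNE x hx z (hE.ZE hz))
    have hstN := star_section hK hGK hZK hNK hr hZN hNZ hNcomm hNpow hNcen hNn hNmin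
    have h1 := fam_prod hK hZK hNK hEK hr hZN hNG hNcomm hNpow hNcen hNn hNE hE hstN hst
    have h2 := hEmax h1 (le_prodSub_right hNE)
    apply hNZ
    apply le_antisymm _ hZN
    intro x hx
    apply hNcen x hx
    intro y hy
    exact hNE x hx y (h2 (le_prodSub_left hNE hy))
  have hcommEK : ∀ x ∈ E, ∀ y ∈ hK.units, x * y = y * x := fun x hx y hy =>
    Units.ext (hEK x hx y.1 hy)
  refine ⟨⟨K, prodSub E hK.units hcommEK, hK, hGK, fun k hk => le_prodSub_right hcommEK hk,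
    ?_, ?_, ?_, ?_, ?_, ?_, ?_, ?_⟩⟩
  · rintro g hg _ ⟨x, hx, k, hk, rfl⟩
    exact ⟨g * x * g⁻¹, hE.nb g hg x hx, g * k * g⁻¹, hGK g hg _ hk, by group⟩
  · rintro _ ⟨x, hx, k, hk, rfl⟩ a ha
    rw [Units.val_mul, mul_assoc, hKcomm _ hk _ ha, ← mul_assoc, hEK x hx a ha, mul_assoc]
  · rintro _ ⟨x, hx, k, hk, rfl⟩ _ ⟨y, hy, l, hl, rfl⟩
    have hkx : Commute k x := (hcommEK x hx k hk).symm
    have hky : Commute k y := (hcommEK y hy k hk).symm
    have hlx : Commute l x := (hcommEK x hx l hl).symm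
    have hly : Commute l y := (hcommEK y hy l hl).symm
    have hkl : Commute k l := Units.ext (hKcomm _ hk _ hl)
    have h1 : x * k * (y * l) * (x * k)⁻¹ * (y * l)⁻¹ = x * y * x⁻¹ * y⁻¹ := by
      have e1 : x * k * (y * l) = x * y * (k * l) := by
        calc x * k * (y * l) = x * (k * y) * l := by group
          _ = x * (y * k) * l := by rw [hky.eq]
          _ = _ := by group
      have e2 : Commute (k * l) (x⁻¹) := (hkx.mul_left hlx).inv_right
      have e3 : Commute l y⁻¹ := hly.inv_right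
      have e4 : k⁻¹ * x⁻¹ = x⁻¹ * k⁻¹ := (hkx.inv_inv).eq
      calc x * k * (y * l) * (x * k)⁻¹ * (y * l)⁻¹
          = x * y * (k * l) * (k⁻¹ * x⁻¹) * (y * l)⁻¹ := by rw [e1, mul_inv_rev x k]
        _ = x * y * (k * l) * (k⁻¹ * x⁻¹) * (l⁻¹ * y⁻¹) := by rw [mul_inv_rev y l]
        _ = x * y * (l * k) * (k⁻¹ * x⁻¹) * (l⁻¹ * y⁻¹) := by rw [hkl.eq]
        _ = x * y * (l * x⁻¹) * l⁻¹ * y⁻¹ := by group
        _ = x * y * (x⁻¹ * l) * l⁻¹ * y⁻¹ := by rw [(hlx.inv_right).eq]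
        _ = _ := by group
    rw [h1]
    exact hZK _ (hE.comm x hx y hy)
  · rintro _ ⟨x, hx, k, hk, rfl⟩ h
    rw [Units.val_mul]
    refine K.mul_mem (hZK _ (hE.center x hx fun y hy => ?_)) hk
    have h1 := h y (le_prodSub_left hcommEK hy)
    have h2 := hcommEK y hy k hk
    have h3 : x * y * k = y * x * k := by
      calc x * y * k = x * (y * k) := by group
        _ = x * (k * y) := by rw [h2]
        _ = x * k * y := by group
        _ = y * (x * k) := h1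
        _ = _ := by group
    exact mul_right_cancel h3
  · intro g hg h
    exact hZK _ (hCE g hg fun y hy => h y (le_prodSub_left hcommEK hy))
  · obtain ⟨s, hs, hsE⟩ := hE.sqf
    refine ⟨Nat.gcd s (Nat.card G), hs.squarefree_of_dvd (Nat.gcd_dvd_left _ _),
      Nat.gcd_dvd_right _ _, ?_⟩
    rintro _ ⟨x, hx, k, hk, rfl⟩
    rw [(show Commute x k from hcommEK x hx k hk).mul_pow, Units.val_mul]
    refine K.mul_mem (hZK _ ?_) (hK.units.pow_mem (x := k) hk _)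
    have h1 : x ^ Nat.card G = 1 := by
      have h2 : (⟨x, hE.EG hx⟩ : G) ^ Nat.card G = 1 := pow_card_eq_one'
      exact congrArg Subtype.val h2
    have h3 := Nat.gcd_eq_gcd_ab s (Nat.card G)
    have h4 : x ^ (Nat.gcd s (Nat.card G)) = (x ^ s) ^ (Nat.gcdA s (Nat.card G)) := by
      rw [← zpow_natCast, h3, zpow_add, zpow_mul, zpow_mul, zpow_natCast, zpow_natCast, h1,
        one_zpow, mul_one]
    rw [h4]
    exact Z.zpow_mem (hsE x hx) _
  · rintro _ ⟨x, hx, k, hk, rfl⟩ r hr hxk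
    have hkx : Commute x k := hcommEK x hx k hk
    rw [hkx.mul_pow, Units.val_mul] at hxk
    have h1 : (x ^ r).1 ∈ K := by
      have h2 : ((k ^ r)⁻¹).1 ∈ K := hK.units.inv_mem (hK.units.pow_mem (x := k) hk r)
      have h3 := K.mul_mem hxk h2
      rwa [mul_assoc, Units.mul_inv, mul_one] at h3
    have h2 : x ^ r ∈ Z := by
      apply hE.center _ (E.pow_mem hx r)
      intro y hy
      exact Units.ext (hEK y hy _ h1).symm
    obtain ⟨l, hl, h3⟩ := hst x hx r hr h2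
    have hki : (k⁻¹).1 ∈ K := hK.units.inv_mem (x := k) hk
    refine ⟨l * k⁻¹, K.mul_mem hl hki, ?_⟩
    have h4 : l * k⁻¹ * (x * k) = l * x := by
      rw [hkx.eq]; group
    rw [h4]
    exact h3
  · rintro _ ⟨x, hx, k, hk, rfl⟩
    exact ⟨x, le_prodSub_left hcommEK hx, k, hE.EG hx, hk, rfl⟩

end Cfsg.Agent.H578
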