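import Cfsg.Agent.H578.Base3

/-!
# Rigid sets for linear groups: odd characteristic at least five (helper578)
-/

set_option autoImplicit false

universe u

namespace Cfsg.Agent.H578

variable {V : Type u} [AddCommGroup V]

/-- triples -/
abbrev T3 := ℕ × ℕ × ℕ

/-- linear combinations -/
def E3 (e₁ e₂ e₃ : V) (u : T3) : V := u.1 • e₁ + u.2.1 • e₂ + u.2.2 • e₃

def t3a (u w : T3) : T3 := (u.1 + w.1, u.2.1 + w.2.1, u.2.2 + w.2.2)

theorem E3_add (e₁ e₂ e₃ : V) (u w : T3) :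
    E3 e₁ e₂ e₃ (t3a u w) = E3 e₁ e₂ e₃ u + E3 e₁ e₂ e₃ w := by
  unfold E3 t3a
  simp only [add_nsmul]
  abel

/-- small triples are determined by their linear combination -/
theorem E3_inj {e₁ e₂ e₃ : V} {r : ℕ} (hr : 5 ≤ r)
    (hind : ∀ α β γ : ℤ, α • e₁ + β • e₂ + γ • e₃ = 0 →
      (r : ℤ) ∣ α ∧ (r : ℤ) ∣ β ∧ (r : ℤ) ∣ γ) {u w : T3}
    (hu : u.1 ≤ 4 ∧ u.2.1 ≤ 4 ∧ u.2.2 ≤ 4) (hw : w.1 ≤ 4 ∧ w.2.1 ≤ 4 ∧ w.2.2 ≤ 4)
    (h : E3 e₁ e₂ e₃ u = E3 e₁ e₂ e₃ w) : u = w := by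
  obtain ⟨h1, h2, h3⟩ := hind ((u.1 : ℤ) - w.1) ((u.2.1 : ℤ) - w.2.1) ((u.2.2 : ℤ) - w.2.2) (by
    unfold E3 at h
    simp only [sub_zsmul, natCast_zsmul]
    rw [← sub_eq_zero] at h
    rw [← h]
    abel)
  have key : ∀ a b : ℕ, a ≤ 4 → b ≤ 4 → (r : ℤ) ∣ (a : ℤ) - b → a = b := by
    intro a b ha hb hd
    have := Int.eq_zero_of_abs_lt_dvd hd (by rw [abs_lt]; constructor <;> omega)
    omega
  exact Prod.ext (key _ _ hu.1 hw.1 h1) (Prod.ext (key _ _ hu.2.1 hw.2.1 h2)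
    (key _ _ hu.2.2 hw.2.2 h3))

/-- independence from minimality -/
theorem ind3_of {e₁ e₂ e₃ : V} {r : ℕ} (hr : r.Prime) (hrV : ∀ x : V, r • x = 0)
    (h1 : e₁ ≠ 0) (h2 : e₂ ∉ AddSubgroup.closure {e₁})
    (h3 : e₃ ∉ AddSubgroup.closure {e₁, e₂}) (α β γ : ℤ)
    (h : α • e₁ + β • e₂ + γ • e₃ = 0) : (r : ℤ) ∣ α ∧ (r : ℤ) ∣ β ∧ (r : ℤ) ∣ γ := by
  have hrV' : ∀ x : V, (r : ℤ) • x = 0 := fun x => by rw [natCast_zsmul]; exact hrV x
  have key : ∀ (W : AddSubgroup V) (x : V) (n : ℤ), x ∉ W → n • x ∈ W → (r : ℤ) ∣ n := by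
    intro W x n hx hn
    by_contra hrn
    have hcop : IsCoprime (r : ℤ) n := (Nat.prime_iff_prime_int.mp hr).coprime_iff_not_dvd.mpr hrn
    obtain ⟨a, b, hab⟩ := hcop
    apply hx
    have : x = b • (n • x) := by
      rw [← mul_zsmul]
      conv_lhs => rw [← one_zsmul x, ← hab, add_zsmul, mul_zsmul, hrV', zsmul_zero, zero_add]
    rw [this]
    exact W.zsmul_mem hn b
  have r3 : (r : ℤ) ∣ γ := by
    apply key _ _ _ h3
    have : γ • e₃ = -(α • e₁ + β • e₂) := by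
      rw [eq_neg_iff_add_eq_zero, add_comm]; exact h
    rw [this]
    refine AddSubgroup.neg_mem _ (AddSubgroup.add_mem _ (AddSubgroup.zsmul_mem _ ?_ _)
      (AddSubgroup.zsmul_mem _ ?_ _))
    · exact AddSubgroup.subset_closure (by simp)
    · exact AddSubgroup.subset_closure (by simp)
  have h' : α • e₁ + β • e₂ = 0 := by
    obtain ⟨q, rfl⟩ := r3
    rw [mul_zsmul, hrV', add_zero] at h
    exact h
  have r2 : (r : ℤ) ∣ β := by
    apply key _ _ _ h2
    have : β • e₂ = -(α • e₁) := by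
      rw [eq_neg_iff_add_eq_zero, add_comm]; exact h'
    rw [this]
    exact AddSubgroup.neg_mem _ (AddSubgroup.zsmul_mem _ (AddSubgroup.subset_closure (by simp)) _)
  have h'' : α • e₁ = 0 := by
    obtain ⟨q, rfl⟩ := r2
    rw [mul_zsmul, hrV', add_zero] at h'
    exact h'
  refine ⟨?_, r2, r3⟩
  apply key ⊥ e₁ _ (by rw [AddSubgroup.mem_bot]; exact h1)
  rw [AddSubgroup.mem_bot]; exact h''

/-- fixing generators -/
theorem fix_closure {s : Set V} {g : AU V} (h : ∀ x ∈ s, g.1 x = x) {y : V}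
    (hy : y ∈ AddSubgroup.closure s) : g.1 y = y := by
  induction hy using AddSubgroup.closure_induction with
  | mem x hx => exact h x hx
  | zero => exact map_zero _
  | add x y _ _ hx hy => rw [map_add, hx, hy]
  | neg x _ hx => rw [map_neg, hx]

set_option maxHeartbeats 1000000 in
/-- **rigid sets, large characteristic** -/
theorem delta5 {r : ℕ} (hr : r.Prime) (hr5 : 5 ≤ r) (hrV : ∀ x : V, r • x = 0)
    (H : Subgroup (AU V)) (hb : HasBase (Fin 3) H) :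
    ∃ Δ : Set V, 0 ∉ Δ ∧ ∀ g ∈ H, (∀ x ∈ Δ, g.1 x ∈ Δ) → g = 1 := by
  classical
  obtain ⟨v, hv⟩ := hb
  have two_ne : ∀ x : V, x ≠ 0 → x + x ≠ 0 := by
    intro x hx h0
    have h1 : addOrderOf x = r := addOrderOf_eq_prime (hp := ⟨hr⟩) (hrV x) hx
    have h2 : (2 : ℕ) • x = 0 := by rw [two_nsmul]; exact h0
    have h3 := addOrderOf_dvd_of_nsmul_eq_zero h2
    rw [h1] at h3
    exact absurd (Nat.le_of_dvd (by norm_num) h3) (by omega)
  have inj : ∀ (g : AU V) {x y : V}, g.1 x = g.1 y → x = y := fun g {x y} h => au_injective g h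
  by_cases hb0 : ∀ g ∈ H, g = 1
  · exact ⟨∅, fun h => h, fun g hg _ => hb0 g hg⟩
  by_cases hb1 : ∃ e₁ : V, ∀ g ∈ H, g.1 e₁ = e₁ → g = 1
  · obtain ⟨e₁, he₁⟩ := hb1
    have h0 : e₁ ≠ 0 := by
      rintro rfl
      exact hb0 fun g hg => he₁ g hg (map_zero _)
    exact ⟨{e₁}, fun h => h0 (Set.mem_singleton_iff.mp h).symm,
      fun g hg h => he₁ g hg (Set.mem_singleton_iff.mp (h e₁ (Set.mem_singleton e₁)))⟩
  by_cases hb2 : ∃ e₁ e₂ : V, ∀ g ∈ H, g.1 e₁ = e₁ → g.1 e₂ = e₂ → g = 1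
  · obtain ⟨e₁, e₂, he⟩ := hb2
    have h1 : e₁ ≠ 0 := by
      rintro rfl
      exact hb1 ⟨e₂, fun g hg h => he g hg (map_zero _) h⟩
    have h2 : e₂ ∉ AddSubgroup.closure {e₁} := by
      intro h
      refine hb1 ⟨e₁, fun g hg hge => he g hg hge (fix_closure (s := {e₁}) ?_ h)⟩
      rintro x rfl; exact hge
    have h20 : e₂ ≠ 0 := fun h => h2 (by rw [h]; exact AddSubgroup.zero_mem _)
    have hm : ∀ n : ℕ, n • e₁ ∈ AddSubgroup.closure {e₁} := fun n =>
      AddSubgroup.nsmul_mem _ (AddSubgroup.subset_closure (Set.mem_singleton e₁)) n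
    have n1 : e₁ ≠ e₂ := fun h => h2 (by rw [← h]; have := hm 1; rwa [one_nsmul] at this)
    have n2 : e₁ + e₁ ≠ e₂ := fun h => h2 (by rw [← h]; have := hm 2; rwa [two_nsmul] at this)
    refine ⟨{e₁, e₁ + e₁, e₂}, ?_, fun g hg h => ?_⟩
    · simp only [Set.mem_insert_iff, Set.mem_singleton_iff, not_or]
      exact ⟨h1.symm, (two_ne _ h1).symm, h20.symm⟩
    · have a1 := h e₁ (by simp)
      have a2 := h (e₁ + e₁) (by simp)
      have a3 := h e₂ (by simp)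
      simp only [Set.mem_insert_iff, Set.mem_singleton_iff] at a1 a2 a3
      rw [map_add] at a2
      have b1 : g.1 e₁ = e₁ := by
        rcases a1 with a1 | a1 | a1
        · exact a1
        · exfalso
          rw [a1] at a2
          rcases a2 with a2 | a2 | a2
          · -- `4 e₁ = e₁`
            have h3 : (3 : ℕ) • e₁ = 0 := by
              have : e₁ + e₁ + (e₁ + e₁) = (3 : ℕ) • e₁ + e₁ := by
                rw [succ_nsmul, two_nsmul]; abel
              rw [this] at a2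
              exact add_eq_right.mp a2
            have h4 : addOrderOf e₁ = r := addOrderOf_eq_prime (hp := ⟨hr⟩) (hrV e₁) h1
            have h5 := addOrderOf_dvd_of_nsmul_eq_zero h3
            rw [h4] at h5
            exact absurd (Nat.le_of_dvd (by norm_num) h5) (by omega)
          · exact two_ne _ h1 (add_eq_left.mp a2)
          · apply h2
            rw [← a2]
            have := hm 4
            rw [show 4 = 2 + 2 from rfl, add_nsmul, two_nsmul] at this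
            exact this
        · exfalso
          rw [a1] at a2
          rcases a2 with a2 | a2 | a2
          · -- `2 e₂ = e₁`
            apply h2
            -- `e₂ = ((r+1)/2) e₁`
            have hodd : r % 2 = 1 := by
              rcases hr.eq_two_or_odd with h | h
              · omega
              · exact h
            have h6 : e₂ = ((r + 1) / 2) • e₁ := by
              rw [← a2, ← two_nsmul, ← mul_nsmul]
              have : 2 * ((r + 1) / 2) = r + 1 := by omega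
              rw [this, succ_nsmul, hrV, zero_add]
            rw [h6]
            exact hm _
          · -- `2 e₂ = 2 e₁`
            have h7 : (e₂ - e₁) + (e₂ - e₁) = 0 := by
              have : (e₂ - e₁) + (e₂ - e₁) = (e₂ + e₂) - (e₁ + e₁) := by abel
              rw [this, a2, sub_self]
            by_cases h8 : e₂ - e₁ = 0
            · exact n1 (sub_eq_zero.mp h8).symm
            · exact two_ne _ h8 h7
          · exact h20 (add_eq_left.mp a2)
      have b2 : g.1 e₂ = e₂ := by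
        rcases a3 with a3 | a3 | a3
        · exfalso; rw [← b1] at a3; exact n1 (inj g a3).symm
        · exfalso
          have : g.1 e₂ = g.1 (e₁ + e₁) := by rw [map_add, b1, a3]
          exact n2 (inj g this).symm
        · exact a3
      exact he g hg b1 b2
  · -- three vectors
    obtain ⟨e₁, he₁⟩ : ∃ e, e = v 0 := ⟨_, rfl⟩
    obtain ⟨e₂, he₂⟩ : ∃ e, e = v 1 := ⟨_, rfl⟩
    obtain ⟨e₃, he₃⟩ : ∃ e, e = v 2 := ⟨_, rfl⟩
    have he : ∀ g ∈ H, g.1 e₁ = e₁ → g.1 e₂ = e₂ → g.1 e₃ = e₃ → g = 1 := by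
      intro g hg a1 a2 a3
      apply hv g hg
      intro i
      fin_cases i
      · rw [he₁] at a1; exact a1
      · rw [he₂] at a2; exact a2
      · rw [he₃] at a3; exact a3
    have h1 : e₁ ≠ 0 := by
      intro h0
      exact hb2 ⟨e₂, e₃, fun g hg a b => he g hg (by rw [h0]; exact map_zero _) a b⟩
    have h2 : e₂ ∉ AddSubgroup.closure {e₁} := by
      intro h
      refine hb2 ⟨e₁, e₃, fun g hg a b => he g hg a (fix_closure (s := {e₁}) ?_ h) b⟩
      rintro x rfl; exact a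
    have h3 : e₃ ∉ AddSubgroup.closure {e₁, e₂} := by
      intro h
      refine hb2 ⟨e₁, e₂, fun g hg a b => he g hg a b (fix_closure (s := {e₁, e₂}) ?_ h)⟩
      rintro x (rfl | rfl)
      · exact a
      · exact b
    have hind := ind3_of hr hrV h1 h2 h3
    have hinj : ∀ {u w : T3}, (u.1 ≤ 4 ∧ u.2.1 ≤ 4 ∧ u.2.2 ≤ 4) →
        (w.1 ≤ 4 ∧ w.2.1 ≤ 4 ∧ w.2.2 ≤ 4) → E3 e₁ e₂ e₃ u = E3 e₁ e₂ e₃ w → u = w :=
      fun {u w} hu hw h => E3_inj hr5 hind hu hw h
    let Dl : List T3 := [(1, 0, 0), (2, 0, 0), (0, 1, 0), (0, 0, 1), (1, 1, 0)]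
    have hDl : ∀ u ∈ Dl, u.1 ≤ 4 ∧ u.2.1 ≤ 4 ∧ u.2.2 ≤ 4 := by decide
    have hE : ∀ {x : V}, x ∈ {x | ∃ u ∈ Dl, x = E3 e₁ e₂ e₃ u} ↔ ∃ u ∈ Dl, x = E3 e₁ e₂ e₃ u :=
      Iff.rfl
    have q1 : E3 e₁ e₂ e₃ (1, 0, 0) = e₁ := by unfold E3; simp
    have q2 : E3 e₁ e₂ e₃ (0, 1, 0) = e₂ := by unfold E3; simp
    have q3 : E3 e₁ e₂ e₃ (0, 0, 1) = e₃ := by unfold E3; simp
    have q4 : E3 e₁ e₂ e₃ (2, 0, 0) = e₁ + e₁ := by unfold E3; simp [two_nsmul]
    have q5 : E3 e₁ e₂ e₃ (1, 1, 0) = e₁ + e₂ := by unfold E3; simp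
    refine ⟨{x | ∃ u ∈ Dl, x = E3 e₁ e₂ e₃ u}, ?_, fun g hg h => ?_⟩
    · rintro ⟨u, hu, e⟩
      have h0 : E3 e₁ e₂ e₃ (0, 0, 0) = 0 := by unfold E3; simp
      rw [← h0] at e
      have := hinj (by decide) (hDl u hu) e
      subst this
      revert hu; decide
    · obtain ⟨u₁, hu₁, a1⟩ := h _ ⟨_, (by decide : (1, 0, 0) ∈ Dl), q1.symm⟩
      obtain ⟨u₂, hu₂, a2⟩ := h _ ⟨_, (by decide : (2, 0, 0) ∈ Dl), q4.symm⟩
      obtain ⟨u₃, hu₃, a3⟩ := h _ ⟨_, (by decide : (0, 1, 0) ∈ Dl), q2.symm⟩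
      obtain ⟨u₄, hu₄, a4⟩ := h _ ⟨_, (by decide : (0, 0, 1) ∈ Dl), q3.symm⟩
      obtain ⟨u₅, hu₅, a5⟩ := h _ ⟨_, (by decide : (1, 1, 0) ∈ Dl), q5.symm⟩
      rw [map_add, a1, ← E3_add] at a2
      have box : ∀ u ∈ Dl, (t3a u u).1 ≤ 4 ∧ (t3a u u).2.1 ≤ 4 ∧ (t3a u u).2.2 ≤ 4 := by decide
      have c1 := hinj (box u₁ hu₁) (hDl u₂ hu₂) a2
      have d1 : u₁ = (1, 0, 0) := by
        have : ∀ u ∈ Dl, t3a u u ∈ Dl → u = (1, 0, 0) := by decide
        exact this u₁ hu₁ (by rw [c1]; exact hu₂)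
      have b1 : g.1 e₁ = e₁ := by rw [a1, d1, q1]
      have box2 : ∀ u ∈ Dl, (t3a (1, 0, 0) u).1 ≤ 4 ∧ (t3a (1, 0, 0) u).2.1 ≤ 4 ∧
        (t3a (1, 0, 0) u).2.2 ≤ 4 := by decide
      have a5' : E3 e₁ e₂ e₃ (t3a (1, 0, 0) u₃) = E3 e₁ e₂ e₃ u₅ := by
        rw [E3_add, q1, ← a3, ← a5, map_add, b1]
      have c5 := hinj (box2 u₃ hu₃) (hDl u₅ hu₅) a5'
      have ne31 : u₃ ≠ (1, 0, 0) := by
        intro h
        rw [h, ← d1, ← a1] at a3
        have h5 := inj g a3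
        exact absurd (hinj (u := (1, 0, 0)) (w := (0, 1, 0)) (by decide) (by decide)
          ((q1.trans h5.symm).trans q2.symm)) (by decide)
      have d3 : u₃ = (0, 1, 0) := by
        have : ∀ u ∈ Dl, t3a (1, 0, 0) u ∈ Dl → u ≠ (1, 0, 0) → u = (0, 1, 0) := by decide
        exact this u₃ hu₃ (by rw [c5]; exact hu₅) ne31
      have b2 : g.1 e₂ = e₂ := by rw [a3, d3, q2]
      have ne4 : ∀ u ∈ Dl, u ≠ (0, 0, 1) → u₄ ≠ u := by
        intro u hu hne h4
        -- `g` fixes `E u`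
        have hfix : g.1 (E3 e₁ e₂ e₃ u) = E3 e₁ e₂ e₃ u := by
          have : u = (u.1, u.2.1, 0) := by
            have : ∀ u ∈ Dl, u ≠ (0, 0, 1) → u = (u.1, u.2.1, 0) := by decide
            exact this u hu hne
          rw [this]
          unfold E3
          rw [zero_nsmul, add_zero, map_add, map_nsmul, map_nsmul, b1, b2]
        rw [h4, ← hfix] at a4
        have h5 := inj g a4
        exact hne (hinj (by decide) (hDl u hu) (q3.trans h5)).symm
      have d4 : u₄ = (0, 0, 1) := by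
        by_contra hne
        exact ne4 u₄ hu₄ hne rfl
      have b3 : g.1 e₃ = e₃ := by rw [a4, d4, q3]
      exact he g hg b1 b2 b3

end Cfsg.Agent.H578
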