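import Cfsg.Agent.H578.DeltaA

/-!
# Rigid sets for linear groups: characteristic two (helper578)
-/

set_option autoImplicit false

universe u

namespace Cfsg.Agent.H578.Del2

/-- coordinate vectors over the field with two elements -/
abbrev F3 := Bool × Bool × Bool

def bx (b : Bool) (u : F3) : F3 := (b && u.1, b && u.2.1, b && u.2.2)

def fx (u w : F3) : F3 := (xor u.1 w.1, xor u.2.1 w.2.1, xor u.2.2 w.2.2)

/-- triples of vectors -/
abbrev M3 := F3 × F3 × F3

def mv (m : M3) (u : F3) : F3 := fx (bx u.1 m.1) (fx (bx u.2.1 m.2.1) (bx u.2.2 m.2.2))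

theorem comb3 (N : (F3 → F3) → Prop) (hmul : ∀ f g, N f → N g → N (f ∘ g))
    (h3 : ∀ f, N f → (∀ u, f (f (f u)) = u) → ∀ u, f u = u)
    (hB0 : N (mv ((false, true, false), (true, false, false), (false, false, true))) ∨
      N (mv ((false, false, true), (false, true, false), (true, false, false))) ∨
      N (mv ((true, false, false), (false, false, true), (false, true, false))))
    (hB1 : N (mv ((true, true, false), (false, true, false), (false, false, true))) ∨
      N (mv ((false, false, true), (true, true, true), (true, false, false))) ∨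
      N (mv ((true, false, false), (true, false, true), (true, true, false))))
    (hB2 : N (mv ((true, true, false), (false, true, false), (false, true, true))) ∨
      N (mv ((true, false, true), (false, true, true), (false, false, true))) ∨
      N (mv ((true, false, false), (false, false, true), (false, true, false))))
    (hB3 : N (mv ((true, true, false), (false, true, false), (false, true, true))) ∨
      N (mv ((true, true, true), (false, false, true), (false, true, false))) ∨
      N (mv ((true, false, false), (false, true, true), (false, false, true))))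
    (hB4 : N (mv ((false, true, false), (true, false, false), (true, true, true))) ∨
      N (mv ((true, false, true), (false, true, false), (false, false, true))) ∨
      N (mv ((true, false, false), (true, false, true), (true, true, false))))
    (hB5 : N (mv ((false, true, false), (true, false, false), (false, false, true))) ∨
      N (mv ((true, true, true), (false, true, false), (false, false, true))) ∨
      N (mv ((true, false, false), (true, true, true), (false, false, true))))
    (hB6 : N (mv ((false, true, false), (true, false, false), (true, true, true))) ∨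
      N (mv ((false, true, true), (false, true, false), (true, true, false))) ∨
      N (mv ((true, false, false), (false, true, true), (false, false, true))))
    (hB7 : N (mv ((true, true, false), (false, true, false), (false, false, true))) ∨
      N (mv ((false, true, true), (true, false, true), (false, false, true))) ∨
      N (mv ((true, false, false), (true, true, true), (false, false, true)))) : False := by
  rcases hB0 with k0 | k0 | k0
  · rcases hB1 with k1 | k1 | k1
    · exact absurd (h3 _ (hmul _ _ k0 k1)
        (by decide +kernel)) (by decide +kernel)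
    · rcases hB2 with k2 | k2 | k2
      · exact absurd (h3 _ (hmul _ _ k0 k2)
        (by decide +kernel)) (by decide +kernel)
      · exact absurd (h3 _ (hmul _ _ k1 k2)
        (by decide +kernel)) (by decide +kernel)
      · exact absurd (h3 _ (hmul _ _ k0 k2)
        (by decide +kernel)) (by decide +kernel)
    · rcases hB3 with k2 | k2 | k2
      · exact absurd (h3 _ (hmul _ _ k0 k2)
        (by decide +kernel)) (by decide +kernel)
      · exact absurd (h3 _ (hmul _ _ (hmul _ _ (hmul _ _ k0 k1) k0) k2)
        (by decide +kernel)) (by decide +kernel)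
      · exact absurd (h3 _ (hmul _ _ k1 k2)
        (by decide +kernel)) (by decide +kernel)
  · rcases hB4 with k1 | k1 | k1
    · rcases hB2 with k2 | k2 | k2
      · exact absurd (h3 _ (hmul _ _ k1 k2)
        (by decide +kernel)) (by decide +kernel)
      · exact absurd (h3 _ (hmul _ _ k0 k2)
        (by decide +kernel)) (by decide +kernel)
      · exact absurd (h3 _ (hmul _ _ k0 k2)
        (by decide +kernel)) (by decide +kernel)
    · exact absurd (h3 _ (hmul _ _ k0 k1)
        (by decide +kernel)) (by decide +kernel)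
    · rcases hB5 with k2 | k2 | k2
      · exact absurd (h3 _ (hmul _ _ k0 k2)
        (by decide +kernel)) (by decide +kernel)
      · exact absurd (h3 _ (hmul _ _ k0 k2)
        (by decide +kernel)) (by decide +kernel)
      · exact absurd (h3 _ (hmul _ _ k1 k2)
        (by decide +kernel)) (by decide +kernel)
  · rcases hB6 with k1 | k1 | k1
    · rcases hB7 with k2 | k2 | k2
      · exact absurd (h3 _ (hmul _ _ k1 k2)
        (by decide +kernel)) (by decide +kernel)
      · exact absurd (h3 _ (hmul _ _ (hmul _ _ (hmul _ _ k0 k1) k0) k2)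
        (by decide +kernel)) (by decide +kernel)
      · exact absurd (h3 _ (hmul _ _ k0 k2)
        (by decide +kernel)) (by decide +kernel)
    · rcases hB5 with k2 | k2 | k2
      · exact absurd (h3 _ (hmul _ _ k0 k2)
        (by decide +kernel)) (by decide +kernel)
      · exact absurd (h3 _ (hmul _ _ k1 k2)
        (by decide +kernel)) (by decide +kernel)
      · exact absurd (h3 _ (hmul _ _ k0 k2)
        (by decide +kernel)) (by decide +kernel)
    · exact absurd (h3 _ (hmul _ _ k0 k1)
        (by decide +kernel)) (by decide +kernel)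

variable {V : Type u} [AddCommGroup V]

def bs (b : Bool) (x : V) : V := if b then x else 0

def B3 (e₁ e₂ e₃ : V) (u : F3) : V := bs u.1 e₁ + (bs u.2.1 e₂ + bs u.2.2 e₃)

theorem bs_xor (h2 : ∀ x : V, x + x = 0) (a b : Bool) (x : V) :
    bs (xor a b) x = bs a x + bs b x := by
  cases a <;> cases b <;> simp [bs, h2]

theorem bs_and (a b : Bool) (x : V) : bs (a && b) x = bs a (bs b x) := by
  cases a <;> cases b <;> simp [bs]

theorem bs_add (a : Bool) (x y : V) : bs a (x + y) = bs a x + bs a y := by
  cases a <;> simp [bs]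

theorem bs_map (g : AddMonoid.End V) (a : Bool) (x : V) : g (bs a x) = bs a (g x) := by
  cases a <;> simp [bs]

theorem B3_fx (h2 : ∀ x : V, x + x = 0) (e₁ e₂ e₃ : V) (u w : F3) :
    B3 e₁ e₂ e₃ (fx u w) = B3 e₁ e₂ e₃ u + B3 e₁ e₂ e₃ w := by
  unfold B3 fx
  simp only [bs_xor h2]
  abel

theorem B3_bx (e₁ e₂ e₃ : V) (b : Bool) (u : F3) :
    B3 e₁ e₂ e₃ (bx b u) = bs b (B3 e₁ e₂ e₃ u) := by
  unfold B3 bx
  simp only [bs_and, bs_add]

theorem B3_mv (h2 : ∀ x : V, x + x = 0) (e₁ e₂ e₃ : V) (m : M3) (c : F3) :
    B3 e₁ e₂ e₃ (mv m c) = bs c.1 (B3 e₁ e₂ e₃ m.1) + (bs c.2.1 (B3 e₁ e₂ e₃ m.2.1) +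
      bs c.2.2 (B3 e₁ e₂ e₃ m.2.2)) := by
  unfold mv
  rw [B3_fx h2, B3_fx h2, B3_bx, B3_bx, B3_bx]

theorem act3 (h2 : ∀ x : V, x + x = 0) {e₁ e₂ e₃ : V} {g : AU V} {B B' m : M3}
    (hs : ∀ u, ∃ c, mv B c = u) (hm : ∀ c, mv m (mv B c) = mv B' c)
    (a1 : g.1 (B3 e₁ e₂ e₃ B.1) = B3 e₁ e₂ e₃ B'.1)
    (a2 : g.1 (B3 e₁ e₂ e₃ B.2.1) = B3 e₁ e₂ e₃ B'.2.1)
    (a3 : g.1 (B3 e₁ e₂ e₃ B.2.2) = B3 e₁ e₂ e₃ B'.2.2) (u : F3) :
    g.1 (B3 e₁ e₂ e₃ u) = B3 e₁ e₂ e₃ (mv m u) := by
  obtain ⟨c, rfl⟩ := hs u
  rw [hm, B3_mv h2, B3_mv h2, map_add, map_add, bs_map, bs_map, bs_map, a1, a2, a3]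

def chk (B m12 m13 m23 c1 c2 : M3) : Prop :=
  (∀ u, ∃ c, mv B c = u) ∧
  ((false, false, false) ≠ B.1 ∧ (false, false, false) ≠ B.2.1 ∧ (false, false, false) ≠ B.2.2) ∧
  (B.1 ≠ B.2.1 ∧ B.1 ≠ B.2.2 ∧ B.2.1 ≠ B.2.2) ∧
  (∀ c, mv m12 (mv B c) = mv (B.2.1, B.1, B.2.2) c) ∧
  (∀ c, mv m13 (mv B c) = mv (B.2.2, B.2.1, B.1) c) ∧
  (∀ c, mv m23 (mv B c) = mv (B.1, B.2.2, B.2.1) c) ∧
  (∀ c, mv c1 (mv B c) = mv (B.2.1, B.2.2, B.1) c) ∧
  (∀ c, mv c2 (mv B c) = mv (B.2.2, B.1, B.2.1) c) ∧
  (∀ u, mv c1 (mv c1 (mv c1 u)) = u) ∧
  (∀ u, mv c2 (mv c2 (mv c2 u)) = u)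

set_option synthInstance.maxHeartbeats 400000 in
set_option synthInstance.maxSize 4096 in
instance decChk (B m12 m13 m23 c1 c2 : M3) : Decidable (chk B m12 m13 m23 c1 c2) := by
  unfold chk
  infer_instance

/-- maps realised by elements of `H` -/
def NN (H : Subgroup (AU V)) (e₁ e₂ e₃ : V) (f : F3 → F3) : Prop :=
  ∃ g ∈ H, ∀ u, g.1 (B3 e₁ e₂ e₃ u) = B3 e₁ e₂ e₃ (f u)

theorem mv_one (u : F3) :
    mv ((true, false, false), (false, true, false), (false, false, true)) u = u := by
  revert u; decide

theorem opt3 (h2 : ∀ x : V, x + x = 0) {H : Subgroup (AU V)} {e₁ e₂ e₃ : V}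
    (hcube : ∀ g ∈ H, (∀ u, g.1 (g.1 (g.1 (B3 e₁ e₂ e₃ u))) = B3 e₁ e₂ e₃ u) → g = 1)
    (hinj : Function.Injective (B3 e₁ e₂ e₃))
    (hbad : ∀ Δ : Set V, 0 ∉ Δ → ∃ g ∈ H, g ≠ 1 ∧ ∀ x ∈ Δ, g.1 x ∈ Δ)
    {B m12 m13 m23 c1 c2 : M3} (hc : chk B m12 m13 m23 c1 c2) :
    NN H e₁ e₂ e₃ (mv m12) ∨ NN H e₁ e₂ e₃ (mv m13) ∨ NN H e₁ e₂ e₃ (mv m23) := by
  obtain ⟨hs, ⟨z1, z2, z3⟩, ⟨n12, n13, n23⟩, h12, h13, h23, k1, k2, q1, q2⟩ := hc
  have h0 : B3 e₁ e₂ e₃ (false, false, false) = 0 := by simp [B3, bs]
  obtain ⟨g, hg, hg1, hΔ⟩ := hbad {B3 e₁ e₂ e₃ B.1, B3 e₁ e₂ e₃ B.2.1, B3 e₁ e₂ e₃ B.2.2} (by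
    simp only [Set.mem_insert_iff, Set.mem_singleton_iff, not_or]
    rw [← h0]
    exact ⟨fun h => z1 (hinj h), fun h => z2 (hinj h), fun h => z3 (hinj h)⟩)
  have a1 := hΔ (B3 e₁ e₂ e₃ B.1) (by simp)
  have a2 := hΔ (B3 e₁ e₂ e₃ B.2.1) (by simp)
  have a3 := hΔ (B3 e₁ e₂ e₃ B.2.2) (by simp)
  simp only [Set.mem_insert_iff, Set.mem_singleton_iff] at a1 a2 a3
  have inj : ∀ {u w x : F3}, g.1 (B3 e₁ e₂ e₃ u) = B3 e₁ e₂ e₃ x →
      g.1 (B3 e₁ e₂ e₃ w) = B3 e₁ e₂ e₃ x → u = w := fun hu hw =>
    hinj (au_injective g (hu.trans hw.symm))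
  rcases a1 with a1 | a1 | a1
  · rcases a2 with a2 | a2 | a2
    · exact absurd (inj a1 a2) n12
    · rcases a3 with a3 | a3 | a3
      · exact absurd (inj a1 a3) n13
      · exact absurd (inj a2 a3) n23
      · exfalso
        apply hg1
        apply hcube g hg
        intro u
        have h := act3 h2 (B := B) (B' := B)
          (m := ((true, false, false), (false, true, false), (false, false, true))) hs
          (fun c => mv_one _) a1 a2 a3
        simp only [mv_one] at h
        rw [h, h, h]
    · rcases a3 with a3 | a3 | a3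
      · exact absurd (inj a1 a3) n13
      · exact Or.inr (Or.inr ⟨g, hg, act3 h2 (B' := (B.1, B.2.2, B.2.1)) hs h23 a1 a2 a3⟩)
      · exact absurd (inj a2 a3) n23
  · rcases a2 with a2 | a2 | a2
    · rcases a3 with a3 | a3 | a3
      · exact absurd (inj a2 a3) n23
      · exact absurd (inj a1 a3) n13
      · exact Or.inl ⟨g, hg, act3 h2 (B' := (B.2.1, B.1, B.2.2)) hs h12 a1 a2 a3⟩
    · exact absurd (inj a1 a2) n12
    · rcases a3 with a3 | a3 | a3
      · exfalso
        apply hg1
        apply hcube g hg
        intro u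
        have h := act3 h2 (B' := (B.2.1, B.2.2, B.1)) hs k1 a1 a2 a3
        rw [h, h, h, q1]
      · exact absurd (inj a1 a3) n13
      · exact absurd (inj a2 a3) n23
  · rcases a2 with a2 | a2 | a2
    · rcases a3 with a3 | a3 | a3
      · exact absurd (inj a2 a3) n23
      · exfalso
        apply hg1
        apply hcube g hg
        intro u
        have h := act3 h2 (B' := (B.2.2, B.1, B.2.1)) hs k2 a1 a2 a3
        rw [h, h, h, q2]
      · exact absurd (inj a1 a3) n13
    · rcases a3 with a3 | a3 | a3
      · exact Or.inr (Or.inl ⟨g, hg, act3 h2 (B' := (B.2.2, B.2.1, B.1)) hs h13 a1 a2 a3⟩)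
      · exact absurd (inj a2 a3) n23
      · exact absurd (inj a1 a3) n13
    · exact absurd (inj a1 a2) n12


/-- three vectors -/
theorem delta2_three (h2 : ∀ x : V, x + x = 0) {H : Subgroup (AU V)} {e₁ e₂ e₃ : V}
    (hcube : ∀ g ∈ H, g ^ 3 = 1 → g = 1)
    (he : ∀ g ∈ H, g.1 e₁ = e₁ → g.1 e₂ = e₂ → g.1 e₃ = e₃ → g = 1)
    (h1 : e₁ ≠ 0) (he2 : e₂ ∉ AddSubgroup.closure {e₁})
    (he3 : e₃ ∉ AddSubgroup.closure {e₁, e₂}) :
    ∃ Δ : Set V, 0 ∉ Δ ∧ ∀ g ∈ H, (∀ x ∈ Δ, g.1 x ∈ Δ) → g = 1 := by
  by_contra hcon
  push Not at hcon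
  have hbad : ∀ Δ : Set V, 0 ∉ Δ → ∃ g ∈ H, g ≠ 1 ∧ ∀ x ∈ Δ, g.1 x ∈ Δ := by
    intro Δ h0
    obtain ⟨g, hg, h3, h4⟩ := hcon Δ h0
    exact ⟨g, hg, h4, h3⟩
  have q1 : B3 e₁ e₂ e₃ (true, false, false) = e₁ := by simp [B3, bs]
  have q2 : B3 e₁ e₂ e₃ (false, true, false) = e₂ := by simp [B3, bs]
  have q3 : B3 e₁ e₂ e₃ (false, false, true) = e₃ := by simp [B3, bs]
  have h0 : B3 e₁ e₂ e₃ (false, false, false) = 0 := by simp [B3, bs]
  have hinj : Function.Injective (B3 e₁ e₂ e₃) := by
    have m1 : e₁ ∈ AddSubgroup.closure {e₁, e₂} := AddSubgroup.subset_closure (by simp)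
    have m2 : e₂ ∈ AddSubgroup.closure {e₁, e₂} := AddSubgroup.subset_closure (by simp)
    have m3 : e₁ ∈ AddSubgroup.closure {e₁} := AddSubgroup.subset_closure (Set.mem_singleton e₁)
    have key : ∀ u : F3, B3 e₁ e₂ e₃ u = 0 → u = (false, false, false) := by
      rintro ⟨a, b, c⟩ h
      unfold B3 at h
      have hc : c = false := by
        cases c
        · rfl
        · exfalso
          apply he3
          have h5 : e₃ = bs a e₁ + bs b e₂ := by
            have : bs a e₁ + (bs b e₂ + e₃) = 0 := h
            rw [← add_assoc] at this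
            have h6 := h2 e₃
            rw [← this] at h6
            exact add_right_cancel h6
          rw [h5]
          refine AddSubgroup.add_mem _ ?_ ?_
          · cases a
            · exact AddSubgroup.zero_mem _
            · exact m1
          · cases b
            · exact AddSubgroup.zero_mem _
            · exact m2
      subst hc
      have hb : b = false := by
        cases b
        · rfl
        · exfalso
          apply he2
          have h5 : e₂ = bs a e₁ := by
            have : bs a e₁ + (e₂ + 0) = 0 := h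
            rw [add_zero] at this
            have h6 := h2 e₂
            rw [← this] at h6
            exact add_right_cancel h6
          rw [h5]
          cases a
          · exact AddSubgroup.zero_mem _
          · exact m3
      subst hb
      cases a
      · rfl
      · exfalso
        apply h1
        have : e₁ + (0 + 0) = 0 := h
        rwa [add_zero, add_zero] at this
    intro u w h
    have h5 : B3 e₁ e₂ e₃ (fx u w) = 0 := by rw [B3_fx h2, h, h2]
    have h6 := key _ h5
    have h7 : ∀ u w : F3, fx u w = (false, false, false) → u = w := by decide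
    exact h7 u w h6
  have hall : ∀ g ∈ H, (∀ u, g.1 (B3 e₁ e₂ e₃ u) = B3 e₁ e₂ e₃ u) → g = 1 := by
    intro g hg h
    refine he g hg ?_ ?_ ?_
    · have := h (true, false, false); rwa [q1] at this
    · have := h (false, true, false); rwa [q2] at this
    · have := h (false, false, true); rwa [q3] at this
  have hcube' : ∀ g ∈ H, (∀ u, g.1 (g.1 (g.1 (B3 e₁ e₂ e₃ u))) = B3 e₁ e₂ e₃ u) → g = 1 := by
    intro g hg h
    apply hcube g hg
    apply hall _ (H.pow_mem hg 3)
    intro u
    have : (g ^ 3).1 (B3 e₁ e₂ e₃ u) = g.1 (g.1 (g.1 (B3 e₁ e₂ e₃ u))) := by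
      rw [pow_succ, pow_two]; rfl
    rw [this, h]
  refine comb3 (NN H e₁ e₂ e₃) ?_ ?_
    (opt3 h2 hcube' hinj hbad (B := ((true, false, false), (false, true, false), (false, false, true)))
      (m12 := ((false, true, false), (true, false, false), (false, false, true)))
      (m13 := ((false, false, true), (false, true, false), (true, false, false)))
      (m23 := ((true, false, false), (false, false, true), (false, true, false)))
      (c1 := ((false, true, false), (false, false, true), (true, false, false)))
      (c2 := ((false, false, true), (true, false, false), (false, true, false))) (by decide +kernel))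
    (opt3 h2 hcube' hinj hbad (B := ((true, false, false), (true, true, false), (false, false, true)))
      (m12 := ((true, true, false), (false, true, false), (false, false, true)))
      (m13 := ((false, false, true), (true, true, true), (true, false, false)))
      (m23 := ((true, false, false), (true, false, true), (true, true, false)))
      (c1 := ((true, true, false), (true, true, true), (true, false, false)))
      (c2 := ((false, false, true), (true, false, true), (true, true, false))) (by decide +kernel))
    (opt3 h2 hcube' hinj hbad (B := ((true, false, false), (true, true, false), (true, false, true)))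
      (m12 := ((true, true, false), (false, true, false), (false, true, true)))
      (m13 := ((true, false, true), (false, true, true), (false, false, true)))
      (m23 := ((true, false, false), (false, false, true), (false, true, false)))
      (c1 := ((true, true, false), (false, true, true), (false, true, false)))
      (c2 := ((true, false, true), (false, false, true), (false, true, true))) (by decide +kernel))
    (opt3 h2 hcube' hinj hbad (B := ((true, false, false), (true, true, false), (true, true, true)))
      (m12 := ((true, true, false), (false, true, false), (false, true, true)))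
      (m13 := ((true, true, true), (false, false, true), (false, true, false)))
      (m23 := ((true, false, false), (false, true, true), (false, false, true)))
      (c1 := ((true, true, false), (false, false, true), (false, true, true)))
      (c2 := ((true, true, true), (false, true, true), (false, true, false))) (by decide +kernel))
    (opt3 h2 hcube' hinj hbad (B := ((true, false, false), (false, true, false), (true, false, true)))
      (m12 := ((false, true, false), (true, false, false), (true, true, true)))
      (m13 := ((true, false, true), (false, true, false), (false, false, true)))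
      (m23 := ((true, false, false), (true, false, true), (true, true, false)))
      (c1 := ((false, true, false), (true, false, true), (true, true, false)))
      (c2 := ((true, false, true), (true, false, false), (true, true, true))) (by decide +kernel))
    (opt3 h2 hcube' hinj hbad (B := ((true, false, false), (false, true, false), (true, true, true)))
      (m12 := ((false, true, false), (true, false, false), (false, false, true)))
      (m13 := ((true, true, true), (false, true, false), (false, false, true)))
      (m23 := ((true, false, false), (true, true, true), (false, false, true)))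
      (c1 := ((false, true, false), (true, true, true), (false, false, true)))
      (c2 := ((true, true, true), (true, false, false), (false, false, true))) (by decide +kernel))
    (opt3 h2 hcube' hinj hbad (B := ((true, false, false), (false, true, false), (false, true, true)))
      (m12 := ((false, true, false), (true, false, false), (true, true, true)))
      (m13 := ((false, true, true), (false, true, false), (true, true, false)))
      (m23 := ((true, false, false), (false, true, true), (false, false, true)))
      (c1 := ((false, true, false), (false, true, true), (true, true, true)))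
      (c2 := ((false, true, true), (true, false, false), (true, true, false))) (by decide +kernel))
    (opt3 h2 hcube' hinj hbad (B := ((true, false, false), (true, true, false), (false, true, true)))
      (m12 := ((true, true, false), (false, true, false), (false, false, true)))
      (m13 := ((false, true, true), (true, false, true), (false, false, true)))
      (m23 := ((true, false, false), (true, true, true), (false, false, true)))
      (c1 := ((true, true, false), (true, false, true), (false, false, true)))
      (c2 := ((false, true, true), (true, true, true), (false, false, true))) (by decide +kernel))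
  · rintro f f' ⟨g, hg, hf⟩ ⟨g', hg', hf'⟩
    refine ⟨g * g', H.mul_mem hg hg', fun u => ?_⟩
    rw [au_mul_apply, hf', hf]
    rfl
  · rintro f ⟨g, hg, hf⟩ h3 u
    have : g = 1 := hcube' g hg (fun u => by rw [hf, hf, hf, h3])
    have h5 := hf u
    rw [this] at h5
    exact (hinj h5).symm

/-- **rigid sets, characteristic two** -/
theorem delta2 (h2 : ∀ x : V, x + x = 0) (H : Subgroup (AU V))
    (hcube : ∀ g ∈ H, g ^ 3 = 1 → g = 1) (hb : HasBase (Fin 3) H) :
    ∃ Δ : Set V, 0 ∉ Δ ∧ ∀ g ∈ H, (∀ x ∈ Δ, g.1 x ∈ Δ) → g = 1 := by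
  classical
  obtain ⟨v, hv⟩ := hb
  have inj : ∀ (g : AU V) {x y : V}, g.1 x = g.1 y → x = y := fun g {x y} h => au_injective g h
  by_cases hb0 : ∀ g ∈ H, g = 1
  · exact ⟨∅, fun h => h, fun g hg _ => hb0 g hg⟩
  by_cases hb1 : ∃ e₁ : V, ∀ g ∈ H, g.1 e₁ = e₁ → g = 1
  · obtain ⟨e₁, he₁⟩ := hb1
    have h0 : e₁ ≠ 0 := by
      rintro rfl
      exact hb0 fun g hg => he₁ g hg (map_zero _)
    exact ⟨{e₁}, fun h => h0 (Set.mem_singleton_iff.mp h).symm,
      fun g hg h => he₁ g hg (Set.mem_singleton_iff.mp (h e₁ (Set.mem_singleton e₁)))⟩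
  by_cases hb2 : ∃ e₁ e₂ : V, ∀ g ∈ H, g.1 e₁ = e₁ → g.1 e₂ = e₂ → g = 1
  · obtain ⟨e₁, e₂, he⟩ := hb2
    have h1 : e₁ ≠ 0 := by
      rintro rfl
      exact hb1 ⟨e₂, fun g hg h => he g hg (map_zero _) h⟩
    have h20 : e₂ ≠ 0 := by
      rintro rfl
      exact hb1 ⟨e₁, fun g hg h => he g hg h (map_zero _)⟩
    have n1 : e₁ ≠ e₂ := by
      rintro rfl
      exact hb1 ⟨e₁, fun g hg h => he g hg h h⟩
    have h12 : e₁ + e₂ ≠ 0 := by
      intro h
      apply n1
      have := h2 e₂
      rw [← h] at this
      exact (add_right_cancel this).symm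
    -- the set `{x, y}`
    have pair : ∀ x y : V, x ≠ 0 → y ≠ 0 → x ≠ y →
        (∀ g ∈ H, g.1 x = x → g.1 y = y → g = 1) →
        (¬ ∃ Δ : Set V, 0 ∉ Δ ∧ ∀ g ∈ H, (∀ x ∈ Δ, g.1 x ∈ Δ) → g = 1) →
        ∃ g ∈ H, g.1 x = y ∧ g.1 y = x := by
      intro x y hx hy hxy hfix hno
      by_contra hcon
      push Not at hcon
      apply hno
      refine ⟨{x, y}, ?_, fun g hg h => ?_⟩
      · simp only [Set.mem_insert_iff, Set.mem_singleton_iff, not_or]
        exact ⟨hx.symm, hy.symm⟩
      · have a1 := h x (by simp)
        have a2 := h y (by simp)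
        simp only [Set.mem_insert_iff, Set.mem_singleton_iff] at a1 a2
        rcases a1 with a1 | a1
        · rcases a2 with a2 | a2
          · exact absurd (inj g (a1.trans a2.symm)) hxy
          · exact hfix g hg a1 a2
        · rcases a2 with a2 | a2
          · exact absurd a2 (hcon g hg a1)
          · exact absurd (inj g (a1.trans a2.symm)) hxy
    by_contra hno
    obtain ⟨g, hg, g1, g2⟩ := pair e₁ e₂ h1 h20 n1 he hno
    obtain ⟨k, hk, k1, k2⟩ := pair (e₁ + e₂) e₂ h12 h20 (fun h => h1 (add_eq_right.mp h)) (by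
      intro g hg a b
      rw [map_add, b] at a
      exact he g hg (add_right_cancel a) b) hno
    have k3 : k.1 e₁ = e₁ := by
      rw [map_add, k2] at k1
      have : k.1 e₁ = k.1 e₁ + (e₁ + e₂) + (e₁ + e₂) := by
        rw [add_assoc, h2, add_zero]
      rw [this, k1, add_comm e₁ e₂, ← add_assoc, h2, zero_add]
    have s1 : (g * k).1 e₁ = e₂ := by rw [au_mul_apply, k3, g1]
    have s2 : (g * k).1 e₂ = e₁ + e₂ := by rw [au_mul_apply, k2, map_add, g1, g2, add_comm]
    have s3 : (g * k).1 (e₁ + e₂) = e₁ := by rw [au_mul_apply, k1, g2]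
    have hs : g * k = 1 := by
      apply hcube _ (H.mul_mem hg hk)
      have h3 : ∀ x : V, ((g * k) ^ 3).1 x = (g * k).1 ((g * k).1 ((g * k).1 x)) := by
        intro x
        rw [pow_succ, pow_two]; rfl
      apply he _ (H.pow_mem (H.mul_mem hg hk) 3)
      · rw [h3, s1, s2, s3]
      · rw [h3, s2, s3, s1]
    rw [hs] at s1
    exact n1 s1
  · -- three vectors
    obtain ⟨e₁, he₁⟩ : ∃ e, e = v 0 := ⟨_, rfl⟩
    obtain ⟨e₂, he₂⟩ : ∃ e, e = v 1 := ⟨_, rfl⟩
    obtain ⟨e₃, he₃⟩ : ∃ e, e = v 2 := ⟨_, rfl⟩
    have he : ∀ g ∈ H, g.1 e₁ = e₁ → g.1 e₂ = e₂ → g.1 e₃ = e₃ → g = 1 := by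
      intro g hg a1 a2 a3
      apply hv g hg
      intro i
      fin_cases i
      · rw [he₁] at a1; exact a1
      · rw [he₂] at a2; exact a2
      · rw [he₃] at a3; exact a3
    have h1 : e₁ ≠ 0 := by
      intro h0
      exact hb2 ⟨e₂, e₃, fun g hg a b => he g hg (by rw [h0]; exact map_zero _) a b⟩
    have h2' : e₂ ∉ AddSubgroup.closure {e₁} := by
      intro h
      refine hb2 ⟨e₁, e₃, fun g hg a b => he g hg a (fix_closure (s := {e₁}) ?_ h) b⟩
      rintro x rfl; exact a
    have h3 : e₃ ∉ AddSubgroup.closure {e₁, e₂} := by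
      intro h
      refine hb2 ⟨e₁, e₂, fun g hg a b => he g hg a b (fix_closure (s := {e₁, e₂}) ?_ h)⟩
      rintro x (rfl | rfl)
      · exact a
      · exact b
    exact delta2_three h2 hcube he h1 h2' h3

end Cfsg.Agent.H578.Del2
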