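import Cfsg.Agent.H578.NineB

/-!
# The field with five elements (helper578)
-/

set_option autoImplicit false
set_option linter.unusedSectionVars false

universe u

namespace Cfsg.Agent.H578

/-- quadruples -/
abbrev Q4 := ℕ × ℕ × ℕ × ℕ

def q4z1 : Q4 → Q4 := fun x => (x.1, 4 * x.2.1, x.2.2.1, 4 * x.2.2.2)
def q4z2 : Q4 → Q4 := fun x => (x.1, x.2.1, 4 * x.2.2.1, 4 * x.2.2.2)
def q4f1 : Q4 → Q4 := fun x => (x.2.1, x.1, x.2.2.2, x.2.2.1)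
def q4f2 : Q4 → Q4 := fun x => (x.2.2.1, x.2.2.2, x.1, x.2.1)
def q4s (n : ℕ) : Q4 → Q4 := fun x => (n * x.1, n * x.2.1, n * x.2.2.1, n * x.2.2.2)
def q4a (x y : Q4) : Q4 := (x.1 + y.1, x.2.1 + y.2.1, x.2.2.1 + y.2.2.1, x.2.2.2 + y.2.2.2)
def q4T (k : ℕ) (α β γ δ : Bool) (x : Q4) : Q4 :=
  q4s k (cond δ q4f2 id (cond γ q4f1 id (cond α q4z1 id (cond β q4z2 id x))))
def q4e (x y : Q4) : Bool := (x.1 % 5 == y.1 % 5) && (x.2.1 % 5 == y.2.1 % 5) &&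
  (x.2.2.1 % 5 == y.2.2.1 % 5) && (x.2.2.2 % 5 == y.2.2.2 % 5)
def q4v : Q4 := (1, 1, 0, 1)
def q4w : Q4 := q4a (q4f1 q4v) (q4s 2 (q4f2 q4v))
def q4b : Fin 4 → Q4 := ![q4v, (1, 0, 0, 0), (1, 1, 1, 1), (1, 1, 0, 0)]

def chk (k₁ : ℕ) (α₁ β₁ γ₁ δ₁ : Bool) (k₂ : ℕ) (α₂ β₂ γ₂ δ₂ : Bool) : Bool :=
  q4e (q4a (q4T k₁ α₁ β₁ γ₁ δ₁ q4v) (q4s 2 (q4T k₂ α₂ β₂ γ₂ δ₂ q4v))) q4w &&
  q4e (q4T k₁ α₁ β₁ γ₁ δ₁ (q4T k₁ α₁ β₁ γ₁ δ₁ q4v)) q4v &&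
  q4e (q4T k₂ α₂ β₂ γ₂ δ₂ (q4T k₂ α₂ β₂ γ₂ δ₂ q4v)) q4v &&
  q4e (q4T k₁ α₁ β₁ γ₁ δ₁ (q4T k₂ α₂ β₂ γ₂ δ₂ q4v)) (q4T k₂ α₂ β₂ γ₂ δ₂ (q4T k₁ α₁ β₁ γ₁ δ₁ q4v))

def tgt (k₁ : ℕ) (α₁ β₁ γ₁ δ₁ : Bool) (k₂ : ℕ) (α₂ β₂ γ₂ δ₂ : Bool) : Bool :=
  (k₁ == 1) && !α₁ && !β₁ && γ₁ && !δ₁ && (k₂ == 1) && !α₂ && !β₂ && !γ₂ && δ₂

theorem chk_all : ∀ (k₁ : Fin 5) (α₁ β₁ γ₁ δ₁ : Bool) (k₂ : Fin 5) (α₂ β₂ γ₂ δ₂ : Bool),
    chk k₁ α₁ β₁ γ₁ δ₁ k₂ α₂ β₂ γ₂ δ₂ = true → tgt k₁ α₁ β₁ γ₁ δ₁ k₂ α₂ β₂ γ₂ δ₂ = true := by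
  decide +kernel

theorem chk_orb : ∀ (k : Fin 5) (α β γ δ : Bool) (c d : Fin 4),
    q4e (q4T k α β γ δ (q4b c)) (q4b d) = true → c = d := by
  decide +kernel

theorem chk_S : ∀ (k : Fin 5) (α β γ δ : Bool) (m n : Fin 5),
    q4e (q4T k α β γ δ (q4b 1)) (q4s m (q4b 1)) = true →
    q4e (q4T k α β γ δ (q4b 2)) (q4s n (q4b 2)) = true → k ≠ 0 →
    q4e (q4T k α β γ δ q4v) (q4s k q4v) = true := by
  decide +kernel

theorem chk_ne : ∀ c : Fin 4, q4e (q4b c) (0, 0, 0, 0) = false := by decide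

variable {V : Type u} [AddCommGroup V]

namespace Dat

variable {G : Subgroup (AU V)} {D : Dat G}

/-- components with respect to an involution -/
theorem comp2' (D : Dat G) [Nontrivial V] (two : (1 : AU V) ≠ -1) {z : AU V} {A B A' B' : V}
    (h1 : z.1 A = A) (h2 : z.1 B = -B) (h3 : z.1 A' = A')
    (h4 : z.1 B' = -B') (h5 : A + B = A' + B') : A = A' ∧ B = B' := by
  have h6 : A - B = A' - B' := by
    have := congrArg z.1 h5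
    rw [map_add, map_add, h1, h2, h3, h4, ← sub_eq_add_neg, ← sub_eq_add_neg] at this
    exact this
  have h7 : A = A' := by
    apply sub_eq_zero.mp
    apply D.two_tors two
    have e1 : A - A' = B' - B := by
      rw [sub_eq_sub_iff_add_eq_add, h5, add_comm]
    have e2 : A - A' = B - B' := by
      rw [sub_eq_sub_iff_add_eq_add, add_comm B A', ← sub_eq_sub_iff_add_eq_add]
      exact h6
    calc A - A' = B' - B := e1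
      _ = -(B - B') := by abel
      _ = -(A - A') := by rw [e2]
  refine ⟨h7, ?_⟩
  rw [h7] at h5
  exact add_left_cancel h5

/-- the setup for two planes over the field with five elements -/
structure FS (D : Dat G) [Nontrivial V] (v₀ : V) (z₁ f₁ z₂ f₂ : AU V) : Prop where
  mx : D.IsMax v₀
  QB : D.Q v₀ ≤ D.B v₀
  hz₁ : z₁ ∈ D.E
  hf₁ : f₁ ∈ D.E
  hz₂ : z₂ ∈ D.E
  hf₂ : f₂ ∈ D.E
  zv₁ : z₁.1 v₀ = v₀
  zv₂ : z₂.1 v₀ = v₀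
  zz₁ : z₁ * z₁ = 1
  zz₂ : z₂ * z₂ = 1
  ff₁ : f₁ * f₁ = 1
  ff₂ : f₂ * f₂ = 1
  a11 : z₁ * f₁ = -(f₁ * z₁)
  a22 : z₂ * f₂ = -(f₂ * z₂)
  c12 : z₁ * f₂ = f₂ * z₁
  c21 : z₂ * f₁ = f₁ * z₂
  cf : f₁ * f₂ = f₂ * f₁
  two : (1 : AU V) ≠ -1
  E2 : ∀ x ∈ D.E, (x ^ 2).1 ∈ D.K
  five : ∀ x : V, (5 : ℕ) • x = 0
  int : ∀ a ∈ D.K, ∃ n : Fin 5, ∀ x : V, a x = (n : ℕ) • x

variable [Nontrivial V] [Finite V]

namespace FS

variable {v₀ : V} {z₁ f₁ z₂ f₂ : AU V} (h : D.FS v₀ z₁ f₁ z₂ f₂)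
include h

theorem neg4 (x : V) : (4 : ℕ) • x = -x := by
  have := h.five x
  rw [show 5 = 4 + 1 from rfl, succ_nsmul] at this
  exact eq_neg_of_add_eq_zero_left this

theorem a1 : z₁.1 (f₁.1 v₀) = -(f₁.1 v₀) := by
  rw [← au_mul_apply, h.a11, au_neg_apply, au_mul_apply, h.zv₁]

theorem a2 : z₁.1 (f₂.1 v₀) = f₂.1 v₀ := by
  rw [← au_mul_apply, h.c12, au_mul_apply, h.zv₁]

theorem a3 : z₁.1 (f₁.1 (f₂.1 v₀)) = -(f₁.1 (f₂.1 v₀)) := by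
  rw [← au_mul_apply z₁, h.a11, au_neg_apply, au_mul_apply, h.a2]

theorem b1 : z₂.1 (f₁.1 v₀) = f₁.1 v₀ := by
  rw [← au_mul_apply, h.c21, au_mul_apply, h.zv₂]

theorem b2 : z₂.1 (f₂.1 v₀) = -(f₂.1 v₀) := by
  rw [← au_mul_apply, h.a22, au_neg_apply, au_mul_apply, h.zv₂]

theorem b3 : z₂.1 (f₁.1 (f₂.1 v₀)) = -(f₁.1 (f₂.1 v₀)) := by
  rw [← au_mul_apply z₂, h.c21, au_mul_apply, h.b2, map_neg]

theorem f11 (x : V) : f₁.1 (f₁.1 x) = x := by rw [← au_mul_apply, h.ff₁]; rfl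

theorem f22 (x : V) : f₂.1 (f₂.1 x) = x := by rw [← au_mul_apply, h.ff₂]; rfl

theorem f21 (x : V) : f₂.1 (f₁.1 x) = f₁.1 (f₂.1 x) := by
  rw [← au_mul_apply, ← h.cf, au_mul_apply]

theorem nz {x : AU V} {u : V} (hu : u ≠ 0) : x.1 u ≠ 0 := fun h0 =>
  hu (au_injective x (by rw [h0, map_zero]))

/-- the vectors with given coordinates -/
def PP (v₀ : V) (f₁ f₂ : AU V) (x : Q4) : V :=
  x.1 • v₀ + x.2.1 • f₁.1 v₀ + x.2.2.1 • f₂.1 v₀ + x.2.2.2 • f₁.1 (f₂.1 v₀)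

omit h in
theorem PP_add (x y : Q4) : PP v₀ f₁ f₂ (q4a x y) = PP v₀ f₁ f₂ x + PP v₀ f₁ f₂ y := by
  unfold PP q4a
  simp only [add_nsmul]
  abel

omit h in
theorem PP_s (n : ℕ) (x : Q4) : PP v₀ f₁ f₂ (q4s n x) = n • PP v₀ f₁ f₂ x := by
  unfold PP q4s
  simp only [mul_nsmul', nsmul_add]

theorem PP_z1 (x : Q4) : z₁.1 (PP v₀ f₁ f₂ x) = PP v₀ f₁ f₂ (q4z1 x) := by
  unfold PP q4z1
  simp only [map_add, map_nsmul, h.zv₁, h.a1, h.a2, h.a3, mul_comm 4, mul_nsmul', h.neg4]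

theorem PP_z2 (x : Q4) : z₂.1 (PP v₀ f₁ f₂ x) = PP v₀ f₁ f₂ (q4z2 x) := by
  unfold PP q4z2
  simp only [map_add, map_nsmul, h.zv₂, h.b1, h.b2, h.b3, mul_comm 4, mul_nsmul', h.neg4]

theorem PP_f1 (x : Q4) : f₁.1 (PP v₀ f₁ f₂ x) = PP v₀ f₁ f₂ (q4f1 x) := by
  unfold PP q4f1
  simp only [map_add, map_nsmul, h.f11]
  abel

theorem PP_f2 (x : Q4) : f₂.1 (PP v₀ f₁ f₂ x) = PP v₀ f₁ f₂ (q4f2 x) := by
  unfold PP q4f2
  simp only [map_add, map_nsmul, h.f22, h.f21]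
  abel

/-- independence -/
theorem comp4 {A B C E A' B' C' E' : V}
    (hA1 : z₁.1 A = A) (hA2 : z₂.1 A = A) (hB1 : z₁.1 B = -B) (hB2 : z₂.1 B = B)
    (hC1 : z₁.1 C = C) (hC2 : z₂.1 C = -C) (hE1 : z₁.1 E = -E) (hE2 : z₂.1 E = -E)
    (hA1' : z₁.1 A' = A') (hA2' : z₂.1 A' = A') (hB1' : z₁.1 B' = -B') (hB2' : z₂.1 B' = B')
    (hC1' : z₁.1 C' = C') (hC2' : z₂.1 C' = -C') (hE1' : z₁.1 E' = -E') (hE2' : z₂.1 E' = -E')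
    (e : A + B + C + E = A' + B' + C' + E') : A = A' ∧ B = B' ∧ C = C' ∧ E = E' := by
  obtain ⟨e1, e2⟩ := comp2' D h.two (z := z₁) (A := A + C) (B := B + E) (A' := A' + C')
    (B' := B' + E') (by rw [map_add, hA1, hC1]) (by rw [map_add, hB1, hE1, neg_add])
    (by rw [map_add, hA1', hC1']) (by rw [map_add, hB1', hE1', neg_add])
    (by
      calc A + C + (B + E) = A + B + C + E := by abel
        _ = A' + B' + C' + E' := e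
        _ = _ := by abel)
  obtain ⟨e3, e4⟩ := comp2' D h.two (z := z₂) hA2 hC2 hA2' hC2' e1
  obtain ⟨e5, e6⟩ := comp2' D h.two (z := z₂) hB2 hE2 hB2' hE2' e2
  exact ⟨e3, e5, e4, e6⟩

theorem order5 {x : V} (hx : x ≠ 0) : addOrderOf x = 5 := by
  have : Fact (Nat.Prime 5) := ⟨by norm_num⟩
  exact addOrderOf_eq_prime (h.five x) hx

theorem smul_eq {x : V} (hx : x ≠ 0) {m n : ℕ} (e : m • x = n • x) : m % 5 = n % 5 := by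
  have := nsmul_eq_nsmul_iff_modEq.mp e
  rw [h.order5 hx] at this
  exact this

theorem PP_inj {x y : Q4} (e : PP v₀ f₁ f₂ x = PP v₀ f₁ f₂ y) : q4e x y = true := by
  unfold PP at e
  obtain ⟨e1, e2, e3, e4⟩ := h.comp4
    (by rw [map_nsmul, h.zv₁]) (by rw [map_nsmul, h.zv₂])
    (by rw [map_nsmul, h.a1, smul_neg]) (by rw [map_nsmul, h.b1])
    (by rw [map_nsmul, h.a2]) (by rw [map_nsmul, h.b2, smul_neg])
    (by rw [map_nsmul, h.a3, smul_neg]) (by rw [map_nsmul, h.b3, smul_neg])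
    (by rw [map_nsmul, h.zv₁]) (by rw [map_nsmul, h.zv₂])
    (by rw [map_nsmul, h.a1, smul_neg]) (by rw [map_nsmul, h.b1])
    (by rw [map_nsmul, h.a2]) (by rw [map_nsmul, h.b2, smul_neg])
    (by rw [map_nsmul, h.a3, smul_neg]) (by rw [map_nsmul, h.b3, smul_neg]) e
  have g1 := h.smul_eq h.mx.ne e1
  have g2 := h.smul_eq (h.nz h.mx.ne) e2
  have g3 := h.smul_eq (h.nz h.mx.ne) e3
  have g4 := h.smul_eq (h.nz (h.nz h.mx.ne)) e4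
  unfold q4e
  rw [g1, g2, g3, g4]
  simp

theorem cm_fix {a b : AU V} (ha : a ∈ D.E) (hb : b ∈ D.E) (hav : a.1 v₀ = v₀)
    (hbv : b.1 v₀ = v₀) : a * b = b * a := by
  apply cm_eq_one.mp
  apply eq_one_of_fix h.mx.ne (cm_K ha hb)
  have h1 : (b⁻¹).1 v₀ = v₀ := by apply au_injective b; rw [au_apply_inv, hbv]
  have h2 : (a⁻¹).1 v₀ = v₀ := by apply au_injective a; rw [au_apply_inv, hav]
  unfold cm
  rw [au_mul_apply, au_mul_apply, au_mul_apply, h1, h2, hbv, hav]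

theorem PPv : PP v₀ f₁ f₂ q4v = v₀ + f₁.1 v₀ + 0 + f₁.1 (f₂.1 v₀) := by
  unfold PP q4v
  simp

/-- the stabiliser of the vector -/
theorem stab_v {x : AU V} (hx : x ∈ D.E) (hxv : x.1 (PP v₀ f₁ f₂ q4v) = PP v₀ f₁ f₂ q4v) :
    x.1 v₀ = v₀ ∧ x * f₁ = f₁ * x ∧ x * f₂ = f₂ * x := by
  rw [h.PPv, map_add, map_add, map_add, map_zero] at hxv
  have hx0 : ∀ {y : V}, y ≠ 0 → x.1 y ≠ 0 := fun {y} hy => h.nz hy
  have pos : ∀ {z : AU V} {y : V}, x * z = z * x → z.1 y = y → z.1 (x.1 y) = x.1 y := by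
    intro z y h1 h2
    rw [← au_mul_apply, ← h1, au_mul_apply, h2]
  have pos' : ∀ {z : AU V} {y : V}, x * z = z * x → z.1 y = -y → z.1 (x.1 y) = -(x.1 y) := by
    intro z y h1 h2
    rw [← au_mul_apply, ← h1, au_mul_apply, h2, map_neg]
  have neg : ∀ {z : AU V} {y : V}, x * z = -(z * x) → z.1 y = y → z.1 (x.1 y) = -(x.1 y) := by
    intro z y h1 h2
    have h3 : z * x = -(x * z) := by rw [h1, neg_neg]
    rw [← au_mul_apply, h3, au_neg_apply, au_mul_apply, h2]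
  have neg' : ∀ {z : AU V} {y : V}, x * z = -(z * x) → z.1 y = -y → z.1 (x.1 y) = x.1 y := by
    intro z y h1 h2
    have h3 : z * x = -(x * z) := by rw [h1, neg_neg]
    rw [← au_mul_apply, h3, au_neg_apply, au_mul_apply, h2, map_neg, neg_neg]
  have z0 : z₁.1 (0 : V) = 0 := map_zero _
  have z0' : z₁.1 (0 : V) = -0 := by rw [map_zero, neg_zero]
  have w0 : z₂.1 (0 : V) = 0 := map_zero _
  have w0' : z₂.1 (0 : V) = -0 := by rw [map_zero, neg_zero]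
  rcases mul_pm h.E2 hx h.hz₁ with q1 | q1 <;> rcases mul_pm h.E2 hx h.hz₂ with q2 | q2
  · obtain ⟨e1, e2, -, e4⟩ := h.comp4 (pos q1 h.zv₁) (pos q2 h.zv₂) (pos' q1 h.a1) (pos q2 h.b1)
      z0 w0' (pos' q1 h.a3) (pos' q2 h.b3) h.zv₁ h.zv₂ h.a1 h.b1 z0 w0' h.a3 h.b3 hxv
    have e5 : x * f₁ = f₁ * x := by
      rcases mul_pm h.E2 hx h.hf₁ with q3 | q3
      · exact q3
      · exfalso
        rw [← au_mul_apply, q3, au_neg_apply, au_mul_apply, e1] at e2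
        exact h.nz h.mx.ne (D.two_tors h.two e2.symm)
    refine ⟨e1, e5, ?_⟩
    have e6 : x.1 (f₂.1 v₀) = f₂.1 v₀ := by
      apply au_injective f₁
      rw [← au_mul_apply f₁ x, ← e5, au_mul_apply, e4]
    rcases mul_pm h.E2 hx h.hf₂ with q3 | q3
    · exact q3
    · exfalso
      rw [← au_mul_apply, q3, au_neg_apply, au_mul_apply, e1] at e6
      exact h.nz h.mx.ne (D.two_tors h.two e6.symm)
  · exfalso
    -- `x v₀` has type (+,-)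
    obtain ⟨-, -, e3, -⟩ := h.comp4 (A := 0) (B := 0) (C := x.1 v₀)
      (E := x.1 (f₁.1 v₀)) (A' := v₀ - 0) (B' := f₁.1 v₀ - x.1 (f₁.1 (f₂.1 v₀))) (C' := 0)
      (E' := f₁.1 (f₂.1 v₀)) z0 w0 z0' w0 (pos q1 h.zv₁) (neg q2 h.zv₂) (pos' q1 h.a1)
      (neg q2 h.b1) (by rw [sub_zero]; exact h.zv₁) (by rw [sub_zero]; exact h.zv₂)
      (by rw [map_sub, h.a1, pos' q1 h.a3]; abel) (by rw [map_sub, h.b1, neg' q2 h.b3])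
      z0 w0' h.a3 h.b3 (by
        have : 0 + 0 + x.1 v₀ + x.1 (f₁.1 v₀) = (x.1 v₀ + x.1 (f₁.1 v₀) + 0 +
          x.1 (f₁.1 (f₂.1 v₀))) - x.1 (f₁.1 (f₂.1 v₀)) := by abel
        rw [this, hxv]; abel)
    exact hx0 h.mx.ne e3
  · exfalso
    -- `x f₁ f₂ v₀` has type (+,-)
    obtain ⟨-, -, e3, -⟩ := h.comp4 (A := x.1 (f₁.1 v₀)) (B := x.1 v₀)
      (C := x.1 (f₁.1 (f₂.1 v₀))) (E := 0) (A' := v₀) (B' := f₁.1 v₀) (C' := 0)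
      (E' := f₁.1 (f₂.1 v₀)) (neg' q1 h.a1) (pos q2 h.b1) (neg q1 h.zv₁) (pos q2 h.zv₂)
      (neg' q1 h.a3) (pos' q2 h.b3) z0' w0' h.zv₁ h.zv₂ h.a1 h.b1 z0 w0' h.a3 h.b3 (by
        rw [← hxv]; abel)
    exact hx0 (h.nz (h.nz h.mx.ne)) e3
  · exfalso
    -- `x f₁ v₀` has type (+,-)
    obtain ⟨-, -, e3, -⟩ := h.comp4 (A := x.1 (f₁.1 (f₂.1 v₀))) (B := 0)
      (C := x.1 (f₁.1 v₀)) (E := x.1 v₀) (A' := v₀) (B' := f₁.1 v₀) (C' := 0)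
      (E' := f₁.1 (f₂.1 v₀)) (neg' q1 h.a3) (neg' q2 h.b3) z0' w0 (neg' q1 h.a1)
      (neg q2 h.b1) (neg q1 h.zv₁) (neg q2 h.zv₂) h.zv₁ h.zv₂ h.a1 h.b1 z0 w0' h.a3 h.b3 (by
        rw [← hxv]; abel)
    exact hx0 (h.nz h.mx.ne) e3

/-- congruent coordinates -/
theorem PP_congr {x y : Q4} (e : q4e x y = true) : PP v₀ f₁ f₂ x = PP v₀ f₁ f₂ y := by
  have key : ∀ (w : V) {m n : ℕ}, m % 5 = n % 5 → m • w = n • w := by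
    intro w m n hmn
    have h1 : ∀ k : ℕ, k • w = (k % 5) • w := by
      intro k
      conv_lhs => rw [← Nat.div_add_mod k 5]
      rw [add_nsmul, mul_nsmul, h.five, nsmul_zero, zero_add]
    rw [h1 m, h1 n, hmn]
  unfold q4e at e
  simp only [Bool.and_eq_true, beq_iff_eq] at e
  obtain ⟨⟨⟨e1, e2⟩, e3⟩, e4⟩ := e
  unfold PP
  rw [key _ e1, key _ e2, key _ e3, key _ e4]

theorem fix_P {b : AU V} (hbv : b.1 v₀ = v₀) (h1 : b * f₁ = f₁ * b)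
    (h2 : b * f₂ = f₂ * b) (u : Q4) : b.1 (PP v₀ f₁ f₂ u) = PP v₀ f₁ f₂ u := by
  have e1 : b.1 (f₁.1 v₀) = f₁.1 v₀ := by rw [← au_mul_apply, h1, au_mul_apply, hbv]
  have e2 : b.1 (f₂.1 v₀) = f₂.1 v₀ := by rw [← au_mul_apply, h2, au_mul_apply, hbv]
  have e3 : b.1 (f₁.1 (f₂.1 v₀)) = f₁.1 (f₂.1 v₀) := by
    rw [← au_mul_apply b f₁, h1, au_mul_apply, e2]
  unfold PP
  simp only [map_add, map_nsmul, hbv, e1, e2, e3]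

theorem f1_Q : f₁ ∈ D.Q (PP v₀ f₁ f₂ q4v) :=
  ⟨h.hf₁, fun _ ha hav => (h.stab_v ha hav).2.1.symm⟩

theorem f2_Q : f₂ ∈ D.Q (PP v₀ f₁ f₂ q4v) :=
  ⟨h.hf₂, fun _ ha hav => (h.stab_v ha hav).2.2.symm⟩

theorem V0_P (u : Q4) : PP v₀ f₁ f₂ u ∈ D.V0 (PP v₀ f₁ f₂ q4v) := fun a ha hav => by
  obtain ⟨h1, h2, h3⟩ := h.stab_v ha hav
  exact h.fix_P h1 h2 h3 u

/-- elements commuting with `z₁`, `z₂` -/
theorem dec_act₀ {y : AU V} (hy : y ∈ D.Q (PP v₀ f₁ f₂ q4v)) (q1 : y * z₁ = z₁ * y)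
    (q2 : y * z₂ = z₂ * y) : ∃ (k : Fin 5) (α β : Bool), k ≠ 0 ∧
      ∀ u, y.1 (PP v₀ f₁ f₂ u) =
        PP v₀ f₁ f₂ (q4s k (cond α q4z1 id (cond β q4z2 id u))) := by
  -- adjusting elements
  have adj : ∀ a ∈ D.E, a.1 v₀ = v₀ → ∃ α β : Bool,
      (∀ u, a.1 (PP v₀ f₁ f₂ u) = PP v₀ f₁ f₂ (cond α q4z1 id (cond β q4z2 id u))) ∧
      y * a = a * y := by
    intro a ha hav
    have hcz : ∀ z b : AU V, z * z = 1 → y * z = z * y → y * (z * b) = (z * b) * y →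
        y * b = b * y := by
      intro z b h1 h2 h3
      calc y * b = (z * z) * y * b := by rw [h1, one_mul]
        _ = z * (z * y) * b := by simp only [mul_assoc]
        _ = z * (y * (z * b)) := by rw [← h2]; simp only [mul_assoc]
        _ = z * ((z * b) * y) := by rw [h3]
        _ = (z * z) * (b * y) := by simp only [mul_assoc]
        _ = b * y := by rw [h1, one_mul]
    have hgood : ∀ b ∈ D.E, b.1 v₀ = v₀ → b * f₁ = f₁ * b → b * f₂ = f₂ * b → y * b = b * y :=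
      fun b hb hbv h1 h2 => hy.2 b hb (h.fix_P hbv h1 h2 q4v)
    have hzz : ∀ {z : AU V}, z * z = 1 → ∀ x, z.1 (z.1 x) = x := fun {z} hz x => by
      rw [← au_mul_apply, hz]; rfl
    have m1 : a * f₁ = f₁ * a ∨ a * f₁ = -(f₁ * a) := mul_pm h.E2 ha h.hf₁
    have m2 : a * f₂ = f₂ * a ∨ a * f₂ = -(f₂ * a) := mul_pm h.E2 ha h.hf₂
    -- `z₁ a`
    have n1 : ∀ b : AU V, b * f₁ = -(f₁ * b) → (z₁ * b) * f₁ = f₁ * (z₁ * b) := by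
      intro b hb
      rw [mul_assoc, hb, mul_neg, ← mul_assoc, h.a11, neg_mul, neg_neg, mul_assoc]
    have n2 : ∀ b : AU V, b * f₂ = f₂ * b → (z₁ * b) * f₂ = f₂ * (z₁ * b) := by
      intro b hb
      rw [mul_assoc, hb, ← mul_assoc, h.c12, mul_assoc]
    have n3 : ∀ b : AU V, b * f₂ = -(f₂ * b) → (z₂ * b) * f₂ = f₂ * (z₂ * b) := by
      intro b hb
      rw [mul_assoc, hb, mul_neg, ← mul_assoc, h.a22, neg_mul, neg_neg, mul_assoc]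
    have n4 : ∀ b : AU V, b * f₁ = f₁ * b → (z₂ * b) * f₁ = f₁ * (z₂ * b) := by
      intro b hb
      rw [mul_assoc, hb, ← mul_assoc, h.c21, mul_assoc]
    have n5 : ∀ b : AU V, b * f₁ = -(f₁ * b) → (z₂ * b) * f₁ = -(f₁ * (z₂ * b)) := by
      intro b hb
      rw [mul_assoc, hb, mul_neg, ← mul_assoc, h.c21, mul_assoc]
    have v1 : ∀ b : AU V, b.1 v₀ = v₀ → (z₁ * b).1 v₀ = v₀ := fun b hb => by
      rw [au_mul_apply, hb, h.zv₁]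
    have v2 : ∀ b : AU V, b.1 v₀ = v₀ → (z₂ * b).1 v₀ = v₀ := fun b hb => by
      rw [au_mul_apply, hb, h.zv₂]
    rcases m1 with m1 | m1 <;> rcases m2 with m2 | m2
    · exact ⟨false, false, fun u => h.fix_P hav m1 m2 u, hgood a ha hav m1 m2⟩
    · refine ⟨false, true, fun u => ?_, ?_⟩
      · have e1 := h.fix_P (v2 a hav) (n4 a m1) (n3 a m2) u
        apply au_injective z₂
        rw [← au_mul_apply z₂ a, e1]
        change _ = z₂.1 (PP v₀ f₁ f₂ (q4z2 u))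
        rw [← h.PP_z2, hzz h.zz₂]
      · exact hcz z₂ a h.zz₂ q2 (hgood _ (D.E.mul_mem h.hz₂ ha) (v2 a hav) (n4 a m1) (n3 a m2))
    · refine ⟨true, false, fun u => ?_, ?_⟩
      · have e1 := h.fix_P (v1 a hav) (n1 a m1) (n2 a m2) u
        apply au_injective z₁
        rw [← au_mul_apply z₁ a, e1]
        change _ = z₁.1 (PP v₀ f₁ f₂ (q4z1 u))
        rw [← h.PP_z1, hzz h.zz₁]
      · exact hcz z₁ a h.zz₁ q1 (hgood _ (D.E.mul_mem h.hz₁ ha) (v1 a hav) (n1 a m1) (n2 a m2))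
    · have e0 := v1 _ (v2 a hav)
      have e2 := n1 _ (n5 a m1)
      have e3 := n2 _ (n3 a m2)
      refine ⟨true, true, fun u => ?_, ?_⟩
      · have e1 := h.fix_P e0 e2 e3 u
        apply au_injective z₂
        apply au_injective z₁
        rw [← au_mul_apply z₂ a, ← au_mul_apply z₁, e1]
        change _ = z₁.1 (z₂.1 (PP v₀ f₁ f₂ (q4z1 (q4z2 u))))
        have hc := h.cm_fix h.hz₁ h.hz₂ h.zv₁ h.zv₂
        rw [← au_mul_apply z₁ z₂, hc, au_mul_apply, ← h.PP_z1, hzz h.zz₁, ← h.PP_z2,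
          hzz h.zz₂]
      · exact hcz z₂ a h.zz₂ q2 (hcz z₁ _ h.zz₁ q1
          (hgood _ (D.E.mul_mem h.hz₁ (D.E.mul_mem h.hz₂ ha)) e0 e2 e3))
  have hyQ : y ∈ D.Q v₀ := ⟨hy.1, fun a ha hav => (adj a ha hav).choose_spec.choose_spec.2⟩
  obtain ⟨-, κ, hκ, hyκ⟩ := h.QB hyQ
  have hki : (κ⁻¹).1 ∈ D.K := D.isF.units.inv_mem (x := κ) hκ
  obtain ⟨α, β, hact, -⟩ := adj (κ⁻¹ * y) (D.E.mul_mem (D.KE _ hki) hy.1) (by
    rw [au_mul_apply, hyκ, au_inv_apply])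
  obtain ⟨k, hk⟩ := h.int κ.1 hκ
  refine ⟨k, α, β, ?_, fun u => ?_⟩
  · rintro rfl
    have := hk v₀
    rw [show (((0 : Fin 5) : ℕ)) = 0 from rfl, zero_nsmul] at this
    exact h.nz h.mx.ne this
  · have e1 : y.1 (PP v₀ f₁ f₂ u) = κ.1 ((κ⁻¹ * y).1 (PP v₀ f₁ f₂ u)) := by
      rw [← au_mul_apply, mul_inv_cancel_left]
    rw [e1, hact, hk, PP_s]

/-- the action of the elements of `Q v` -/
theorem dec_act {x : AU V} (hx : x ∈ D.Q (PP v₀ f₁ f₂ q4v)) :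
    ∃ (k : Fin 5) (α β γ δ : Bool), k ≠ 0 ∧
      ∀ u, x.1 (PP v₀ f₁ f₂ u) = PP v₀ f₁ f₂ (q4T k α β γ δ u) := by
  have n1 : ∀ b : AU V, b * z₁ = -(z₁ * b) → (f₁ * b) * z₁ = z₁ * (f₁ * b) := by
    intro b hb
    rw [mul_assoc, hb, mul_neg, ← mul_assoc, ← mul_assoc, h.a11, neg_mul]
  have n2 : ∀ b : AU V, b * z₂ = z₂ * b → (f₁ * b) * z₂ = z₂ * (f₁ * b) := by
    intro b hb
    rw [mul_assoc, hb, ← mul_assoc, ← mul_assoc, h.c21]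
  have n3 : ∀ b : AU V, b * z₂ = -(z₂ * b) → (f₂ * b) * z₂ = z₂ * (f₂ * b) := by
    intro b hb
    rw [mul_assoc, hb, mul_neg, ← mul_assoc, ← mul_assoc, h.a22, neg_mul]
  have n4 : ∀ b : AU V, b * z₁ = z₁ * b → (f₂ * b) * z₁ = z₁ * (f₂ * b) := by
    intro b hb
    rw [mul_assoc, hb, ← mul_assoc, ← mul_assoc, h.c12]
  have n5 : ∀ b : AU V, b * z₁ = -(z₁ * b) → (f₂ * b) * z₁ = -(z₁ * (f₂ * b)) := by
    intro b hb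
    rw [mul_assoc, hb, mul_neg, ← mul_assoc, ← mul_assoc, h.c12]
  rcases mul_pm h.E2 hx.1 h.hz₁ with m1 | m1 <;> rcases mul_pm h.E2 hx.1 h.hz₂ with m2 | m2
  · obtain ⟨k, α, β, hk, hact⟩ := h.dec_act₀ hx m1 m2
    exact ⟨k, α, β, false, false, hk, hact⟩
  · obtain ⟨k, α, β, hk, hact⟩ := h.dec_act₀ ((D.Q _).mul_mem h.f2_Q hx) (n4 x m1) (n3 x m2)
    refine ⟨k, α, β, false, true, hk, fun u => ?_⟩
    have e1 := hact u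
    rw [au_mul_apply] at e1
    rw [← h.f22 (x.1 _), e1, h.PP_f2]
    rfl
  · obtain ⟨k, α, β, hk, hact⟩ := h.dec_act₀ ((D.Q _).mul_mem h.f1_Q hx) (n1 x m1) (n2 x m2)
    refine ⟨k, α, β, true, false, hk, fun u => ?_⟩
    have e1 := hact u
    rw [au_mul_apply] at e1
    rw [← h.f11 (x.1 _), e1, h.PP_f1]
    rfl
  · obtain ⟨k, α, β, hk, hact⟩ := h.dec_act₀
      ((D.Q _).mul_mem h.f1_Q ((D.Q _).mul_mem h.f2_Q hx)) (n1 _ (n5 x m1)) (n2 _ (n3 x m2))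
    refine ⟨k, α, β, true, true, hk, fun u => ?_⟩
    have e1 := hact u
    rw [au_mul_apply, au_mul_apply] at e1
    rw [← h.f22 (x.1 _), ← h.f11 (f₂.1 (x.1 _)), e1, h.PP_f1, h.PP_f2]
    rfl

/-- **Two planes over the field with five elements.** -/
theorem base2 : HasBase (Fin 2) G := by
  have hv0 : PP v₀ f₁ f₂ q4v ≠ 0 := by
    intro h0
    have h1 : PP v₀ f₁ f₂ (0, 0, 0, 0) = 0 := by unfold PP; simp
    rw [← h1] at h0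
    have := h.PP_inj h0
    exact absurd this (by decide)
  have h2x : ∀ x : V, (2 : ℕ) • x = x + x := fun x => two_nsmul x
  -- the key property
  have hkey : ∀ g ∈ G, g.1 (PP v₀ f₁ f₂ q4v) = PP v₀ f₁ f₂ q4v →
      g.1 (PP v₀ f₁ f₂ q4w) = PP v₀ f₁ f₂ q4w →
      (∀ a ∈ D.K, ∀ x, g.1 (a x) = a (g.1 x)) ∧ ∀ u, g.1 (PP v₀ f₁ f₂ u) = PP v₀ f₁ f₂ u := by
    intro g hg hgv hgw
    refine ⟨fun a ha x => ?_, ?_⟩
    · obtain ⟨n, hn⟩ := h.int a ha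
      rw [hn, hn, map_nsmul]
    have hx₁Q := conj_Q hg hgv h.f1_Q
    have hx₂Q := conj_Q hg hgv h.f2_Q
    obtain ⟨x₁, hx₁⟩ : ∃ x, x = g * f₁ * g⁻¹ := ⟨_, rfl⟩
    obtain ⟨x₂, hx₂⟩ : ∃ x, x = g * f₂ * g⁻¹ := ⟨_, rfl⟩
    rw [← hx₁] at hx₁Q
    rw [← hx₂] at hx₂Q
    obtain ⟨k₁, α₁, β₁, γ₁, δ₁, -, act₁⟩ := h.dec_act hx₁Q
    obtain ⟨k₂, α₂, β₂, γ₂, δ₂, -, act₂⟩ := h.dec_act hx₂Q
    have g1 : g.1 (f₁.1 (PP v₀ f₁ f₂ q4v)) = x₁.1 (PP v₀ f₁ f₂ q4v) := by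
      rw [hx₁, au_mul_apply, au_mul_apply, inv_fix hgv]
    have g2 : g.1 (f₂.1 (PP v₀ f₁ f₂ q4v)) = x₂.1 (PP v₀ f₁ f₂ q4v) := by
      rw [hx₂, au_mul_apply, au_mul_apply, inv_fix hgv]
    have g12 : g.1 (f₁.1 (f₂.1 (PP v₀ f₁ f₂ q4v))) = x₁.1 (x₂.1 (PP v₀ f₁ f₂ q4v)) := by
      rw [← g2, hx₁, au_mul_apply, au_mul_apply, au_inv_apply]
    have hw : PP v₀ f₁ f₂ q4w = f₁.1 (PP v₀ f₁ f₂ q4v) + 2 • f₂.1 (PP v₀ f₁ f₂ q4v) := by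
      unfold q4w
      rw [PP_add, PP_s, h.PP_f1, h.PP_f2]
    have s1 : x₁ * x₁ = 1 := by
      rw [hx₁]
      calc g * f₁ * g⁻¹ * (g * f₁ * g⁻¹) = g * (f₁ * f₁) * g⁻¹ := by group
        _ = 1 := by rw [h.ff₁]; group
    have s2 : x₂ * x₂ = 1 := by
      rw [hx₂]
      calc g * f₂ * g⁻¹ * (g * f₂ * g⁻¹) = g * (f₂ * f₂) * g⁻¹ := by group
        _ = 1 := by rw [h.ff₂]; group
    have s3 : x₁ * x₂ = x₂ * x₁ := by
      rw [hx₁, hx₂]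
      calc g * f₁ * g⁻¹ * (g * f₂ * g⁻¹) = g * (f₁ * f₂) * g⁻¹ := by group
        _ = g * (f₂ * f₁) * g⁻¹ := by rw [h.cf]
        _ = _ := by group
    have c1 : q4e (q4a (q4T k₁ α₁ β₁ γ₁ δ₁ q4v) (q4s 2 (q4T k₂ α₂ β₂ γ₂ δ₂ q4v))) q4w = true := by
      apply h.PP_inj
      rw [PP_add, PP_s, ← act₁, ← act₂, ← g1, ← g2, ← map_nsmul, ← map_add, ← hw, hgw]
    have c2 : q4e (q4T k₁ α₁ β₁ γ₁ δ₁ (q4T k₁ α₁ β₁ γ₁ δ₁ q4v)) q4v = true := by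
      apply h.PP_inj
      rw [← act₁, ← act₁, ← au_mul_apply, s1]; rfl
    have c3 : q4e (q4T k₂ α₂ β₂ γ₂ δ₂ (q4T k₂ α₂ β₂ γ₂ δ₂ q4v)) q4v = true := by
      apply h.PP_inj
      rw [← act₂, ← act₂, ← au_mul_apply, s2]; rfl
    have c4 : q4e (q4T k₁ α₁ β₁ γ₁ δ₁ (q4T k₂ α₂ β₂ γ₂ δ₂ q4v))
        (q4T k₂ α₂ β₂ γ₂ δ₂ (q4T k₁ α₁ β₁ γ₁ δ₁ q4v)) = true := by
      apply h.PP_inj
      rw [← act₁, ← act₂, ← act₂, ← act₁, ← au_mul_apply, s3, au_mul_apply]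
    have hchk := chk_all k₁ α₁ β₁ γ₁ δ₁ k₂ α₂ β₂ γ₂ δ₂ (by
      unfold chk; rw [c1, c2, c3, c4]; rfl)
    unfold tgt at hchk
    simp only [Bool.and_eq_true, beq_iff_eq, Bool.not_eq_true'] at hchk
    obtain ⟨⟨⟨⟨⟨⟨⟨⟨⟨r1, rfl⟩, rfl⟩, rfl⟩, rfl⟩, r2⟩, rfl⟩, rfl⟩, rfl⟩, rfl⟩ := hchk
    have act₁' : ∀ u, x₁.1 (PP v₀ f₁ f₂ u) = f₁.1 (PP v₀ f₁ f₂ u) := by
      intro u
      rw [act₁, h.PP_f1, r1]
      change PP v₀ f₁ f₂ (q4s 1 (q4f1 u)) = _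
      rw [PP_s, one_nsmul]
    have act₂' : ∀ u, x₂.1 (PP v₀ f₁ f₂ u) = f₂.1 (PP v₀ f₁ f₂ u) := by
      intro u
      rw [act₂, h.PP_f2, r2]
      change PP v₀ f₁ f₂ (q4s 1 (q4f2 u)) = _
      rw [PP_s, one_nsmul]
    have t0 : g.1 (PP v₀ f₁ f₂ q4v) = PP v₀ f₁ f₂ q4v := hgv
    have t1 : g.1 (PP v₀ f₁ f₂ (q4f1 q4v)) = PP v₀ f₁ f₂ (q4f1 q4v) := by
      rw [← h.PP_f1, g1, act₁']
    have t2 : g.1 (PP v₀ f₁ f₂ (q4f2 q4v)) = PP v₀ f₁ f₂ (q4f2 q4v) := by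
      rw [← h.PP_f2, g2, act₂']
    have t3 : g.1 (PP v₀ f₁ f₂ (q4f1 (q4f2 q4v))) = PP v₀ f₁ f₂ (q4f1 (q4f2 q4v)) := by
      rw [← h.PP_f1, ← h.PP_f2, g12, act₂', h.PP_f2, act₁']
    have ta : ∀ x y, g.1 (PP v₀ f₁ f₂ x) = PP v₀ f₁ f₂ x → g.1 (PP v₀ f₁ f₂ y) = PP v₀ f₁ f₂ y →
        g.1 (PP v₀ f₁ f₂ (q4a x y)) = PP v₀ f₁ f₂ (q4a x y) := by
      intro x y h1 h2
      rw [PP_add, map_add, h1, h2]
    have ts : ∀ n x, g.1 (PP v₀ f₁ f₂ x) = PP v₀ f₁ f₂ x →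
        g.1 (PP v₀ f₁ f₂ (q4s n x)) = PP v₀ f₁ f₂ (q4s n x) := by
      intro n x h1
      rw [PP_s, map_nsmul, h1]
    have tsum := ts 2 _ (ta _ _ (ta _ _ (ta _ _ t0 t1) t2) t3)
    have fin : ∀ x y, g.1 (PP v₀ f₁ f₂ y) = PP v₀ f₁ f₂ y → q4e x y = true →
        g.1 (PP v₀ f₁ f₂ x) = PP v₀ f₁ f₂ x := by
      intro x y h1 h2
      rw [h.PP_congr h2, h1]
    have u0 := fin (1, 0, 0, 0) _ (ta _ _ tsum (ts 4 _ t2)) (by decide)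
    have u1 := fin (0, 1, 0, 0) _ (ta _ _ tsum (ts 4 _ t3)) (by decide)
    have u2 := fin (0, 0, 1, 0) _ (ta _ _ tsum (ts 4 _ t0)) (by decide)
    have u3 := fin (0, 0, 0, 1) _ (ta _ _ tsum (ts 4 _ t1)) (by decide)
    intro u
    exact fin u _ (ta _ _ (ta _ _ (ta _ _ (ts u.1 _ u0) (ts u.2.1 _ u1)) (ts u.2.2.1 _ u2))
      (ts u.2.2.2 _ u3)) (by unfold q4e q4a q4s; simp)
  refine pf hv0 (h.V0_P q4w) (fun g hg hgv hgw => ?_) (fun c => PP v₀ f₁ f₂ (q4b c))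
    (fun c => h.V0_P _) ?_ ?_ ?_ ?_ ?_
  · obtain ⟨h1, h2⟩ := hkey g hg hgv hgw
    refine ⟨h1, fun x hx => ?_⟩
    obtain ⟨k, α, β, γ, δ, -, hact⟩ := h.dec_act hx
    rw [hact, h2]
  · intro c h0
    have h1 : PP v₀ f₁ f₂ (0, 0, 0, 0) = 0 := by unfold PP; simp
    rw [← h1] at h0
    have h2 := h.PP_inj h0
    rw [chk_ne c] at h2
    exact absurd h2 (by decide)
  · intro g hg hgv hgw c
    exact (hkey g hg hgv hgw).2 _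
  · intro x hx c d hxcd
    obtain ⟨k, α, β, γ, δ, -, hact⟩ := h.dec_act hx
    simp only [hact] at hxcd
    exact chk_orb k α β γ δ c d (h.PP_inj hxcd)
  · intro x hx hxv
    exact ⟨hx.1, 1, D.K.one_mem, hxv⟩
  · intro x hx κ l hκ hl h1 h2
    obtain ⟨k, α, β, γ, δ, hk0, hact⟩ := h.dec_act hx
    obtain ⟨m, hm⟩ := h.int κ.1 hκ
    obtain ⟨n, hn⟩ := h.int l.1 hl
    rw [hm, hact, ← PP_s] at h1
    rw [hn, hact, ← PP_s] at h2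
    have h3 := chk_S k α β γ δ m n (h.PP_inj h1) (h.PP_inj h2) hk0
    have h4 : x.1 (PP v₀ f₁ f₂ q4v) = (k : ℕ) • PP v₀ f₁ f₂ q4v := by
      rw [hact, h.PP_congr h3, PP_s]
    have h5 : ((k : ℕ) : AddMonoid.End V) ∈ D.K := natCast_mem D.K _
    have h6 : ((k : ℕ) : AddMonoid.End V) ≠ 0 := by
      intro h0
      have h7 : ((k : ℕ) : AddMonoid.End V) (PP v₀ f₁ f₂ q4v) = 0 := by rw [h0]; rfl
      rw [AddMonoid.End.natCast_apply, ← h4] at h7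
      exact h.nz hv0 h7
    obtain ⟨κ', hκ'⟩ := D.isF.exists_unit h5 h6
    have hκ'' : κ'.1 = ((k : ℕ) : AddMonoid.End V) := hκ'
    refine ⟨hx.1, κ', by rw [hκ'']; exact h5, ?_⟩
    rw [h4, hκ'', AddMonoid.End.natCast_apply]

end FS

end Dat

end Cfsg.Agent.H578
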