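import Cfsg.Agent.H578.Five

/-!
# The field with five elements: the result (helper578)
-/

set_option autoImplicit false
set_option linter.unusedSectionVars false

universe u

namespace Cfsg.Agent.H578

variable {V : Type u} [AddCommGroup V]

namespace Dat

variable {G : Subgroup (AU V)} {D : Dat G} [Nontrivial V] [Finite V]

/-- **The field with five elements.** -/
theorem prim2_five (hE2 : ∀ x ∈ D.E, (x ^ 2).1 ∈ D.K) (five : ∀ x : V, (5 : ℕ) • x = 0)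
    (hint : ∀ a ∈ D.K, ∃ n : Fin 5, ∀ x : V, a x = (n : ℕ) • x) : HasBase (Fin 2) G := by
  obtain ⟨v₀, i, hF⟩ := D.exists_frame
  have hv₀ := hF.ne
  have hneg4 : ∀ x : V, (4 : ℕ) • x = -x := by
    intro x
    have := five x
    rw [show 5 = 4 + 1 from rfl, succ_nsmul] at this
    exact eq_neg_of_add_eq_zero_left this
  have hord : ∀ {x : V}, x ≠ 0 → addOrderOf x = 5 := by
    intro x hx
    have : Fact (Nat.Prime 5) := ⟨by norm_num⟩
    exact addOrderOf_eq_prime (five x) hx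
  have h2K : ((2 : ℕ) : AddMonoid.End V) ∈ D.K := natCast_mem D.K _
  have h2x : ∀ x : V, ((2 : ℕ) : AddMonoid.End V) x = 2 • x := fun x => by
    rw [AddMonoid.End.natCast_apply]
  have h20 : ((2 : ℕ) : AddMonoid.End V) ≠ 0 := by
    intro h0
    have h1 : (2 : ℕ) • v₀ = 0 := by rw [← h2x, h0]; rfl
    have h2 := addOrderOf_dvd_of_nsmul_eq_zero h1
    rw [hord hv₀] at h2
    omega
  obtain ⟨ι, hι⟩ := D.isF.exists_unit h2K h20
  have hι' : ι.1 = ((2 : ℕ) : AddMonoid.End V) := hι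
  have hιK : ι.1 ∈ D.K := by rw [hι']; exact h2K
  have hιx : ∀ x : V, ι.1 x = 2 • x := fun x => by rw [hι', h2x]
  have hιι : ι * ι = -1 := by
    apply au_ext
    intro x
    rw [au_mul_apply, hιx, hιx, ← mul_nsmul, hneg4]
    rfl
  have htwo : (1 : AU V) ≠ -1 := by
    intro h
    have h1 : v₀ = -v₀ := congrArg (fun g : AU V => g.1 v₀) h
    have h2 : (2 : ℕ) • v₀ = 0 := by rw [two_nsmul]; nth_rewrite 1 [h1]; exact neg_add_cancel v₀
    have h3 := addOrderOf_dvd_of_nsmul_eq_zero h2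
    rw [hord hv₀] at h3
    omega
  have hi : i = 1 := by
    rcases hF.dich with h | ⟨-, h⟩
    · exact h
    · exact absurd (congrArg Units.val hιι) (h _ hιK)
  subst hi
  have hQB := QB_of_frame hF
  have hgK : ∀ g ∈ G, ∀ a ∈ D.K, ∀ x, g.1 (a x) = a (g.1 x) := by
    intro g _ a ha x
    obtain ⟨n, hn⟩ := hint a ha
    rw [hn, hn, map_nsmul]
  by_cases hEK : ∀ x ∈ D.E, x.1 ∈ D.K
  · refine ⟨![v₀, v₀], fun g hg h => ?_⟩
    have hgv : g.1 v₀ = v₀ := h 0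
    apply fix_imp_one hg hgv hv₀
    intro x hx
    rw [hgK g hg _ (hEK x hx), hgv]
  obtain ⟨z₁, hz₁, f₁, hf₁, hzv₁, hzz₁, hff₁, hzf₁⟩ := exists_zf2 hF.toIsMax hQB hE2 hEK hιK hιι
  have cmfix : ∀ {a b : AU V}, a ∈ D.E → b ∈ D.E → a.1 v₀ = v₀ → b.1 v₀ = v₀ → a * b = b * a := by
    intro a b ha hb hav hbv
    apply cm_eq_one.mp
    apply eq_one_of_fix hv₀ (cm_K ha hb)
    have h1 : (b⁻¹).1 v₀ = v₀ := by apply au_injective b; rw [au_apply_inv, hbv]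
    have h2 : (a⁻¹).1 v₀ = v₀ := by apply au_injective a; rw [au_apply_inv, hav]
    unfold cm
    rw [au_mul_apply, au_mul_apply, au_mul_apply, h1, h2, hbv, hav]
  by_cases hb : ∀ b ∈ D.E, b.1 v₀ = v₀ → b * f₁ = f₁ * b → b = 1
  · -- one plane
    refine ⟨![v₀, f₁.1 v₀], fun g hg h => ?_⟩
    have hgv : g.1 v₀ = v₀ := h 0
    have hgf : g.1 (f₁.1 v₀) = f₁.1 v₀ := h 1
    have key : ∀ y ∈ D.E, z₁ * y = y * z₁ → ∃ k : AU V, k.1 ∈ D.K ∧ y.1 v₀ = k.1 v₀ := by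
      intro y hy hzy
      have hyQ : y ∈ D.Q v₀ := by
        refine ⟨hy, fun a ha hav => ?_⟩
        rcases mul_pm hE2 ha hf₁ with h1 | h1
        · rw [hb a ha hav h1, mul_one, one_mul]
        · have h2 := hb (z₁ * a) (D.E.mul_mem hz₁ ha) (by rw [au_mul_apply, hav, hzv₁]) (by
            rw [mul_assoc, h1, mul_neg, ← mul_assoc, hzf₁, neg_mul, neg_neg, mul_assoc])
          have h3 : a = z₁ := by
            calc a = (z₁ * z₁) * a := by rw [hzz₁, one_mul]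
              _ = z₁ * (z₁ * a) := mul_assoc _ _ _
              _ = z₁ := by rw [h2, mul_one]
          rw [h3, hzy]
      exact (hQB hyQ).2
    apply fix_imp_one hg hgv hv₀
    intro x hx
    rcases mul_pm hE2 hz₁ hx with h1 | h1
    · obtain ⟨k, hk, e⟩ := key x hx h1
      rw [e, hgK g hg _ hk, hgv]
    · obtain ⟨k, hk, e⟩ := key (f₁ * x) (D.E.mul_mem hf₁ hx) (by
        rw [← mul_assoc, hzf₁, neg_mul, mul_assoc, h1, mul_neg, neg_neg, mul_assoc])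
      have e1 : x.1 v₀ = k.1 (f₁.1 v₀) := by
        rw [← D.EK' hf₁ hk, ← e, au_mul_apply, ← au_mul_apply f₁ f₁, hff₁]; rfl
      rw [e1, hgK g hg _ hk, hgf]
  · push Not at hb
    obtain ⟨z₂, hz₂, hzv₂, hzf₂, hz₂1⟩ := hb
    have hzz₂ : z₂ * z₂ = 1 := by
      apply eq_one_of_fix hv₀
      · rw [← pow_two]; exact hE2 z₂ hz₂
      · rw [au_mul_apply, hzv₂, hzv₂]
    have hz12 := cmfix hz₁ hz₂ hzv₁ hzv₂
    obtain ⟨f', hf', hzf'⟩ : ∃ f' ∈ D.E, z₂ * f' ≠ f' * z₂ := by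
      by_contra hcon
      push Not at hcon
      exact hz₂1 (eq_one_of_fix hv₀ (D.center z₂ hz₂ hcon) hzv₂)
    have a0 : z₂ * f' = -(f' * z₂) := (mul_pm hE2 hz₂ hf').resolve_left hzf'
    -- adjust `f'` to commute with `z₁`
    obtain ⟨f'', hf'', a1, c1⟩ : ∃ f'' ∈ D.E, z₂ * f'' = -(f'' * z₂) ∧ z₁ * f'' = f'' * z₁ := by
      rcases mul_pm hE2 hz₁ hf' with h1 | h1
      · exact ⟨f', hf', a0, h1⟩
      · refine ⟨f₁ * f', D.E.mul_mem hf₁ hf', ?_, ?_⟩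
        · rw [← mul_assoc, hzf₂, mul_assoc, a0, mul_neg, mul_assoc]
        · rw [← mul_assoc, hzf₁, neg_mul, mul_assoc, h1, mul_neg, neg_neg, mul_assoc]
    obtain ⟨f₃, hf₃, a2, c2, c3⟩ : ∃ f₃ ∈ D.E, z₂ * f₃ = -(f₃ * z₂) ∧ z₁ * f₃ = f₃ * z₁ ∧
        f₁ * f₃ = f₃ * f₁ := by
      rcases mul_pm hE2 hf₁ hf'' with h1 | h1
      · exact ⟨f'', hf'', a1, c1, h1⟩
      · refine ⟨z₁ * f'', D.E.mul_mem hz₁ hf'', ?_, ?_, ?_⟩
        · rw [← mul_assoc, ← hz12, mul_assoc, a1, mul_neg, mul_assoc]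
        · rw [mul_assoc, ← c1]
        · have h2 : f₁ * z₁ = -(z₁ * f₁) := by rw [hzf₁, neg_neg]
          rw [← mul_assoc, h2, neg_mul, mul_assoc, h1, mul_neg, neg_neg, mul_assoc]
    -- normalise
    have hmul : ∀ k : AU V, k.1 ∈ D.K → z₂ * (k * f₃) = -(k * f₃ * z₂) ∧
        z₁ * (k * f₃) = k * f₃ * z₁ ∧ f₁ * (k * f₃) = k * f₃ * f₁ := by
      intro k hk
      refine ⟨?_, ?_, ?_⟩
      · rw [← mul_assoc, D.EKu hz₂ hk, mul_assoc, a2, mul_neg, mul_assoc]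
      · rw [← mul_assoc, D.EKu hz₁ hk, mul_assoc, c2, mul_assoc]
      · rw [← mul_assoc, D.EKu hf₁ hk, mul_assoc, c3, mul_assoc]
    obtain ⟨k, hk, hkk⟩ : ∃ k : AU V, k.1 ∈ D.K ∧ (k * f₃) * (k * f₃) = 1 := by
      obtain ⟨k, hk, h | ⟨-, h⟩⟩ := D.star _ hf₃ 2 Nat.prime_two (hE2 _ hf₃)
      · exact ⟨k, hk, by rw [← pow_two]; exact h⟩
      · have hιk : (ι * k).1 ∈ D.K := D.K.mul_mem hιK hk
        refine ⟨ι * k, hιk, ?_⟩
        have e1 : (k * f₃) * ι = ι * (k * f₃) := D.EKu (D.E.mul_mem (D.KE k hk) hf₃) hιK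
        rw [pow_two] at h
        calc ι * k * f₃ * (ι * k * f₃) = ι * ((k * f₃) * ι) * (k * f₃) := by simp only [mul_assoc]
          _ = (ι * ι) * ((k * f₃) * (k * f₃)) := by rw [e1]; simp only [mul_assoc]
          _ = 1 := by rw [hιι, h, neg_mul_neg, one_mul]
    obtain ⟨m1, m2, m3⟩ := hmul k hk
    have h : D.FS v₀ z₁ f₁ z₂ (k * f₃) :=
      { mx := hF.toIsMax, QB := hQB, hz₁ := hz₁, hf₁ := hf₁, hz₂ := hz₂,
        hf₂ := D.E.mul_mem (D.KE k hk) hf₃, zv₁ := hzv₁, zv₂ := hzv₂, zz₁ := hzz₁, zz₂ := hzz₂,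
        ff₁ := hff₁, ff₂ := hkk, a11 := hzf₁, a22 := m1, c12 := m2, c21 := hzf₂, cf := m3,
        two := htwo, E2 := hE2, five := five, int := hint }
    exact h.base2

end Dat

end Cfsg.Agent.H578
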