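import Cfsg.Agent.H578.Sys

/-!
# Commutative rings normalised by a primitive linear group are fields (helper578)
-/

set_option autoImplicit false

universe u

namespace Cfsg.Agent.H578

variable {V : Type u} [AddCommGroup V]

theorem exists_pow_idem {M : Type*} [Monoid M] [Finite M] (a : M) :
    ∃ n : ℕ, 0 < n ∧ a ^ n * a ^ n = a ^ n := by
  obtain ⟨m, n, hmn, h⟩ := Finite.exists_ne_map_eq_of_infinite (fun n : ℕ => a ^ n)
  wlog hlt : m < n generalizing m n
  · exact this n m hmn.symm h.symm (lt_of_le_of_ne (not_lt.mp hlt) hmn.symm)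
  obtain ⟨k, rfl⟩ : ∃ k, n = m + k := ⟨n - m, by omega⟩
  have hk : 0 < k := by omega
  have h1 : ∀ j, m ≤ j → a ^ (j + k) = a ^ j := by
    intro j hj
    obtain ⟨i, rfl⟩ : ∃ i, j = m + i := ⟨j - m, by omega⟩
    rw [show m + i + k = (m + k) + i by ring, pow_add, ← h, ← pow_add]
  have h2 : ∀ i j, m ≤ j → a ^ (j + i * k) = a ^ j := by
    intro i
    induction i with
    | zero => intro j _; simp
    | succ i ih =>
      intro j hj
      rw [show j + (i + 1) * k = (j + i * k) + k by ring, h1 _ (by omega), ih j hj]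
  have h3 : m ≤ (m + 1) * k := by nlinarith
  refine ⟨(m + 1) * k, Nat.mul_pos (by omega) hk, ?_⟩
  rw [← pow_add, h2 _ _ h3]

theorem range_le_of_mul (a b : AddMonoid.End V) : (a * b).range ≤ AddMonoidHom.range a := by
  rintro _ ⟨x, rfl⟩
  exact ⟨b x, rfl⟩

/-- the two possibilities for an endomorphism commuting with an irreducible group -/
theorem comm_zero_or_surj {G : Subgroup (AU V)} (hirr : Irr G) (s : AddMonoid.End V)
    (hs : ∀ g ∈ G, cj g s = s) : s = 0 ∨ AddMonoidHom.range s = ⊤ := by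
  rcases hirr (AddMonoidHom.range s) (by
    rintro g hg _ ⟨x, rfl⟩
    have h1 := cj_apply' g s x
    rw [hs g hg] at h1
    exact ⟨g.1 x, h1⟩) with h | h
  · left; exact AddMonoidHom.range_eq_bot_iff.mp h
  · right; exact h

variable [Finite V]

theorem finite_end : Finite (AddMonoid.End V) := DFunLike.finite _

/-- a commutative subring normalised by `G` has only trivial idempotents -/
theorem idem_trivial [Nontrivial V] {G : Subgroup (AU V)} (hirr : Irr G) (hprim : Prim G)
    (R : Subring (AddMonoid.End V)) (hcomm : ∀ a ∈ R, ∀ b ∈ R, a * b = b * a)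
    (hG : ∀ g ∈ G, ∀ a ∈ R, cj g a ∈ R) {f : AddMonoid.End V} (hf : f ∈ R) (hff : f * f = f)
    (hf0 : f ≠ 0) : f = 1 := by
  classical
  have hfe : Finite (AddMonoid.End V) := finite_end
  -- an idempotent with minimal range
  obtain ⟨e, ⟨heR, hee, he0⟩, hemin⟩ := WellFounded.has_min
    (InvImage.wf (fun e : AddMonoid.End V => Nat.card (AddMonoidHom.range e)) Nat.lt_wfRel.wf)
    {e : AddMonoid.End V | e ∈ R ∧ e * e = e ∧ e ≠ 0} ⟨f, hf, hff, hf0⟩
  have hemin' : ∀ e' ∈ R, e' * e' = e' → e' ≠ 0 →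
      Nat.card (AddMonoidHom.range e) ≤ Nat.card (AddMonoidHom.range e') := by
    intro e' h1 h2 h3
    by_contra hlt
    exact hemin e' ⟨h1, h2, h3⟩ (not_le.mp hlt)
  -- products with minimal idempotents
  have hmul : ∀ a ∈ R, a * a = a → Nat.card (AddMonoidHom.range a) = Nat.card (AddMonoidHom.range e) →
      ∀ b ∈ R, b * b = b → a * b ≠ 0 → a * b = a := by
    intro a ha haa hca b hb hbb hab
    have h1 : (a * b) * (a * b) = a * b := by
      calc (a * b) * (a * b) = a * (b * a) * b := by simp only [mul_assoc]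
        _ = a * (a * b) * b := by rw [hcomm b hb a ha]
        _ = (a * a) * (b * b) := by simp only [mul_assoc]
        _ = a * b := by rw [haa, hbb]
    have h2 := hemin' (a * b) (R.mul_mem ha hb) h1 hab
    have h3 : (a * b).range = AddMonoidHom.range a := by
      refine AddSubgroup.eq_of_le_of_card_ge (range_le_of_mul a b) ?_
      rw [hca]; exact h2
    apply AddMonoidHom.ext
    intro x
    have h4 : a x ∈ (a * b).range := by rw [h3]; exact ⟨x, rfl⟩
    obtain ⟨y, hy⟩ := h4
    have h5 : (a * b) (a x) = a x := by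
      rw [← hy]; exact DFunLike.congr_fun h1 y
    have h6 : (a * b) (a x) = (a * b) x := by
      change (a * b * a) x = (a * b) x
      rw [mul_assoc, hcomm b hb a ha, ← mul_assoc, haa]
    exact h6.symm.trans h5
  have hcard : ∀ g : AU V, Nat.card (AddMonoidHom.range (cj g e)) =
      Nat.card (AddMonoidHom.range e) := by
    intro g
    let E : V ≃+ V :=
      { toFun := g.1
        invFun := (g⁻¹).1
        left_inv := au_inv_apply g
        right_inv := au_apply_inv g
        map_add' := map_add g.1 }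
    have h1 : AddMonoidHom.range (cj g e) = (AddMonoidHom.range e).map E.toAddMonoidHom := by
      ext x
      constructor
      · rintro ⟨y, rfl⟩
        exact ⟨e ((g⁻¹).1 y), ⟨_, rfl⟩, rfl⟩
      · rintro ⟨_, ⟨y, rfl⟩, rfl⟩
        exact ⟨g.1 y, cj_apply' g e y⟩
    rw [h1]
    exact (Nat.card_congr (AddSubgroup.equivMapOfInjective _ _ E.injective).toEquiv).symm
  -- the orbit of `e`
  have hfin : {a | ∃ g ∈ G, a = cj g e}.Finite := Set.toFinite _
  let S : Finset (AddMonoid.End V) := hfin.toFinset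
  have hmemS : ∀ a, a ∈ S ↔ ∃ g ∈ G, a = cj g e := fun a => hfin.mem_toFinset
  have hSR : ∀ a ∈ S, a ∈ R ∧ a * a = a ∧ a ≠ 0 ∧
      Nat.card (AddMonoidHom.range a) = Nat.card (AddMonoidHom.range e) := by
    intro a ha
    obtain ⟨g, hg, rfl⟩ := (hmemS a).mp ha
    refine ⟨hG g hg e heR, by rw [← cj_mul, hee], ?_, hcard g⟩
    intro h0
    apply he0
    apply cj_injective g
    rw [h0, cj_zero]
  have horth : ∀ a ∈ S, ∀ b ∈ S, a ≠ b → a * b = 0 := by
    intro a ha b hb hab
    by_contra h0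
    obtain ⟨ha1, ha2, -, ha4⟩ := hSR a ha
    obtain ⟨hb1, hb2, -, hb4⟩ := hSR b hb
    have h1 := hmul a ha1 ha2 ha4 b hb1 hb2 h0
    have h2 := hmul b hb1 hb2 hb4 a ha1 ha2 (by rw [hcomm b hb1 a ha1]; exact h0)
    exact hab (by rw [← h1, hcomm a ha1 b hb1, h2])
  have heS : e ∈ S := (hmemS e).mpr ⟨1, G.one_mem, (cj_one e).symm⟩
  have hconj : ∀ g ∈ G, ∀ a ∈ S, cj g a ∈ S := by
    intro g hg a ha
    obtain ⟨k, hk, rfl⟩ := (hmemS a).mp ha
    exact (hmemS _).mpr ⟨g * k, G.mul_mem hg hk, cj_cj g k e⟩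
  let s : AddMonoid.End V := ∑ a ∈ S, a
  have hmuls : ∀ a ∈ S, a * s = a := by
    intro a ha
    rw [Finset.mul_sum, Finset.sum_eq_single a
      (fun k hk hkf => horth a ha k hk (Ne.symm hkf)) (fun h => absurd ha h)]
    exact (hSR a ha).2.1
  have hss : s * s = s := by
    have : s * s = ∑ a ∈ S, a * s := by
      conv_lhs => arg 1; simp only [s]
      rw [Finset.sum_mul]
    rw [this]
    exact Finset.sum_congr rfl hmuls
  have hinv : ∀ g ∈ G, cj g s = s := by
    intro g hg
    rw [cj_sum]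
    refine Finset.sum_nbij' (cj g) (cj g⁻¹) (fun a ha => hconj g hg a ha)
      (fun a ha => hconj _ (G.inv_mem hg) a ha) (fun a _ => cj_inv_cj g a)
      (fun a _ => cj_cj_inv g a) (fun a _ => rfl)
  have hs1 : s = 1 := by
    rcases comm_zero_or_surj hirr s hinv with h | h
    · exfalso
      apply he0
      rw [← hmuls e heS, h, mul_zero]
    · apply AddMonoidHom.ext
      intro x
      have hx : x ∈ AddMonoidHom.range s := by rw [h]; trivial
      obtain ⟨y, rfl⟩ := hx
      exact DFunLike.congr_fun hss y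
  have hsys : IsSys G S := ⟨fun a ha => (hSR a ha).2.2.1, horth, hs1, hconj⟩
  have he1 : e = 1 := by
    have h1 := hprim S hsys
    have h2 : S = {e} := by
      apply Finset.eq_singleton_iff_unique_mem.mpr
      exact ⟨heS, fun a ha => Finset.card_le_one.mp h1 a ha e heS⟩
    have h3 : ∑ a ∈ S, a = 1 := hs1
    rw [h2, Finset.sum_singleton] at h3
    exact h3
  -- hence every idempotent is trivial
  have h1 := hemin' f hf hff hf0
  have h2 : AddMonoidHom.range f = ⊤ := by
    apply AddSubgroup.eq_top_of_card_eq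
    apply le_antisymm
    · exact Nat.card_le_card_of_injective _ (Subtype.val_injective)
    · refine le_trans ?_ h1
      rw [he1]
      have : AddMonoidHom.range (1 : AddMonoid.End V) = ⊤ := by
        rw [eq_top_iff]; intro x _; exact ⟨x, rfl⟩
      rw [this, AddSubgroup.card_top]
  apply AddMonoidHom.ext
  intro x
  have hx : x ∈ AddMonoidHom.range f := by rw [h2]; trivial
  obtain ⟨y, rfl⟩ := hx
  exact DFunLike.congr_fun hff y

omit [Finite V] in
/-- commuting nilpotent operators have a common kernel -/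
theorem common_kernel [Nontrivial V] (T : Finset (AddMonoid.End V))
    (hcomm : ∀ a ∈ T, ∀ b ∈ T, a * b = b * a) (hnil : ∀ a ∈ T, ∃ n, a ^ n = 0) :
    ∃ v : V, v ≠ 0 ∧ ∀ a ∈ T, a v = 0 := by
  classical
  induction T using Finset.induction_on with
  | empty =>
    obtain ⟨v, hv⟩ := exists_ne (0 : V)
    exact ⟨v, hv, by simp⟩
  | insert a T ha ih =>
    obtain ⟨v, hv, hTv⟩ := ih (fun a ha b hb => hcomm a (Finset.mem_insert_of_mem ha) b
      (Finset.mem_insert_of_mem hb)) (fun a ha => hnil a (Finset.mem_insert_of_mem ha))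
    obtain ⟨n, hn⟩ := hnil a (Finset.mem_insert_self a T)
    have hex : ∃ k, (a ^ k) v = 0 := ⟨n, by rw [hn]; rfl⟩
    have h1 := Nat.find_spec hex
    have h0 : Nat.find hex ≠ 0 := by
      intro h0
      rw [h0, pow_zero] at h1
      exact hv h1
    obtain ⟨k, hk⟩ := Nat.exists_eq_succ_of_ne_zero h0
    refine ⟨(a ^ k) v, Nat.find_min hex (by omega), fun b hb => ?_⟩
    rcases Finset.mem_insert.mp hb with rfl | hb
    · rw [hk, pow_succ'] at h1
      exact h1
    · have h2 : Commute b (a ^ k) :=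
        Commute.pow_right (hcomm b (Finset.mem_insert_of_mem hb) a (Finset.mem_insert_self a T)) k
      have h3 : (b * a ^ k) v = (a ^ k * b) v := by rw [h2.eq]
      change (b * a ^ k) v = 0
      rw [h3]
      change (a ^ k) (b v) = 0
      rw [hTv b hb, map_zero]

/-- **A commutative ring normalised by a primitive group is a field.** -/
theorem field_of_prim [Nontrivial V] {G : Subgroup (AU V)} (hirr : Irr G) (hprim : Prim G)
    (R : Subring (AddMonoid.End V)) (hcomm : ∀ a ∈ R, ∀ b ∈ R, a * b = b * a)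
    (hG : ∀ g ∈ G, ∀ a ∈ R, cj g a ∈ R) {a : AddMonoid.End V} (ha : a ∈ R) (ha0 : a ≠ 0) :
    ∃ n : ℕ, 0 < n ∧ a ^ n = 1 := by
  classical
  have hfe : Finite (AddMonoid.End V) := finite_end
  obtain ⟨n, hn, hid⟩ := exists_pow_idem a
  have haR : a ^ n ∈ R := R.pow_mem ha n
  by_cases h0 : a ^ n = 0
  · -- `a` is nilpotent
    exfalso
    have hfin : {b | b ∈ R ∧ ∃ n, b ^ n = 0}.Finite := Set.toFinite _
    let T := hfin.toFinset
    have hT : ∀ b, b ∈ T ↔ b ∈ R ∧ ∃ n, b ^ n = 0 := fun b => hfin.mem_toFinset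
    obtain ⟨v, hv, hTv⟩ := common_kernel T
      (fun b hb c hc => hcomm b ((hT b).mp hb).1 c ((hT c).mp hc).1)
      (fun b hb => ((hT b).mp hb).2)
    let U : AddSubgroup V :=
      { carrier := {x | ∀ b ∈ T, b x = 0}
        zero_mem' := fun b _ => map_zero b
        add_mem' := fun {x y} hx hy b hb => by rw [map_add, hx b hb, hy b hb, add_zero]
        neg_mem' := fun {x} hx b hb => by rw [map_neg, hx b hb, neg_zero] }
    have hU : ∀ g ∈ G, ∀ u ∈ U, g.1 u ∈ U := by
      intro g hg u hu b hb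
      obtain ⟨hbR, m, hm⟩ := (hT b).mp hb
      have h1 : cj g⁻¹ b ∈ T := by
        refine (hT _).mpr ⟨hG _ (G.inv_mem hg) b hbR, m, ?_⟩
        have h2 : (cjHom g⁻¹ b) ^ m = cjHom g⁻¹ (b ^ m) := (map_pow (cjHom g⁻¹) b m).symm
        change (cjHom g⁻¹ b) ^ m = 0
        rw [h2, hm, map_zero]
      have h2 := hu _ h1
      have h3 := cj_apply' g (cj g⁻¹ b) u
      rw [cj_cj_inv, h2, map_zero] at h3
      exact h3
    have haT : a ∈ T := (hT a).mpr ⟨ha, n, h0⟩
    rcases hirr U hU with h | h
    · have : v ∈ U := hTv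
      rw [h, AddSubgroup.mem_bot] at this
      exact hv this
    · apply ha0
      apply AddMonoidHom.ext
      intro x
      have hx : x ∈ U := by rw [h]; trivial
      exact hx a haT
  · exact ⟨n, hn, idem_trivial hirr hprim R hcomm hG haR hid h0⟩

end Cfsg.Agent.H578
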