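import Cfsg.Agent.H578.OddIV

/-!
# Primitive coprime linear groups, `E / K` not a 2-group: the result (helper578)
-/

set_option autoImplicit false
set_option linter.unusedSectionVars false

universe u

namespace Cfsg.Agent.H578

variable {V : Type u} [AddCommGroup V]

theorem orbit_sum_fix {t : AU V} {r : ℕ} (ht : t ^ r = 1) (u : V) :
    t.1 (∑ j ∈ Finset.range r, (t ^ j).1 u) = ∑ j ∈ Finset.range r, (t ^ j).1 u := by
  rw [map_sum]
  have h1 := Finset.sum_range_succ (fun i => (t ^ i).1 u) r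
  have h2 := Finset.sum_range_succ' (fun i => (t ^ i).1 u) r
  rw [h2] at h1
  have h3 : (t ^ 0).1 u = (t ^ r).1 u := by rw [ht, pow_zero]
  rw [h3] at h1
  have h4 := add_right_cancel h1
  rw [← h4]
  refine Finset.sum_congr rfl fun i _ => ?_
  rw [pow_succ', au_mul_apply]

namespace Dat

variable {G : Subgroup (AU V)} {D : Dat G}

variable (D) in
/-- `u` is an eigenvector of `t` -/
def Eig (t : AU V) (u : V) : Prop := ∃ κ : AU V, κ.1 ∈ D.K ∧ t.1 u = κ.1 u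

theorem Eig.of_fix {x t : AU V} (hx : x ∈ D.E) (ht : t ∈ D.E) {c d : V} (hc : t.1 c = c)
    (hcd : x.1 c = d) : D.Eig t d := by
  refine ⟨cm t x, cm_K ht hx, ?_⟩
  rw [← hcd, ← au_mul_apply, cm_mul, au_mul_apply, au_mul_apply, hc]

variable [Nontrivial V] [Finite V]

namespace OS

variable {r : ℕ} {v₀ : V} {z f : AU V} (h : D.OS r v₀ z f)
include h

theorem not_eig {u : ℕ → V} (hu : ∀ j < r, z.1 (u j) = (cm z f ^ j).1 (u j)) (h0 : u 0 ≠ 0)
    (h1 : u 1 ≠ 0) : ¬ D.Eig z (∑ j ∈ Finset.range r, u j) := by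
  rintro ⟨κ, hκ, e⟩
  rw [map_sum, map_sum] at e
  have key := h.comps (u := fun j => z.1 (u j)) (u' := fun j => κ.1 (u j))
    (fun j hj => by
      rw [hu j hj, h.zK _ (D.isF.units.pow_mem (x := cm z f) h.wK j), hu j hj])
    (fun j hj => by
      rw [h.zK _ hκ, hu j hj]
      exact DFunLike.congr_fun (D.isF.comm _ hκ _
        (D.isF.units.pow_mem (x := cm z f) h.wK j)) (u j)) e
  have k0 := key 0 h.hr.pos
  have k1 := key 1 h.hr.one_lt
  rw [hu 0 h.hr.pos, pow_zero] at k0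
  rw [hu 1 h.hr.one_lt, pow_one] at k1
  have e0 : (1 : AU V) = κ := Units.ext (D.isF.eq_of_apply D.K.one_mem hκ h0 k0)
  have e1 : cm z f = κ := Units.ext (D.isF.eq_of_apply h.wK hκ h1 k1)
  exact h.zf (e1.trans e0.symm)

theorem not_eig_v₀ {t : AU V} (ht : t ∈ D.E) (htz : cm z t = cm z f) : ¬ D.Eig t v₀ := by
  rintro ⟨κ, hκ, e⟩
  have e1 := h.z_apply₀ ht
  rw [htz, e, h.zK _ hκ, h.zv] at e1
  exact h.zf (eq_one_of_fix (fun h0 => h.mx.ne (au_injective κ (by rw [h0, map_zero]))) h.wK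
    e1.symm)

theorem not_eig_v {t : AU V} (ht : t ∈ D.E) (htz : cm z t = cm z f) :
    ¬ D.Eig t (v₀ + f.1 v₀) := by
  rintro ⟨κ, hκ, e⟩
  rw [map_add, map_add] at e
  have hz0 : ∀ j : ℕ, z.1 (0 : V) = (cm z f ^ j).1 0 := fun j => by rw [map_zero, map_zero]
  have e1 := h.z_apply₀ ht
  have e2 := h.z_apply ht h.wK (h.z_apply₀ h.hf)
  rw [htz] at e1 e2
  have key := h.comps3 (e₁ := 1) (e₂ := 2) (e₃ := 0) (e₁' := 0) (e₂' := 1) (e₃' := 1)
    h.hr.one_lt h.two_lt h.hr.pos h.hr.pos h.hr.one_lt h.hr.one_lt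
    (A := t.1 v₀) (B := t.1 (f.1 v₀)) (C := 0) (A' := κ.1 v₀) (B' := κ.1 (f.1 v₀)) (C' := 0)
    (by rw [pow_one]; exact e1) (by rw [pow_two]; exact e2) (hz0 0)
    (by rw [h.zK _ hκ, h.zv, pow_zero]; rfl)
    (by
      rw [h.zK _ hκ, h.z_apply₀ h.hf, pow_one]
      exact DFunLike.congr_fun (D.isF.comm _ hκ _ h.wK) _)
    (hz0 1) (by rw [e]) 0 h.hr.pos
  norm_num at key
  exact h.mx.ne (au_injective κ (by rw [map_zero]; exact key.symm))

/-- **the result in the odd case** -/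
theorem base2 {i : AU V} (hF : D.IsFrame v₀ i) : HasBase (Fin 2) G := by
  obtain ⟨θ, hθ, hgen⟩ := D.isF.gen
  have hfne : ∀ {x : AU V} {u : V}, u ≠ 0 → x.1 u ≠ 0 := fun {x u} hu h0 =>
    hu (au_injective x (by rw [h0, map_zero]))
  have hfzE : f * z ∈ D.E := D.E.mul_mem h.hf h.hz
  have hcfz : cm z (f * z) = cm z f := by
    rw [cm_mul_right h.hz h.hf h.hz]
    have : cm z z = 1 := by unfold cm; group
    rw [this, mul_one]
  have hfzr : (f * z) ^ r = 1 := mul_pow_odd h.hf h.hz h.odd h.fr h.zr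
  have hfzQ : f * z ∈ D.Q (v₀ + f.1 v₀) := (D.Q _).mul_mem h.f_Q h.z_Q
  have hv₀V := h.v₀_V0
  have hsumV : ∀ t ∈ D.Q (v₀ + f.1 v₀),
      ∑ j ∈ Finset.range r, (t ^ j).1 v₀ ∈ D.V0 (v₀ + f.1 v₀) := fun t ht =>
    (D.V0 _).sum_mem fun j _ => D.Q_V0 ((D.Q _).pow_mem ht j) hv₀V
  have hsumz : ∀ t ∈ D.E, cm z t = cm z f → ∀ j < r,
      z.1 ((t ^ j).1 v₀) = (cm z f ^ j).1 ((t ^ j).1 v₀) := by
    intro t ht htz j _
    rw [h.z_apply₀ (D.E.pow_mem ht j), cm_pow_right h.hz ht, htz]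
  have hsum_ne : ∀ t ∈ D.E, cm z t = cm z f → ¬ D.Eig z (∑ j ∈ Finset.range r, (t ^ j).1 v₀) :=
    fun t ht htz => h.not_eig (u := fun j => (t ^ j).1 v₀) (hsumz t ht htz)
      (hfne h.mx.ne) (hfne h.mx.ne)
  have hEz : ∀ u : V, u = 0 → D.Eig z u := by
    rintro u rfl
    exact ⟨1, D.K.one_mem, by rw [map_zero, map_zero]⟩
  -- `v` is not an eigenvector of `z`
  have hvz : ¬ D.Eig z (v₀ + f.1 v₀) := by
    have h1 := h.not_eig (u := fun j => (if j = 0 then v₀ else 0) + (if j = 1 then f.1 v₀ else 0))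
      (fun j _ => by
        rw [map_add, map_add]
        congr 1
        · by_cases hj : j = 0
          · rw [if_pos hj, hj, h.zv, pow_zero]; rfl
          · rw [if_neg hj, map_zero, map_zero]
        · by_cases hj : j = 1
          · rw [if_pos hj, hj, pow_one]; exact h.z_apply₀ h.hf
          · rw [if_neg hj, map_zero, map_zero])
      (by norm_num; exact h.mx.ne) (by norm_num; exact hfne h.mx.ne)
    simp only [Finset.sum_add_distrib, Finset.sum_ite_eq', Finset.mem_range, h.hr.pos,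
      h.hr.one_lt, if_true] at h1
    exact h1
  obtain ⟨b₂, hb₂⟩ : ∃ b, b = ∑ j ∈ Finset.range r, (f ^ j).1 v₀ := ⟨_, rfl⟩
  obtain ⟨b₃, hb₃⟩ : ∃ b, b = ∑ j ∈ Finset.range r, ((f * z) ^ j).1 v₀ := ⟨_, rfl⟩
  have hfb₂ : f.1 b₂ = b₂ := by rw [hb₂]; exact orbit_sum_fix h.fr v₀
  have hfb₃ : (f * z).1 b₃ = b₃ := by rw [hb₃]; exact orbit_sum_fix hfzr v₀
  have hz₂ : ¬ D.Eig z b₂ := by rw [hb₂]; exact hsum_ne f h.hf rfl
  have hz₃ : ¬ D.Eig z b₃ := by rw [hb₃]; exact hsum_ne _ hfzE hcfz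
  have h32 : ¬ D.Eig (f * z) b₂ := by
    rintro ⟨κ, hκ, e⟩
    apply hz₂
    refine ⟨cm z f * κ, D.K.mul_mem h.wK hκ, ?_⟩
    have e1 : z.1 (f.1 b₂) = (cm z f).1 ((f * z).1 b₂) := by
      rw [← au_mul_apply, ← au_mul_apply, ← cm_mul]
    rw [hfb₂, e] at e1
    rw [e1, au_mul_apply]
  have h23 : ¬ D.Eig f b₃ := by
    rintro ⟨κ, hκ, e⟩
    apply hz₃
    refine ⟨κ⁻¹, D.isF.units.inv_mem (x := κ) hκ, ?_⟩
    apply au_injective f
    rw [← au_mul_apply f z, hfb₃, D.EK' h.hf (D.isF.units.inv_mem (x := κ) hκ), e, au_inv_apply]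
  obtain ⟨t, ht⟩ : ∃ t : Fin 4 → AU V, t = ![1, z, f, f * z] := ⟨_, rfl⟩
  obtain ⟨b, hb⟩ : ∃ b : Fin 4 → V, b = ![v₀ + f.1 v₀, v₀, b₂, b₃] := ⟨_, rfl⟩
  have tE : ∀ c, t c ∈ D.E := by
    intro c; rw [ht]; fin_cases c
    · exact D.E.one_mem
    · exact h.hz
    · exact h.hf
    · exact hfzE
  have tfix : ∀ c, (t c).1 (b c) = b c := by
    intro c; rw [ht, hb]; fin_cases c
    · rfl
    · exact h.zv
    · exact hfb₂
    · exact hfb₃
  have tne : ∀ c d, c ≠ 0 → c ≠ d → ¬ D.Eig (t c) (b d) := by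
    intro c d hc hcd
    rw [ht, hb]
    fin_cases c <;> fin_cases d <;>
      first
        | exact absurd rfl hc
        | exact absurd rfl hcd
        | exact hvz
        | exact hz₂
        | exact hz₃
        | exact h.not_eig_v h.hf rfl
        | exact h.not_eig_v₀ h.hf rfl
        | exact h23
        | exact h.not_eig_v hfzE hcfz
        | exact h.not_eig_v₀ hfzE hcfz
        | exact h32
  have hw₀V : θ.1 v₀ + f.1 (i.1 v₀) + f.1 (f.1 v₀) ∈ D.V0 (v₀ + f.1 v₀) := by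
    refine (D.V0 _).add_mem ((D.V0 _).add_mem ?_ ?_) ?_
    · exact D.K_V0 hθ hv₀V
    · exact D.Q_V0 h.f_Q (h.V0_le (D.Q_V0 hF.iQ (D.self_mem_V0 v₀)))
    · exact D.Q_V0 h.f_Q (D.Q_V0 h.f_Q hv₀V)
  have hall := fun (g : AU V) (hg : g ∈ G) (hgv : g.1 (v₀ + f.1 v₀) = v₀ + f.1 v₀)
    (hgw : g.1 (θ.1 v₀ + f.1 (i.1 v₀) + f.1 (f.1 v₀)) =
      θ.1 v₀ + f.1 (i.1 v₀) + f.1 (f.1 v₀)) => h.fix_all hg hgv hF hθ hgen hgw
  refine pf h.vne hw₀V (fun g hg hgv hgw => ?_) b ?_ ?_ ?_ ?_ ?_ ?_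
  · obtain ⟨h1, h2⟩ := hall g hg hgv hgw
    refine ⟨h1, fun x hx => ?_⟩
    rw [map_add, map_add, h2 x hx, ← au_mul_apply x f, h2 _ ((D.Q _).mul_mem hx h.f_Q)]
  · intro c; rw [hb]; fin_cases c
    · exact D.self_mem_V0 _
    · exact hv₀V
    · change b₂ ∈ _; rw [hb₂]; exact hsumV f h.f_Q
    · change b₃ ∈ _; rw [hb₃]; exact hsumV _ hfzQ
  · intro c; rw [hb]; fin_cases c
    · exact h.vne
    · exact h.mx.ne
    · exact fun h0 => hz₂ (hEz _ h0)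
    · exact fun h0 => hz₃ (hEz _ h0)
  · intro g hg hgv hgw c
    obtain ⟨h1, h2⟩ := hall g hg hgv hgw
    have h3 : ∀ x ∈ D.Q (v₀ + f.1 v₀), g.1 (∑ j ∈ Finset.range r, (x ^ j).1 v₀) =
        ∑ j ∈ Finset.range r, (x ^ j).1 v₀ := by
      intro x hx
      rw [map_sum]
      exact Finset.sum_congr rfl fun j _ => h2 _ ((D.Q _).pow_mem hx j)
    rw [hb]; fin_cases c
    · exact hgv
    · exact h2 1 (D.Q _).one_mem
    · change g.1 b₂ = b₂; rw [hb₂]; exact h3 f h.f_Q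
    · change g.1 b₃ = b₃; rw [hb₃]; exact h3 _ hfzQ
  · intro x hx c d hxcd
    by_contra hcd
    by_cases hc : c = 0
    · have hd : d ≠ 0 := fun h => hcd (hc.trans h.symm)
      apply tne d c hd (Ne.symm hcd)
      apply Eig.of_fix (D.E.inv_mem hx.1) (tE d) (tfix d)
      apply au_injective x
      rw [au_apply_inv, hxcd]
    · exact tne c d hc hcd (Eig.of_fix hx.1 (tE c) (tfix c) hxcd)
  · intro x hx hxv
    rw [hb] at hxv
    exact ⟨hx.1, 1, D.K.one_mem, hxv⟩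
  · intro x hx k l hk hl h1 h2
    rw [hb] at h1 h2
    change x.1 v₀ = k.1 v₀ at h1
    change x.1 b₂ = l.1 b₂ at h2
    have hki : (k⁻¹).1 ∈ D.K := D.isF.units.inv_mem (x := k) hk
    obtain ⟨m, y, hy, hxy, hyv, hyf⟩ := h.dec (a := k⁻¹ * x) (D.E.mul_mem (D.KE _ hki) hx.1)
      (by rw [au_mul_apply, h1, au_inv_apply])
    have hyv' := h.fix_v hyv hyf
    have hyV : ∀ u ∈ D.V0 (v₀ + f.1 v₀), y.1 u = u := fun u hu => hu y hy hyv'
    have hb₂V : b₂ ∈ D.V0 (v₀ + f.1 v₀) := by rw [hb₂]; exact hsumV f h.f_Q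
    have e1 : (k⁻¹ * x).1 b₂ = (z ^ m).1 b₂ := by rw [hxy, au_mul_apply, hyV _ hb₂V]
    rw [au_mul_apply, h2, ← au_mul_apply k⁻¹ l] at e1
    -- components
    rw [hb₂, map_sum, map_sum] at e1
    have hzm : ∀ j : ℕ, (z ^ m).1 ((f ^ j).1 v₀) = ((cm z f ^ j) ^ m).1 ((f ^ j).1 v₀) := by
      intro j
      refine pow_eig h.hz (D.isF.units.pow_mem (x := cm z f) h.wK j) ?_ m
      have := h.z_apply₀ (D.E.pow_mem h.hf j)
      rwa [h.cm_fpow] at this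
    have hklK : (k⁻¹ * l).1 ∈ D.K := D.K.mul_mem hki hl
    have key := h.comps (u := fun j => (k⁻¹ * l).1 ((f ^ j).1 v₀))
      (u' := fun j => (z ^ m).1 ((f ^ j).1 v₀))
      (fun j _ => by
        change z.1 ((k⁻¹ * l).1 ((f ^ j).1 v₀)) = (cm z f ^ j).1 ((k⁻¹ * l).1 ((f ^ j).1 v₀))
        rw [h.zK _ hklK, h.z_apply₀ (D.E.pow_mem h.hf j), h.cm_fpow]
        exact DFunLike.congr_fun (D.isF.comm _ hklK _
          (D.isF.units.pow_mem (x := cm z f) h.wK j)) _)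
      (fun j _ => by
        change z.1 ((z ^ m).1 ((f ^ j).1 v₀)) = (cm z f ^ j).1 ((z ^ m).1 ((f ^ j).1 v₀))
        have hK1 := D.isF.units.pow_mem (x := cm z f) h.wK j
        rw [hzm, h.zK _ (D.isF.units.pow_mem hK1 m), h.z_apply₀ (D.E.pow_mem h.hf j), h.cm_fpow]
        exact DFunLike.congr_fun (D.isF.comm _ (D.isF.units.pow_mem hK1 m) _ hK1) _) e1
    have k0 := key 0 h.hr.pos
    have k1 := key 1 h.hr.one_lt
    rw [hzm, pow_zero, pow_zero, one_pow] at k0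
    rw [hzm, pow_one, pow_one] at k1
    have a0 : k⁻¹ * l = 1 := Units.ext (D.isF.eq_of_apply hklK D.K.one_mem h.mx.ne k0)
    have a1 : k⁻¹ * l = cm z f ^ m := Units.ext (D.isF.eq_of_apply hklK
      (D.isF.units.pow_mem (x := cm z f) h.wK m) (hfne h.mx.ne) k1)
    rw [a0] at a1
    have hrm : r ∣ m := by
      have hrf : Fact r.Prime := ⟨h.hr⟩
      have h3 : orderOf (cm z f) = r := orderOf_eq_prime h.wr h.zf
      rw [← h3]
      exact orderOf_dvd_of_pow_eq_one a1.symm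
    obtain ⟨m', rfl⟩ := hrm
    rw [pow_mul, h.zr, one_pow, one_mul] at hxy
    refine ⟨hx.1, k, hk, ?_⟩
    have : x = k * y := by rw [← hxy]; group
    rw [this, au_mul_apply, hyv']

end OS

/-- **Case I** -/
theorem prim2_odd (hx : ∃ x ∈ D.E, (x ^ 2).1 ∉ D.K) (htwo : (1 : AU V) ≠ -1) :
    HasBase (Fin 2) G := by
  obtain ⟨v₀, i, hF⟩ := D.exists_frame
  obtain ⟨x, hxE, hx2⟩ := hx
  obtain ⟨r, hr, hr2, z, hz, f, hf, hzv, hzr, hfr, hzf⟩ := exists_zf hF.toIsMax hxE hx2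
  exact OS.base2 ⟨hr, hr2, hF.toIsMax, hz, hf, hzv, hzr, hfr, hzf, htwo⟩ hF

end Dat

end Cfsg.Agent.H578
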