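import Cfsg.Agent.H578.TwoA
import Cfsg.Agent.H578.OddV

/-!
# `E / K` a 2-group: planes over the field (helper578)
-/

set_option autoImplicit false
set_option linter.unusedSectionVars false

universe u

namespace Cfsg.Agent.H578

variable {V : Type u} [AddCommGroup V]

/-- the characteristic of a small field -/
theorem IsF.char_of_order [Nontrivial V] [Finite V] {K : Subring (AddMonoid.End V)} (h : IsF K)
    {θ : AU V} (hθ : θ.1 ∈ K) (hgen : ∀ k : AU V, k.1 ∈ K → ∃ n : ℕ, k = θ ^ n) :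
    ((orderOf θ + 1 : ℕ) : AddMonoid.End V) = 0 := by
  have hfe : Finite (AddMonoid.End V) := finite_end
  have h1 : (K : Set (AddMonoid.End V)) = insert 0 (Units.val '' (Subgroup.zpowers θ : Set (AU V))) := by
    ext a
    constructor
    · intro ha
      by_cases h0 : a = 0
      · left; exact h0
      · right
        obtain ⟨k, hk⟩ := h.exists_unit ha h0
        refine ⟨k, ?_, hk⟩
        obtain ⟨n, rfl⟩ := hgen k (by rw [show k.1 = a from hk]; exact ha)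
        exact ⟨n, zpow_natCast _ _⟩
    · rintro (rfl | ⟨k, ⟨n, hn⟩, rfl⟩)
      · exact K.zero_mem
      · have h2 : θ ^ n ∈ h.units := h.units.zpow_mem hθ n
        have h3 : k ∈ h.units := by rw [← hn]; exact h2
        exact h3
  have h2 : Nat.card K = orderOf θ + 1 := by
    have h3 : (K : Set (AddMonoid.End V)).ncard = orderOf θ + 1 := by
      rw [h1, Set.ncard_insert_of_notMem ?_ (Set.toFinite _),
        Set.ncard_image_of_injective _ (fun a b hab => Units.ext hab)]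
      · congr 1
        exact Nat.card_zpowers θ
      · rintro ⟨k, -, hk⟩
        exact IsF.ne_zero_au k hk
    exact h3
  have h3 : Nat.card K • (1 : K) = 0 := card_nsmul_eq_zero'
  have h4 : ((orderOf θ + 1 : ℕ) : K) = 0 := by rw [← nsmul_one, ← h2]; exact h3
  have h5 := congrArg Subtype.val h4
  exact h5

namespace Dat

variable {G : Subgroup (AU V)} {D : Dat G}

/-- the setup for a plane -/
structure TS (D : Dat G) [Nontrivial V] (v₀ : V) (z f c : AU V) : Prop where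
  mx : D.IsMax v₀
  QB : D.Q v₀ ≤ D.B v₀
  hz : z ∈ D.E
  hf : f ∈ D.E
  zv : z.1 v₀ = v₀
  zz : z * z = 1
  ff : f * f = 1
  zf : z * f = -(f * z)
  hc : c.1 ∈ D.K
  c4 : c ^ 4 ≠ 1
  two : (1 : AU V) ≠ -1
  E2 : ∀ x ∈ D.E, (x ^ 2).1 ∈ D.K

/-- no 2-torsion -/
theorem two_tors (D : Dat G) [Nontrivial V] (htwo : (1 : AU V) ≠ -1) {x : V} (hx : x = -x) : x = 0 := by
  by_contra h0
  apply htwo
  exact Units.ext (D.isF.eq_of_apply D.K.one_mem (D.K.neg_mem D.K.one_mem) h0 hx)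

variable [Nontrivial V] [Finite V]

namespace TS

variable {v₀ : V} {z f c : AU V} (h : D.TS v₀ z f c)
include h

theorem zK : ∀ a ∈ D.K, ∀ x, z.1 (a x) = a (z.1 x) := fun _ ha x => D.EK' h.hz ha x

theorem fK : ∀ a ∈ D.K, ∀ x, f.1 (a x) = a (f.1 x) := fun _ ha x => D.EK' h.hf ha x

theorem cK : ∀ a ∈ D.K, ∀ x, c.1 (a x) = a (c.1 x) := fun a ha x =>
  DFunLike.congr_fun (D.isF.comm _ h.hc _ ha) x

theorem comp2 {A B A' B' : V} (h1 : z.1 A = A) (h2 : z.1 B = -B) (h3 : z.1 A' = A')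
    (h4 : z.1 B' = -B') (h5 : A + B = A' + B') : A = A' ∧ B = B' := by
  have h6 : A - B = A' - B' := by
    have := congrArg z.1 h5
    rw [map_add, map_add, h1, h2, h3, h4, ← sub_eq_add_neg, ← sub_eq_add_neg] at this
    exact this
  have h7 : A = A' := by
    apply sub_eq_zero.mp
    apply D.two_tors h.two
    have e1 : A - A' = B' - B := by
      rw [sub_eq_sub_iff_add_eq_add, h5, add_comm]
    have e2 : A - A' = B - B' := by
      rw [sub_eq_sub_iff_add_eq_add, add_comm B A', ← sub_eq_sub_iff_add_eq_add]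
      exact h6
    calc A - A' = B' - B := e1
      _ = -(B - B') := by abel
      _ = -(A - A') := by rw [e2]
  refine ⟨h7, ?_⟩
  rw [h7] at h5
  exact add_left_cancel h5

theorem zfv : z.1 (f.1 v₀) = -(f.1 v₀) := by
  rw [← au_mul_apply, h.zf, au_neg_apply, au_mul_apply, h.zv]

theorem ffv : f.1 (f.1 v₀) = v₀ := by rw [← au_mul_apply, h.ff]; rfl

theorem nz {x : AU V} {u : V} (hu : u ≠ 0) : x.1 u ≠ 0 := fun h0 =>
  hu (au_injective x (by rw [h0, map_zero]))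

/-- independence -/
theorem pl_inj {a b a' b' : AddMonoid.End V} (ha : a ∈ D.K) (hb : b ∈ D.K) (ha' : a' ∈ D.K)
    (hb' : b' ∈ D.K) (e : a v₀ + b (f.1 v₀) = a' v₀ + b' (f.1 v₀)) : a = a' ∧ b = b' := by
  obtain ⟨h1, h2⟩ := h.comp2 (A := a v₀) (B := b (f.1 v₀)) (A' := a' v₀) (B' := b' (f.1 v₀))
    (by rw [h.zK a ha, h.zv]) (by rw [h.zK b hb, h.zfv, map_neg])
    (by rw [h.zK a' ha', h.zv]) (by rw [h.zK b' hb', h.zfv, map_neg]) e
  exact ⟨D.isF.eq_of_apply ha ha' h.mx.ne h1, D.isF.eq_of_apply hb hb' (h.nz h.mx.ne) h2⟩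

/-- the vector -/
theorem vne : v₀ + c.1 (f.1 v₀) ≠ 0 := by
  intro h0
  have h1 := h.pl_inj (a := 1) (b := c.1) (a' := 0) (b' := 0) D.K.one_mem h.hc D.K.zero_mem
    D.K.zero_mem (by
      have : (0 : AddMonoid.End V) v₀ + (0 : AddMonoid.End V) (f.1 v₀) = 0 := add_zero _
      rw [this]; exact h0)
  exact IsF.ne_zero_au (1 : AU V) h1.1

theorem cm_fix {a b : AU V} (ha : a ∈ D.E) (hb : b ∈ D.E) (hav : a.1 v₀ = v₀)
    (hbv : b.1 v₀ = v₀) : cm a b = 1 := by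
  apply eq_one_of_fix h.mx.ne (cm_K ha hb)
  have h1 : (b⁻¹).1 v₀ = v₀ := by apply au_injective b; rw [au_apply_inv, hbv]
  have h2 : (a⁻¹).1 v₀ = v₀ := by apply au_injective a; rw [au_apply_inv, hav]
  unfold cm
  rw [au_mul_apply, au_mul_apply, au_mul_apply, h1, h2, hbv, hav]

/-- the stabiliser of the vector -/
theorem stab_v {x : AU V} (hx : x ∈ D.E) (hxv : x.1 (v₀ + c.1 (f.1 v₀)) = v₀ + c.1 (f.1 v₀)) :
    x.1 v₀ = v₀ ∧ x * f = f * x := by
  rw [map_add, D.EK' hx h.hc] at hxv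
  rcases mul_pm h.E2 hx h.hz with hxz | hxz
  · have e1 : z.1 (x.1 v₀) = x.1 v₀ := by
      rw [← au_mul_apply, ← hxz, au_mul_apply, h.zv]
    have e2 : z.1 (c.1 (x.1 (f.1 v₀))) = -(c.1 (x.1 (f.1 v₀))) := by
      rw [h.zK _ h.hc, ← au_mul_apply z x, ← hxz, au_mul_apply, h.zfv, map_neg, map_neg]
    have e3 : z.1 (c.1 (f.1 v₀)) = -(c.1 (f.1 v₀)) := by
      rw [h.zK _ h.hc, h.zfv, map_neg]
    obtain ⟨h1, h2⟩ := h.comp2 e1 e2 h.zv e3 hxv
    refine ⟨h1, ?_⟩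
    have h3 := au_injective c h2
    rcases mul_pm h.E2 hx h.hf with h4 | h4
    · exact h4
    · exfalso
      rw [← au_mul_apply, h4, au_neg_apply, au_mul_apply, h1] at h3
      exact h.nz h.mx.ne (D.two_tors h.two h3.symm)
  · exfalso
    have hzx : z * x = -(x * z) := by rw [hxz, neg_neg]
    have e1 : z.1 (x.1 v₀) = -(x.1 v₀) := by
      rw [← au_mul_apply, hzx, au_neg_apply, au_mul_apply, h.zv]
    have e2 : z.1 (c.1 (x.1 (f.1 v₀))) = c.1 (x.1 (f.1 v₀)) := by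
      rw [h.zK _ h.hc, ← au_mul_apply z x, hzx, au_neg_apply, au_mul_apply, h.zfv, map_neg x.1,
        neg_neg]
    have e3 : z.1 (c.1 (f.1 v₀)) = -(c.1 (f.1 v₀)) := by
      rw [h.zK _ h.hc, h.zfv, map_neg]
    obtain ⟨h1, h2⟩ := h.comp2 e2 e1 h.zv e3 (by rw [add_comm]; exact hxv)
    -- `x v₀ = c f v₀`, `c x f v₀ = v₀`
    have hcc : (c * c).1 ∈ D.K := D.K.mul_mem h.hc h.hc
    rcases mul_pm h.E2 hx h.hf with h4 | h4
    · rw [← au_mul_apply x f, h4, au_mul_apply, h2, h.fK _ h.hc, h.ffv, ← au_mul_apply] at h1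
      have h5 : c * c = 1 := eq_one_of_fix h.mx.ne hcc h1
      apply h.c4
      rw [show 4 = 2 + 2 from rfl, pow_add, pow_two, h5, one_mul]
    · rw [← au_mul_apply x f, h4, au_neg_apply, au_mul_apply, h2, h.fK _ h.hc, h.ffv, map_neg,
        ← au_mul_apply] at h1
      have h5 : c * c = -1 := by
        apply Units.ext
        apply D.isF.eq_of_apply hcc (D.K.neg_mem D.K.one_mem) h.mx.ne
        rw [← neg_neg ((c * c).1 v₀), h1]; rfl
      apply h.c4
      rw [show 4 = 2 + 2 from rfl, pow_add, pow_two, h5, neg_mul_neg, one_mul]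

/-- elements commuting with `f` and fixing `v₀` fix `v` -/
theorem fix_v {b : AU V} (hb : b ∈ D.E) (hbv : b.1 v₀ = v₀) (hbf : b * f = f * b) :
    b.1 (v₀ + c.1 (f.1 v₀)) = v₀ + c.1 (f.1 v₀) := by
  rw [map_add, D.EK' hb h.hc, ← au_mul_apply b f, hbf, au_mul_apply, hbv]

theorem f_Q : f ∈ D.Q (v₀ + c.1 (f.1 v₀)) :=
  ⟨h.hf, fun _ ha hav => (h.stab_v ha hav).2.symm⟩

theorem z_Q : z ∈ D.Q (v₀ + c.1 (f.1 v₀)) := by
  refine ⟨h.hz, fun a ha hav => ?_⟩
  exact cm_eq_one.mp (h.cm_fix h.hz ha h.zv (h.stab_v ha hav).1)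

theorem V0_le {u : V} (hu : u ∈ D.V0 v₀) : u ∈ D.V0 (v₀ + c.1 (f.1 v₀)) := fun a ha hav =>
  hu a ha (h.stab_v ha hav).1

theorem v₀_V0 : v₀ ∈ D.V0 (v₀ + c.1 (f.1 v₀)) := h.V0_le (D.self_mem_V0 v₀)

/-- membership in `Q v₀` -/
theorem mem_Q₀ {y : AU V} (hy : y ∈ D.E) (h1 : z * y = y * z)
    (h2 : ∀ b ∈ D.E, b.1 v₀ = v₀ → b * f = f * b → b * y = y * b) : y ∈ D.Q v₀ := by
  refine ⟨hy, fun a ha hav => ?_⟩
  rcases mul_pm h.E2 ha h.hf with h3 | h3
  · exact (h2 a ha hav h3).symm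
  · have h4 := h2 (z * a) (D.E.mul_mem h.hz ha) (by rw [au_mul_apply, hav, h.zv]) (by
      calc z * a * f = z * (a * f) := mul_assoc _ _ _
        _ = -((z * f) * a) := by rw [h3, mul_neg, mul_assoc]
        _ = f * z * a := by rw [h.zf, neg_mul, neg_neg]
        _ = _ := mul_assoc _ _ _)
    have hzz := h.zz
    calc y * a = y * (z * z) * a := by rw [hzz, mul_one]
      _ = (y * z) * (z * a) := by simp only [mul_assoc]
      _ = z * (y * (z * a)) := by rw [← h1, mul_assoc]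
      _ = z * ((z * a) * y) := by rw [h4]
      _ = (z * z) * (a * y) := by simp only [mul_assoc]
      _ = a * y := by rw [hzz, one_mul]

/-- the decomposition of the elements of `Q v` -/
theorem dec_Q {x : AU V} (hx : x ∈ D.Q (v₀ + c.1 (f.1 v₀))) :
    ∃ t, (t = 1 ∨ t = z ∨ t = f ∨ t = f * z) ∧ ∃ k : AU V, k.1 ∈ D.K ∧ ∃ b ∈ D.E,
      b.1 v₀ = v₀ ∧ b * f = f * b ∧ x = k * t * b := by
  -- reduce to elements commuting with `z`
  have key : ∀ y ∈ D.Q (v₀ + c.1 (f.1 v₀)), z * y = y * z →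
      ∃ t, (t = 1 ∨ t = z) ∧ ∃ k : AU V, k.1 ∈ D.K ∧ ∃ b ∈ D.E,
      b.1 v₀ = v₀ ∧ b * f = f * b ∧ y = k * t * b := by
    intro y hy hzy
    have h1 : y ∈ D.Q v₀ := by
      apply h.mem_Q₀ hy.1 hzy
      intro b hb hbv hbf
      exact (hy.2 b hb (h.fix_v hb hbv hbf)).symm
    obtain ⟨-, k, hk, hyk⟩ := h.QB h1
    have hki : (k⁻¹).1 ∈ D.K := D.isF.units.inv_mem (x := k) hk
    have hkE := D.KE _ hki
    have hfix : (k⁻¹ * y).1 v₀ = v₀ := by rw [au_mul_apply, hyk, au_inv_apply]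
    rcases mul_pm h.E2 (D.E.mul_mem hkE hy.1) h.hf with h2 | h2
    · exact ⟨1, Or.inl rfl, k, hk, k⁻¹ * y, D.E.mul_mem hkE hy.1, hfix, h2, by group⟩
    · refine ⟨z, Or.inr rfl, k, hk, z * (k⁻¹ * y), D.E.mul_mem h.hz (D.E.mul_mem hkE hy.1), ?_, ?_,
        ?_⟩
      · rw [au_mul_apply, hfix, h.zv]
      · calc z * (k⁻¹ * y) * f = z * ((k⁻¹ * y) * f) := mul_assoc _ _ _
          _ = -((z * f) * (k⁻¹ * y)) := by rw [h2, mul_neg]; simp only [mul_assoc]
          _ = _ := by rw [h.zf, neg_mul, neg_neg]; simp only [mul_assoc]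
      · calc y = k * 1 * (k⁻¹ * y) := by group
          _ = k * (z * z) * (k⁻¹ * y) := by rw [h.zz]
          _ = _ := by simp only [mul_assoc]
  rcases mul_pm h.E2 h.hz hx.1 with h1 | h1
  · obtain ⟨t, ht, k, hk, b, hb, h2, h3, h4⟩ := key x hx h1
    refine ⟨t, ?_, k, hk, b, hb, h2, h3, h4⟩
    rcases ht with rfl | rfl
    · left; rfl
    · right; left; rfl
  · have h2 : z * (f * x) = f * x * z := by
      calc z * (f * x) = (z * f) * x := by simp only [mul_assoc]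
        _ = -(f * (z * x)) := by rw [h.zf, neg_mul, mul_assoc]
        _ = _ := by rw [h1, mul_neg, neg_neg]; simp only [mul_assoc]
    obtain ⟨t, ht, k, hk, b, hb, h3, h4, h5⟩ := key (f * x) ((D.Q _).mul_mem h.f_Q hx) h2
    have h6 : x = k * (f * t) * b := by
      calc x = (f * f) * x := by rw [h.ff, one_mul]
        _ = f * (f * x) := by simp only [mul_assoc]
        _ = f * (k * t * b) := by rw [h5]
        _ = (f * k) * (t * b) := by simp only [mul_assoc]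
        _ = (k * f) * (t * b) := by rw [D.EKu h.hf hk]
        _ = _ := by simp only [mul_assoc]
    refine ⟨f * t, ?_, k, hk, b, hb, h3, h4, h6⟩
    rcases ht with rfl | rfl
    · right; right; left; exact mul_one f
    · right; right; right; rfl

/-- the classes -/
def RR (D : Dat G) (v₀ : V) (f t x : AU V) : Prop := ∃ k : AU V, k.1 ∈ D.K ∧ ∃ b ∈ D.E,
      b.1 v₀ = v₀ ∧ b * f = f * b ∧ x = k * t * b

theorem RR_conj {g : AU V} (hg : g ∈ G)
    (hgv : g.1 (v₀ + c.1 (f.1 v₀)) = v₀ + c.1 (f.1 v₀)) {t t' x : AU V} (h1 : RR D v₀ f t x)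
    (h2 : RR D v₀ f t' (g * t * g⁻¹)) : RR D v₀ f t' (g * x * g⁻¹) := by
  obtain ⟨k, hk, b, hb, hbv, hbf, rfl⟩ := h1
  obtain ⟨k', hk', b', hb', hbv', hbf', e⟩ := h2
  have hgb := D.GE g hg b hb
  have hgbv : (g * b * g⁻¹).1 (v₀ + c.1 (f.1 v₀)) = v₀ + c.1 (f.1 v₀) :=
    conj_fix hgv (h.fix_v hb hbv hbf)
  obtain ⟨h3, h4⟩ := h.stab_v hgb hgbv
  refine ⟨(g * k * g⁻¹) * k', D.K.mul_mem (D.GK g hg _ hk) hk', b' * (g * b * g⁻¹),
    D.E.mul_mem hb' hgb, ?_, ?_, ?_⟩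
  · rw [au_mul_apply, h3, hbv']
  · rw [mul_assoc, h4, ← mul_assoc, hbf', mul_assoc]
  · calc g * (k * t * b) * g⁻¹ = (g * k * g⁻¹) * (g * t * g⁻¹) * (g * b * g⁻¹) := by group
      _ = (g * k * g⁻¹) * (k' * t' * b') * (g * b * g⁻¹) := by rw [e]
      _ = _ := by simp only [mul_assoc]

theorem RR_mul {t t' x x' : AU V} (ht' : t' ∈ D.Q (v₀ + c.1 (f.1 v₀)))
    (h1 : RR D v₀ f t x) (h2 : RR D v₀ f t' x') (ht : t ∈ D.E) : RR D v₀ f (t * t') (x * x') := by
  obtain ⟨k, hk, b, hb, hbv, hbf, rfl⟩ := h1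
  obtain ⟨k', hk', b', hb', hbv', hbf', rfl⟩ := h2
  refine ⟨k * k', D.K.mul_mem hk hk', b * b', D.E.mul_mem hb hb', ?_, ?_, ?_⟩
  · rw [au_mul_apply, hbv', hbv]
  · rw [mul_assoc, hbf', ← mul_assoc, hbf, mul_assoc]
  · have e1 := ht'.2 b hb (h.fix_v hb hbv hbf)
    have e2 := D.EKu hb hk'
    have e3 := D.EKu ht hk'
    calc k * t * b * (k' * t' * b') = k * t * (b * k') * t' * b' := by simp only [mul_assoc]
      _ = k * (t * k') * (b * t') * b' := by rw [e2]; simp only [mul_assoc]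
      _ = _ := by rw [e3, ← e1]; simp only [mul_assoc]

theorem RR_neg {t x : AU V} (h1 : RR D v₀ f (-t) x) : RR D v₀ f t x := by
  obtain ⟨k, hk, b, hb, hbv, hbf, rfl⟩ := h1
  exact ⟨-k, D.K.neg_mem hk, b, hb, hbv, hbf, by rw [mul_neg, neg_mul, neg_mul, neg_mul]⟩

/-- a class which is anticommuting with `z` -/
theorem RR_anti {t x : AU V} (ht : t ∈ D.E) (htz : z * t = -(t * z)) (h1 : RR D v₀ f t x) :
    x ≠ z := by
  rintro rfl
  obtain ⟨k, hk, b, hb, hbv, hbf, e⟩ := h1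
  have e1 := cm_eq_one.mp (h.cm_fix h.hz hb h.zv hbv)
  have e2 := D.EKu h.hz hk
  have e3 : x * x = -(x * x) := by
    nth_rewrite 2 [e]
    calc x * (k * t * b) = (x * k) * t * b := by simp only [mul_assoc]
      _ = k * (x * t) * b := by rw [e2]; simp only [mul_assoc]
      _ = -(k * t * (x * b)) := by rw [htz, mul_neg, neg_mul]; simp only [mul_assoc]
      _ = -((k * t * b) * x) := by rw [e1]; simp only [mul_assoc]
      _ = -(x * x) := by rw [← e]
  rw [h.zz] at e3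
  exact h.two e3

/-- an element of order prime to 3 fixes one of the three classes -/
theorem fix_class {g : AU V} (hg : g ∈ G)
    (hgv : g.1 (v₀ + c.1 (f.1 v₀)) = v₀ + c.1 (f.1 v₀)) {N : ℕ} (hN : Nat.Coprime N 3)
    (hgN : g ^ N = 1) : ∃ t, (t = z ∨ t = f ∨ t = f * z) ∧ RR D v₀ f t (g * t * g⁻¹) := by
  have hfzQ := (D.Q (v₀ + c.1 (f.1 v₀))).mul_mem h.f_Q h.z_Q
  have hdec : ∀ x ∈ D.Q (v₀ + c.1 (f.1 v₀)), RR D v₀ f 1 x ∨ RR D v₀ f z x ∨ RR D v₀ f f x ∨
      RR D v₀ f (f * z) x := by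
    intro x hx
    obtain ⟨t, ht, h1⟩ := h.dec_Q hx
    rcases ht with rfl | rfl | rfl | rfl
    · exact Or.inl h1
    · exact Or.inr (Or.inl h1)
    · exact Or.inr (Or.inr (Or.inl h1))
    · exact Or.inr (Or.inr (Or.inr h1))
  -- the trivial class is preserved
  have hone : ∀ t ∈ D.E, RR D v₀ f 1 (g * t * g⁻¹) → RR D v₀ f 1 t := by
    rintro t ht ⟨k, hk, b, hb, hbv, hbf, e⟩
    have hki := D.GK g⁻¹ (G.inv_mem hg) _ hk
    have hgb := D.GE g⁻¹ (G.inv_mem hg) b hb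
    have hgbv : (g⁻¹ * b * (g⁻¹)⁻¹).1 (v₀ + c.1 (f.1 v₀)) = v₀ + c.1 (f.1 v₀) :=
      conj_fix (inv_fix hgv) (h.fix_v hb hbv hbf)
    obtain ⟨h3, h4⟩ := h.stab_v hgb hgbv
    refine ⟨g⁻¹ * k * (g⁻¹)⁻¹, hki, _, hgb, h3, h4, ?_⟩
    calc t = g⁻¹ * (g * t * g⁻¹) * g := by group
      _ = g⁻¹ * (k * 1 * b) * g := by rw [e]
      _ = _ := by group
  have hanti_f : z * f = -(f * z) := h.zf
  have hanti_fz : z * (f * z) = -(f * z * z) := by
    rw [← mul_assoc, h.zf, neg_mul]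
  have h1z : ¬ RR D v₀ f 1 z := by
    rintro ⟨k, hk, b, hb, hbv, hbf, e⟩
    have h2 : z * f = f * z := by
      rw [e, mul_one, mul_assoc, hbf, ← mul_assoc, ← D.EKu h.hf hk, mul_assoc]
    rw [h.zf] at h2
    have h3 : (f * z) * 1 = (f * z) * (-1) := by rw [mul_one, mul_neg_one]; exact h2.symm
    exact h.two (mul_left_cancel h3)
  have h1anti : ∀ t ∈ D.E, z * t = -(t * z) → ¬ RR D v₀ f 1 t := by
    rintro t ht htz ⟨k, hk, b, hb, hbv, hbf, e⟩
    have e1 := cm_eq_one.mp (h.cm_fix h.hz hb h.zv hbv)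
    have h2 : z * t = t * z := by
      rw [e, mul_one, mul_assoc, ← e1, ← mul_assoc, ← mul_assoc, D.EKu h.hz hk]
    rw [htz] at h2
    have h3 : (t * z) * 1 = (t * z) * (-1) := by rw [mul_one, mul_neg_one]; exact h2.symm
    exact h.two (mul_left_cancel h3)
  by_contra hcon
  push Not at hcon
  have cz := hcon z (Or.inl rfl)
  have cf := hcon f (Or.inr (Or.inl rfl))
  have cfz := hcon (f * z) (Or.inr (Or.inr rfl))
  -- the cyclic argument
  have cyc : ∀ t₁ t₂ : AU V, t₁ ∈ D.E → t₂ ∈ D.E → z * t₁ = -(t₁ * z) → z * t₂ = -(t₂ * z) →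
      RR D v₀ f t₁ (g * z * g⁻¹) → RR D v₀ f t₂ (g * t₁ * g⁻¹) →
      RR D v₀ f z (g * t₂ * g⁻¹) → False := by
    intro t₁ t₂ ht₁ ht₂ a₁ a₂ r₁ r₂ r₃
    have h1 : ∀ m : ℕ, RR D v₀ f z (g ^ (3 * m) * z * (g ^ (3 * m))⁻¹) := by
      intro m
      induction m with
      | zero => exact ⟨1, D.K.one_mem, 1, D.E.one_mem, rfl, by group, by group⟩
      | succ m ih =>
        have q1 := h.RR_conj hg hgv ih r₁
        have q2 := h.RR_conj hg hgv q1 r₂
        have q3 := h.RR_conj hg hgv q2 r₃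
        have e : g ^ (3 * (m + 1)) = g * g * g * g ^ (3 * m) := by
          rw [show 3 * (m + 1) = 3 * m + 1 + 1 + 1 by ring, pow_succ', pow_succ', pow_succ']
          simp only [mul_assoc]
        rw [e]
        have e' : g * g * g * g ^ (3 * m) * z * (g * g * g * g ^ (3 * m))⁻¹ =
            g * (g * (g * (g ^ (3 * m) * z * (g ^ (3 * m))⁻¹) * g⁻¹) * g⁻¹) * g⁻¹ := by group
        rw [e']
        exact q3
    have hNmod : N % 3 = 1 ∨ N % 3 = 2 := by
      have h2 : N % 3 ≠ 0 := by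
        intro h3
        have h4 : 3 ∣ N := Nat.dvd_of_mod_eq_zero h3
        have h5 := Nat.dvd_gcd h4 (dvd_refl 3)
        rw [hN] at h5
        omega
      omega
    have hdm := Nat.div_add_mod N 3
    rcases hNmod with h2 | h2
    · rw [h2] at hdm
      have q1 := h.RR_conj hg hgv (h1 (N / 3)) r₁
      have e' : g * (g ^ (3 * (N / 3)) * z * (g ^ (3 * (N / 3)))⁻¹) * g⁻¹ = z := by
        calc _ = (g * g ^ (3 * (N / 3))) * z * (g * g ^ (3 * (N / 3)))⁻¹ := by group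
          _ = z := by rw [← pow_succ', hdm, hgN]; group
      rw [e'] at q1
      exact h.RR_anti ht₁ a₁ q1 rfl
    · rw [h2] at hdm
      have q1 := h.RR_conj hg hgv (h.RR_conj hg hgv (h1 (N / 3)) r₁) r₂
      have e' : g * (g * (g ^ (3 * (N / 3)) * z * (g ^ (3 * (N / 3)))⁻¹) * g⁻¹) * g⁻¹ = z := by
        calc _ = (g * (g * g ^ (3 * (N / 3)))) * z * (g * (g * g ^ (3 * (N / 3))))⁻¹ := by group
          _ = z := by rw [← pow_succ', ← pow_succ', show 3 * (N / 3) + 1 + 1 = N by omega, hgN]; group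
      rw [e'] at q1
      exact h.RR_anti ht₂ a₂ q1 rfl
  have hfzE := D.E.mul_mem h.hf h.hz
  -- images
  have hgz := hdec _ (conj_Q hg hgv h.z_Q)
  have hgf := hdec _ (conj_Q hg hgv h.f_Q)
  have hgfz := hdec _ (conj_Q hg hgv hfzQ)
  have ez : f * z * z = f := by rw [mul_assoc, h.zz, mul_one]
  have ez' : f * z * f = -z := by
    rw [mul_assoc, h.zf, mul_neg, ← mul_assoc, h.ff, one_mul]
  have eff : f * (f * z) = z := by rw [← mul_assoc, h.ff, one_mul]
  have ecz : g * (f * z) * g⁻¹ = (g * f * g⁻¹) * (g * z * g⁻¹) := by group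
  have ecf : g * f * g⁻¹ = (g * (f * z) * g⁻¹) * (g * z * g⁻¹) := by
    calc g * f * g⁻¹ = g * (f * z * z) * g⁻¹ := by rw [ez]
      _ = _ := by group
  rcases hgz with a | a | a | a
  · exact h1z (hone z h.hz a)
  · exact cz a
  · -- `z ↦ f`
    rcases hgf with b | b | b | b
    · exact h1anti f h.hf hanti_f (hone f h.hf b)
    · -- `f ↦ z`: `f z` is fixed
      apply cfz
      rw [ecz]
      have h2 := h.RR_mul h.f_Q b a h.hz
      rw [h.zf] at h2
      exact h.RR_neg h2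
    · exact cf b
    · refine cyc f (f * z) h.hf hfzE hanti_f hanti_fz a b ?_
      rw [ecz]
      have h2 := h.RR_mul h.f_Q b a hfzE
      rw [ez'] at h2
      exact h.RR_neg h2
  · -- `z ↦ f z`
    rcases hgfz with b | b | b | b
    · exact h1anti _ hfzE hanti_fz (hone _ hfzE b)
    · apply cf
      rw [ecf]
      have h2 := h.RR_mul hfzQ b a h.hz
      have e5 : z * (f * z) = -f := by rw [hanti_fz, ez]
      rw [e5] at h2
      exact h.RR_neg h2
    · refine cyc (f * z) f hfzE h.hf hanti_fz hanti_f a b ?_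
      rw [ecf]
      have h2 := h.RR_mul hfzQ b a h.hf
      rw [eff] at h2
      exact h2
    · exact cfz b

end TS

end Dat

end Cfsg.Agent.H578
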