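import Cfsg.Agent.H578.Quad
import Cfsg.Agent.H578.Three

/-!
# Bases of size two for primitive linear groups of odd order (helper578)
-/

set_option autoImplicit false
set_option linter.unusedSectionVars false

universe u

namespace Cfsg.Agent.H578

variable {V : Type u} [AddCommGroup V]

namespace Dat

variable {G : Subgroup (AU V)} {D : Dat G} [Nontrivial V]

/-- if `E / K` has odd exponent, the frame has `i = 1` -/
theorem frame_odd {v : V} {i : AU V} [Finite V] (hF : D.IsFrame v i) {s : ℕ} (hs : Odd s)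
    (hsE : ∀ x ∈ D.E, (x ^ s).1 ∈ D.K) : i = 1 := by
  rcases hF.dich with h | ⟨h1, h2⟩
  · exact h
  · exfalso
    have h3 : i ^ s ∈ D.isF.units := hsE i hF.iQ.1
    have h4 : i ^ 2 ∈ D.isF.units := by
      rw [pow_two, h1]; exact D.K.neg_mem D.K.one_mem
    have h5 : i ∈ D.isF.units := mem_of_coprime (Nat.coprime_two_right.mpr hs) h3 h4
    exact h2 i.1 h5 (congrArg Units.val h1)

/-- the frame with `i = 1`: `Q` acts by scalars -/
theorem QB_of_frame {v : V} [Finite V] (hF : D.IsFrame v 1) : D.Q v ≤ D.B v := by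
  intro x hx
  obtain ⟨a, ha, b, hb, hab⟩ := hF.span x hx
  exact B_of_eigen hF.toIsMax hx.1 (D.self_mem_V0 v) hF.ne (D.K.add_mem ha hb) hab

theorem Qab_of_QB {v : V} (hv : v ≠ 0) (hQB : D.Q v ≤ D.B v) :
    ∀ x ∈ D.Q v, ∀ y ∈ D.Q v, x * y = y * x := by
  intro x hx y hy
  obtain ⟨-, k, hk, h⟩ := hQB hy
  have hki : (k⁻¹).1 ∈ D.K := D.isF.units.inv_mem (x := k) hk
  have h1 := hx.2 (k⁻¹ * y) (D.E.mul_mem (D.KE _ hki) hy.1) (by
    rw [au_mul_apply, h, au_inv_apply])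
  have h2 := D.EKu hx.1 hk
  calc x * y = (x * k) * (k⁻¹ * y) := by group
    _ = k * (x * (k⁻¹ * y)) := by rw [h2]; group
    _ = k * ((k⁻¹ * y) * x) := by rw [h1]
    _ = _ := by group

theorem iter_T {v : V} {X : Type u} [AddCommGroup X] (S : D.Sec v X) {g : AU V} (hg : g ∈ G)
    {T : X →+ X} (hT : ∀ x ∈ D.E, S.pr (g * x * g⁻¹) = T (S.pr x)) (m : ℕ) :
    ∀ x ∈ D.E, S.pr (g ^ m * x * (g ^ m)⁻¹) = T^[m] (S.pr x) := by
  induction m with
  | zero => intro x hx; simp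
  | succ m ih =>
    intro x hx
    have h1 : g ^ (m + 1) * x * (g ^ (m + 1))⁻¹ = g * (g ^ m * x * (g ^ m)⁻¹) * g⁻¹ := by
      rw [pow_succ']; group
    have h2 : g ^ m * x * (g ^ m)⁻¹ ∈ D.E := D.GE _ (G.pow_mem hg m) x hx
    rw [h1, hT _ h2, ih x hx, Function.iterate_succ_apply']

theorem iter_T_odd [Finite V] {v : V} {X : Type u} [AddCommGroup X] (S : D.Sec v X) {g : AU V}
    (hg : g ∈ G) {T : X →+ X} (hT : ∀ x ∈ D.E, S.pr (g * x * g⁻¹) = T (S.pr x)) :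
    ∀ x, T^[orderOf g] x = x := by
  intro μ
  have h := iter_T S hg hT (orderOf g) (S.f μ) (S.fE μ)
  rw [pow_orderOf_eq_one, S.pf] at h
  rw [← h]
  simp [S.pf]

theorem card_X_odd [Finite V] {v : V} {X : Type u} [AddCommGroup X] [Finite X] (S : D.Sec v X)
    {s : ℕ} (hs : Odd s) (hsE : ∀ x ∈ D.E, (x ^ s).1 ∈ D.K) : Odd (Nat.card X) := by
  have hpow : ∀ n : ℕ, ∀ x ∈ D.E, S.pr (x ^ n) = n • S.pr x := by
    intro n
    induction n with
    | zero => intro x _; rw [pow_zero, S.pr_one, zero_nsmul]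
    | succ n ih =>
      intro x hx
      rw [pow_succ, S.pr_mul _ (D.E.pow_mem hx n) _ hx, ih x hx, succ_nsmul]
  by_contra heven
  rw [Nat.not_odd_iff_even] at heven
  have hf : Fact (Nat.Prime 2) := ⟨Nat.prime_two⟩
  obtain ⟨μ, hμ⟩ := exists_prime_addOrderOf_dvd_card' (G := X) 2 heven.two_dvd
  have h1 : s • μ = 0 := by
    have := hpow s (S.f μ) (S.fE μ)
    rw [S.pf] at this
    rw [← this, S.pr_zero _ (D.E.pow_mem (S.fE μ) s)]
    exact D.K_le_Q (hsE _ (S.fE μ))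
  have h2 : addOrderOf μ ∣ s := addOrderOf_dvd_of_nsmul_eq_zero h1
  rw [hμ] at h2
  exact (Nat.not_even_iff_odd.mpr hs) (even_iff_two_dvd.mpr h2)

/-- **A primitive solvable linear group of odd order has a base of size 2.** -/
theorem prim2odd [Finite V] (D : Dat G) (hodd : Odd (Nat.card G)) : HasBase (Fin 2) G := by
  classical
  obtain ⟨v, i, hF⟩ := D.exists_frame
  obtain ⟨θ, hθ, hgen⟩ := D.isF.gen
  obtain ⟨X, _, _, ⟨S⟩⟩ := D.exists_sec v
  obtain ⟨s, -, hsG, hsE⟩ := D.sqf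
  have hsodd : Odd s := Odd.of_dvd_nat hodd hsG
  obtain rfl := frame_odd hF hsodd hsE
  have hQB := QB_of_frame hF
  have hQab := Qab_of_QB hF.ne hQB
  have hv := hF.ne
  obtain ⟨Dd, hD0, hrig, hquad⟩ := Comb.c2odd X (card_X_odd S hsodd hsE)
  have : Fintype X := Fintype.ofFinite X
  let u : X → V := fun μ => if μ = 0 then θ.1 v else if μ ∈ Dd then 0 else v
  have hvV := D.self_mem_V0 v
  have hu : ∀ μ, u μ ∈ D.V0 v := by
    intro μ
    change (if μ = 0 then θ.1 v else if μ ∈ Dd then 0 else v) ∈ D.V0 v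
    split_ifs
    · exact D.K_V0 hθ hvV
    · exact (D.V0 v).zero_mem
    · exact hvV
  have hu0 : ∀ μ, u μ = 0 ↔ μ ∈ Dd := by
    intro μ
    change (if μ = 0 then θ.1 v else if μ ∈ Dd then 0 else v) = 0 ↔ _
    split_ifs with h1 h2
    · subst h1
      refine ⟨fun h => absurd ?_ hv, fun h => absurd h hD0⟩
      apply au_injective θ
      rw [h, map_zero]
    · exact ⟨fun _ => h2, fun _ => rfl⟩
    · exact ⟨fun h => absurd h hv, fun h => absurd h h2⟩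
  refine ⟨![v, ∑ μ, (S.f μ).1 (u μ)], fun g hg h => ?_⟩
  have hgv : g.1 v = v := h 0
  have hg1 : g.1 (∑ μ, (S.f μ).1 (u μ)) = ∑ μ, (S.f μ).1 (u μ) := h 1
  obtain ⟨T, hTi, hT⟩ := exists_T hg hgv S
  have k1 := comp hg hgv S hTi hT (s := Finset.univ) (fun μ => Finset.mem_univ μ) hu hg1
  have hgθv : g.1 (θ.1 v) = θ.1 v := by
    have := k1 0
    rw [map_zero, S.f0] at this
    have e : u 0 = θ.1 v := if_pos rfl
    rw [e] at this
    exact this.symm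
  have hgK := comm_K_of_gen hv hg hgv hθ hgen hgθv
  -- `T` is the identity
  have hTD : ∀ μ ∈ Dd, T μ ∈ Dd := by
    intro μ hμ
    rw [← hu0] at hμ ⊢
    have h1 := k1 μ
    rw [hμ, map_zero, map_zero] at h1
    apply au_injective (S.f (T μ))
    rw [h1, map_zero]
  have hgodd : Odd (orderOf g) := by
    refine Odd.of_dvd_nat hodd ?_
    have h1 := orderOf_dvd_natCard (⟨g, hg⟩ : G)
    rwa [Subgroup.orderOf_mk] at h1
  have hTid : ∀ μ, T μ = μ := hrig T hTi hTD ⟨orderOf g, hgodd, iter_T_odd S hg hT⟩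
  have hdfQ : ∀ x ∈ D.E, df g x ∈ D.Q v := by
    intro x hx
    change x⁻¹ * (g * x * g⁻¹) ∈ D.Q v
    rw [← S.eq_iff hx (D.GE g hg x hx), hT x hx, hTid]
  have hS : D.Sit v g := ⟨hg, hgv, hv, hgK, hdfQ, hQab, hQB⟩
  -- the quadratic function
  have hfdec : ∀ μ ν : X, ∃ r ∈ D.Q v, S.f (μ + ν) = S.f μ * S.f ν * r := by
    intro μ ν
    refine ⟨(S.f μ * S.f ν)⁻¹ * S.f (μ + ν), ?_, by group⟩
    rw [← S.eq_iff (D.E.mul_mem (S.fE μ) (S.fE ν)) (S.fE _), S.pf,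
      S.pr_mul _ (S.fE μ) _ (S.fE ν), S.pf, S.pf]
  choose ζ hζK hζ using fun μ => hS.exists_ζ (S.fE μ)
  let _ : CommGroup D.isF.units := { (inferInstance : Group D.isF.units) with
    mul_comm := fun a b => Subtype.ext (Units.ext (D.isF.comm _ a.2 _ b.2)) }
  have hunique : ∀ {a b : AU V}, a.1 ∈ D.K → b.1 ∈ D.K → a.1 v = b.1 v → a = b :=
    fun {a b} ha hb hab => Units.ext (D.isF.eq_of_apply ha hb hv hab)
  have hζ1 := hquad D.isF.units (fun μ => ⟨ζ μ, hζK μ⟩)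
    (fun μ ν => ⟨cm (df g (S.f μ)) (S.f ν), cm_K (hdfQ _ (S.fE μ)).1 (S.fE ν)⟩) ?_ ?_ ?_ ?_
  · apply fix_imp_one hg hgv hv
    intro e he
    have hq : (S.f (S.pr e))⁻¹ * e ∈ D.Q v := by
      rw [← S.eq_iff (S.fE _) he, S.pf]
    obtain ⟨-, k, hk, hk1⟩ := hQB hq
    have h1 : e.1 v = k.1 ((S.f (S.pr e)).1 v) := by
      rw [← D.EK' (S.fE _) hk, ← hk1, ← au_mul_apply, mul_inv_cancel_left]
    have h2 : ζ (S.pr e) = 1 := congrArg Subtype.val (hζ1 (S.pr e))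
    rw [h1, hgK _ hk, hS.ζ_apply (S.fE _) (hζK _) (hζ _), h2]
    rfl
  · intro μ μ' ν
    apply Subtype.ext
    change cm (df g (S.f (μ + μ'))) (S.f ν) = cm (df g (S.f μ)) (S.f ν) * cm (df g (S.f μ')) (S.f ν)
    obtain ⟨r, hr, h1⟩ := hfdec μ μ'
    rw [h1, hS.cm_df_mul_left (D.E.mul_mem (S.fE μ) (S.fE μ')) hr.1 (S.fE ν),
      hS.cm_df_Q_left hr (S.fE ν), mul_one, hS.cm_df_mul_left (S.fE μ) (S.fE μ') (S.fE ν)]
  · intro μ ν ν'
    apply Subtype.ext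
    change cm (df g (S.f μ)) (S.f (ν + ν')) = cm (df g (S.f μ)) (S.f ν) * cm (df g (S.f μ)) (S.f ν')
    obtain ⟨r, hr, h1⟩ := hfdec ν ν'
    have hd := (hdfQ _ (S.fE μ)).1
    rw [h1, cm_mul_right hd (D.E.mul_mem (S.fE ν) (S.fE ν')) hr.1,
      hS.cm_df_Q_right (S.fE μ) hr, mul_one, cm_mul_right hd (S.fE ν) (S.fE ν')]
  · intro μ ν
    apply Subtype.ext
    change ζ (μ + ν) = ζ μ * ζ ν * cm (df g (S.f μ)) (S.f ν)
    obtain ⟨r, hr, h1⟩ := hfdec μ ν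
    obtain ⟨-, k, hk, hk1⟩ := hQB hr
    have hcK := cm_K (hdfQ _ (S.fE μ)).1 (S.fE ν)
    have hζmul := hS.ζ_mul (S.fE μ) (S.fE ν) (hζK μ) (hζK ν) (hζ μ) (hζ ν)
    have hprodK : (ζ μ * ζ ν * cm (df g (S.f μ)) (S.f ν)).1 ∈ D.K :=
      D.K.mul_mem (D.K.mul_mem (hζK μ) (hζK ν)) hcK
    have hE := D.E.mul_mem (S.fE μ) (S.fE ν)
    have h2 := hS.ζ_apply hE hprodK hζmul
    apply hunique (hζK _) hprodK
    rw [← hζ (μ + ν)]
    apply hS.ζ_unique (S.fE _) hprodK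
    have h3 : (S.f (μ + ν)).1 v = k.1 ((S.f μ * S.f ν).1 v) := by
      rw [h1, au_mul_apply (S.f μ * S.f ν) r, hk1, D.EK' hE hk]
    rw [h3, hgK _ hk, h2]
    exact DFunLike.congr_fun (D.isF.comm _ hk _ hprodK) _
  · intro μ hμ
    apply Subtype.ext
    change ζ μ = 1
    apply hunique (hζK _) D.K.one_mem
    rw [← hζ μ]
    apply hS.ζ_unique (S.fE _) D.K.one_mem
    change g.1 ((S.f μ).1 v) = (S.f μ).1 v
    by_cases hμ0 : μ = 0
    · rw [hμ0, S.f0]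
      exact hgv
    · have h1 := k1 μ
      have e1 : u μ = v := by
        change (if μ = 0 then θ.1 v else if μ ∈ Dd then 0 else v) = v
        rw [if_neg hμ0, if_neg hμ]
      rw [hTid, e1] at h1
      exact h1.symm

end Dat

end Cfsg.Agent.H578
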