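import Cfsg.Agent.H578.Nine
import Cfsg.Agent.H578.Two

/-!
# The field with nine elements (helper578)
-/

set_option autoImplicit false
set_option linter.unusedSectionVars false

universe u

namespace Cfsg.Agent.H578

variable {V : Type u} [AddCommGroup V]

theorem end_mul_apply (a b : AddMonoid.End V) (x : V) : (a * b) x = a (b x) := rfl

namespace Dat

variable {G : Subgroup (AU V)} {D : Dat G} [Nontrivial V] [Finite V]

/-- if `E = K` -/
theorem base_scalar {v₀ : V} (hv₀ : v₀ ≠ 0) {θ : AU V} (hθ : θ.1 ∈ D.K)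
    (hgen : ∀ k : AU V, k.1 ∈ D.K → ∃ n : ℕ, k = θ ^ n) (hEK : ∀ x ∈ D.E, x.1 ∈ D.K) :
    HasBase (Fin 2) G := by
  refine ⟨![v₀, θ.1 v₀], fun g hg h => ?_⟩
  have hgv : g.1 v₀ = v₀ := h 0
  have hgK := comm_K_of_gen hv₀ hg hgv hθ hgen (h 1)
  apply fix_imp_one hg hgv hv₀
  intro x hx
  rw [hgK _ (hEK x hx), hgv]

/-- the elements `z` and `f` -/
theorem exists_zf2 {v₀ : V} (hv₀ : D.IsMax v₀) (QB : D.Q v₀ ≤ D.B v₀)
    (hE2 : ∀ x ∈ D.E, (x ^ 2).1 ∈ D.K) (hEK : ¬ ∀ x ∈ D.E, x.1 ∈ D.K)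
    {ι : AU V} (hι : ι.1 ∈ D.K) (hιι : ι * ι = -1) :
    ∃ z ∈ D.E, ∃ f ∈ D.E, z.1 v₀ = v₀ ∧ z * z = 1 ∧ f * f = 1 ∧ z * f = -(f * z) := by
  obtain ⟨z, hz, hzv, hz1⟩ : ∃ z ∈ D.E, z.1 v₀ = v₀ ∧ z ≠ 1 := by
    by_contra hcon
    push Not at hcon
    apply hEK
    intro y hy
    have hyQ : y ∈ D.Q v₀ := ⟨hy, fun a ha hav => by rw [hcon a ha hav, one_mul, mul_one]⟩
    obtain ⟨-, k, hk, h⟩ := QB hyQ
    have hki : (k⁻¹).1 ∈ D.K := D.isF.units.inv_mem (x := k) hk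
    have h1 := hcon (k⁻¹ * y) (D.E.mul_mem (D.KE _ hki) hy) (by rw [au_mul_apply, h, au_inv_apply])
    have h2 : y = k := (inv_mul_eq_one.mp h1).symm
    rw [h2]; exact hk
  have hzz : z * z = 1 := by
    apply eq_one_of_fix hv₀.ne
    · rw [← pow_two]; exact hE2 z hz
    · rw [au_mul_apply, hzv, hzv]
  obtain ⟨f', hf', hzf'⟩ : ∃ f' ∈ D.E, z * f' ≠ f' * z := by
    by_contra hcon
    push Not at hcon
    exact hz1 (eq_one_of_fix hv₀.ne (D.center z hz hcon) hzv)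
  have hzf : z * f' = -(f' * z) := (mul_pm hE2 hz hf').resolve_left hzf'
  have hmul : ∀ k : AU V, k.1 ∈ D.K → z * (k * f') = -(k * f' * z) := by
    intro k hk
    calc z * (k * f') = (z * k) * f' := by rw [mul_assoc]
      _ = k * (z * f') := by rw [D.EKu hz hk, mul_assoc]
      _ = _ := by rw [hzf, mul_neg, mul_assoc]
  obtain ⟨k, hk, h | ⟨-, h⟩⟩ := D.star _ hf' 2 Nat.prime_two (hE2 _ hf')
  · refine ⟨z, hz, k * f', D.E.mul_mem (D.KE k hk) hf', hzv, hzz, by rw [← pow_two, h], hmul k hk⟩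
  · have hιk : (ι * k).1 ∈ D.K := D.K.mul_mem hι hk
    refine ⟨z, hz, ι * k * f', D.E.mul_mem (D.KE _ hιk) hf', hzv, hzz, ?_, hmul _ hιk⟩
    have e1 : (k * f') * ι = ι * (k * f') := D.EKu (D.E.mul_mem (D.KE k hk) hf') hι
    rw [pow_two] at h
    calc ι * k * f' * (ι * k * f') = ι * ((k * f') * ι) * (k * f') := by simp only [mul_assoc]
      _ = (ι * ι) * ((k * f') * (k * f')) := by rw [e1]; simp only [mul_assoc]
      _ = 1 := by rw [hιι, h, neg_mul_neg, one_mul]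

namespace TS

variable {v₀ : V} {z f c : AU V} (h : D.TS v₀ z f c)
include h

/-- eigenvectors in the plane -/
theorem eig_z {s : AddMonoid.End V} (hs : s ∈ D.K) (he : D.Eig z (v₀ + s (f.1 v₀))) :
    s = 0 := by
  obtain ⟨κ, hκ, e⟩ := he
  rw [map_add, h.zv, h.zK s hs, h.zfv, map_add κ.1] at e
  have e1 : (1 : AddMonoid.End V) v₀ + (-s) (f.1 v₀) = κ.1 v₀ + (κ.1 * s) (f.1 v₀) := by
    rw [end_mul_apply, ← e, map_neg]; rfl
  obtain ⟨e2, e3⟩ := h.pl_inj D.K.one_mem (D.K.neg_mem hs) hκ (D.K.mul_mem hκ hs) e1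
  rw [← e2, one_mul] at e3
  by_contra h0
  obtain ⟨s', hs'⟩ := D.isF.exists_unit hs h0
  have hs'' : s'.1 = s := hs'
  have e4 : s'.1 (f.1 v₀) = -(s'.1 (f.1 v₀)) := by
    rw [hs'']
    conv_lhs => rw [← e3]
    rfl
  exact h.nz (h.nz h.mx.ne) (D.two_tors h.two e4)

theorem eig_f {s : AddMonoid.End V} (hs : s ∈ D.K) (he : D.Eig f (v₀ + s (f.1 v₀))) :
    s * s = 1 := by
  obtain ⟨κ, hκ, e⟩ := he
  rw [map_add, h.fK s hs, h.ffv, map_add κ.1] at e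
  have e1 : s v₀ + (1 : AddMonoid.End V) (f.1 v₀) = κ.1 v₀ + (κ.1 * s) (f.1 v₀) := by
    rw [end_mul_apply, ← e, add_comm]; rfl
  obtain ⟨e2, e3⟩ := h.pl_inj hs D.K.one_mem hκ (D.K.mul_mem hκ hs) e1
  rw [← e2] at e3
  exact e3.symm

theorem eig_fz {s : AddMonoid.End V} (hs : s ∈ D.K) {ι : AU V} (hι : ι.1 ∈ D.K)
    (he : D.Eig (ι * (f * z)) (v₀ + s (f.1 v₀))) : s * s = -1 := by
  obtain ⟨κ, hκ, e⟩ := he
  rw [au_mul_apply, au_mul_apply, map_add, h.zv, h.zK s hs, h.zfv, map_add f.1, map_neg s,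
    map_neg f.1, h.fK s hs, h.ffv, map_add κ.1, map_add ι.1] at e
  have e1 : (-(ι.1 * s)) v₀ + ι.1 (f.1 v₀) = κ.1 v₀ + (κ.1 * s) (f.1 v₀) := by
    rw [end_mul_apply, ← e, add_comm, map_neg]; rfl
  obtain ⟨e2, e3⟩ := h.pl_inj (D.K.neg_mem (D.K.mul_mem hι hs)) hι hκ (D.K.mul_mem hκ hs) e1
  rw [← e2, neg_mul, mul_assoc] at e3
  have e4 : ι.1 * (-1) = ι.1 * (s * s) := by
    rw [mul_neg_one, e3, neg_neg]
    rw [← e3]
  exact (Units.mul_right_inj ι).mp e4 |>.symm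

omit h in
/-- coefficients are fixed -/
theorem coef_fix {g : AU V} (hg : g ∈ G) {v w : V} (hv : v ≠ 0) (hgv : g.1 v = v)
    {t k : AU V} (hk : k.1 ∈ D.K) (hgt : g.1 (t.1 v) = k.1 (t.1 v)) {α β : AddMonoid.End V}
    (hα : α ∈ D.K) (hβ : β ∈ D.K) (hw : w = α v + β (t.1 v)) (hgw : g.1 w = w)
    (hne : ¬ D.Eig t v) : cj g α = α := by
  have hα' := D.GK g hg _ hα
  have hβ' := D.GK g hg _ hβ
  have h1 : cj g α v + (cj g β * k.1) (t.1 v) = α v + β (t.1 v) := by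
    have e1 : g.1 (α v) = cj g α v := by
      rw [← cj_apply', hgv]
    have e2 : g.1 (β (t.1 v)) = (cj g β * k.1) (t.1 v) := by
      rw [end_mul_apply, ← hgt, cj_apply']
    rw [← e1, ← e2, ← map_add, ← hw, hgw]
  have h2 : (cj g α - α) v = (β - cj g β * k.1) (t.1 v) := by
    change cj g α v - α v = β (t.1 v) - (cj g β * k.1) (t.1 v)
    rw [sub_eq_sub_iff_add_eq_add, h1, add_comm]
  have hdK : β - cj g β * k.1 ∈ D.K := D.K.sub_mem hβ (D.K.mul_mem hβ' hk)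
  have haK : cj g α - α ∈ D.K := D.K.sub_mem hα' hα
  by_cases h0 : β - cj g β * k.1 = 0
  · rw [h0] at h2
    exact sub_eq_zero.mp (D.isF.eq_zero haK hv h2)
  · exfalso
    obtain ⟨l, hl⟩ := D.isF.exists_unit hdK h0
    have hl' : l.1 = β - cj g β * k.1 := hl
    rw [← hl'] at h2
    by_cases h3 : cj g α - α = 0
    · rw [h3] at h2
      have h4 : t.1 v = 0 := au_injective l (by rw [← h2, map_zero]; rfl)
      exact hv (au_injective t (by rw [h4, map_zero]))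
    · obtain ⟨m, hm⟩ := D.isF.exists_unit haK h3
      have hm' : m.1 = cj g α - α := hm
      have hlK : l.1 ∈ D.K := by rw [hl']; exact hdK
      have hmK : m.1 ∈ D.K := by rw [hm']; exact haK
      apply hne
      refine ⟨l⁻¹ * m, D.K.mul_mem (D.isF.units.inv_mem (x := l) hlK) hmK, ?_⟩
      apply au_injective l
      rw [← h2, au_mul_apply, au_apply_inv, hm']

end TS

/-- **The field with nine elements.** -/
theorem prim2_nine (hE2 : ∀ x ∈ D.E, (x ^ 2).1 ∈ D.K) (hN : (Nat.card G).Coprime 3)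
    {θ : AU V} (hθ : θ.1 ∈ D.K) (hgen : ∀ k : AU V, k.1 ∈ D.K → ∃ n : ℕ, k = θ ^ n)
    (three : (3 : AddMonoid.End V) = 0) (hθ2 : θ.1 * θ.1 = 1 - θ.1) :
    HasBase (Fin 2) G := by
  -- arithmetic
  have e2 : ∀ x : AddMonoid.End V, x + x = -x := by
    intro x
    have : x * (3 : AddMonoid.End V) = 0 := by rw [three, mul_zero]
    have h3 : x + x + x = 0 := by
      rw [← this]
      have : (3 : AddMonoid.End V) = 1 + 1 + 1 := by norm_num
      rw [this, mul_add, mul_add, mul_one]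
    exact eq_neg_of_add_eq_zero_left h3
  have t4 : (θ.1 * θ.1) * (θ.1 * θ.1) = -1 := by
    have h1 : (1 - θ.1) * (1 - θ.1) = 1 - (θ.1 + θ.1) + θ.1 * θ.1 := by noncomm_ring
    rw [hθ2, h1, e2, hθ2]
    have : (1 : AddMonoid.End V) - -θ.1 + (1 - θ.1) = 1 + 1 := by abel
    rw [this, e2]
  obtain ⟨ι, hι⟩ : ∃ ι, ι = θ * θ := ⟨_, rfl⟩
  have hιK : ι.1 ∈ D.K := by rw [hι]; exact D.K.mul_mem hθ hθ
  have hιι : ι * ι = -1 := by rw [hι]; exact Units.ext t4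
  have hone : (1 : AddMonoid.End V) ≠ 0 := IsF.ne_zero_au (1 : AU V)
  have htwo : (1 : AU V) ≠ -1 := by
    intro h
    have h1 : (1 : AddMonoid.End V) = -1 := congrArg Units.val h
    have h2 := e2 1
    rw [← h1] at h2
    exact hone (add_eq_left.mp h2)
  have hneg1 : (1 : AddMonoid.End V) ≠ -1 := fun h => htwo (Units.ext h)
  obtain ⟨v₀, i, hF⟩ := D.exists_frame
  have hi : i = 1 := by
    rcases hF.dich with h | ⟨-, h⟩
    · exact h
    · exact absurd (congrArg Units.val hιι) (h _ hιK)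
  subst hi
  have hQB := QB_of_frame hF
  by_cases hEK : ∀ x ∈ D.E, x.1 ∈ D.K
  · exact base_scalar hF.ne hθ hgen hEK
  obtain ⟨z, hz, f, hf, hzv, hzz, hff, hzf⟩ := exists_zf2 hF.toIsMax hQB hE2 hEK hιK hιι
  have hθ4 : θ ^ 4 ≠ 1 := by
    intro h
    have : θ ^ 4 = ι * ι := by rw [show 4 = 2 + 2 from rfl, pow_add, pow_two, hι]
    rw [this, hιι] at h
    exact htwo h.symm
  have h : D.TS v₀ z f θ := ⟨hF.toIsMax, hQB, hz, hf, hzv, hzz, hff, hzf, hθ, hθ4, htwo, hE2⟩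
  have hθne : θ.1 ≠ 0 := IsF.ne_zero_au θ
  have hθθ1 : θ.1 * θ.1 ≠ 1 := by
    intro h1
    rw [h1, one_mul] at t4
    exact hneg1 t4
  have hθθ1' : θ.1 * θ.1 ≠ -1 := by
    intro h1
    rw [h1, neg_mul_neg, one_mul] at t4
    exact hneg1 t4
  have hez : ¬ D.Eig z (v₀ + θ.1 (f.1 v₀)) := fun he => hθne (h.eig_z hθ he)
  have hef : ¬ D.Eig f (v₀ + θ.1 (f.1 v₀)) := fun he => hθθ1 (h.eig_f hθ he)
  have hefz : ¬ D.Eig (f * z) (v₀ + θ.1 (f.1 v₀)) := by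
    rintro ⟨κ, hκ, e⟩
    apply hθθ1'
    refine h.eig_fz (ι := ι) hθ hιK ⟨ι * κ, D.K.mul_mem hιK hκ, ?_⟩
    rw [au_mul_apply, e, au_mul_apply]
  -- the key property
  have hkey : ∀ g ∈ G, g.1 (v₀ + θ.1 (f.1 v₀)) = v₀ + θ.1 (f.1 v₀) →
      g.1 (θ.1 (θ.1 v₀)) = θ.1 (θ.1 v₀) →
      (∀ a ∈ D.K, ∀ x, g.1 (a x) = a (g.1 x)) ∧ g.1 v₀ = v₀ ∧ g.1 (f.1 v₀) = f.1 v₀ := by
    intro g hg hgv hgw
    suffices hcjθ : cj g θ.1 = θ.1 by
      have hgθ : g.1 (θ.1 (v₀ + θ.1 (f.1 v₀))) = θ.1 (v₀ + θ.1 (f.1 v₀)) := by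
        rw [← cj_apply', hgv, hcjθ]
      have hgK := comm_K_of_gen h.vne hg hgv hθ hgen hgθ
      have hgv₀ : g.1 v₀ = v₀ := by
        rw [hgK _ hθ, hgK _ hθ] at hgw
        exact au_injective θ (au_injective θ hgw)
      refine ⟨hgK, hgv₀, ?_⟩
      rw [map_add, hgv₀, hgK _ hθ] at hgv
      exact au_injective θ (add_left_cancel hgv)
    obtain ⟨t, ht, k, hk, b, hb, hbv, hbf, e⟩ := h.fix_class hg hgv hN (by
      have : (⟨g, hg⟩ : G) ^ Nat.card G = 1 := pow_card_eq_one'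
      exact congrArg Subtype.val this)
    have hgt : g.1 (t.1 (v₀ + θ.1 (f.1 v₀))) = k.1 (t.1 (v₀ + θ.1 (f.1 v₀))) := by
      have e1 : g.1 (t.1 (v₀ + θ.1 (f.1 v₀))) = (g * t * g⁻¹).1 (v₀ + θ.1 (f.1 v₀)) := by
        rw [au_mul_apply, au_mul_apply, inv_fix hgv]
      rw [e1, e, au_mul_apply (k * t) b, h.fix_v hb hbv hbf, au_mul_apply]
    have hθθK := D.K.mul_mem hθ hθ
    have hcj1 : cj g 1 = 1 := cj_one' g
    have hθ1 : θ.1 = 1 - θ.1 * θ.1 := by rw [hθ2]; abel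
    have hθx : ∀ x : V, θ.1 (θ.1 x) = x - θ.1 x := fun x => DFunLike.congr_fun hθ2 x
    have h3x : ∀ x : V, x + x = -x := fun x => DFunLike.congr_fun (e2 1) x
    rcases ht with rfl | rfl | rfl
    · have h1 := TS.coef_fix (D := D) hg h.vne hgv hk hgt (α := -(θ.1 * θ.1)) (β := -(θ.1 * θ.1))
        (D.K.neg_mem hθθK) (D.K.neg_mem hθθK) (w := θ.1 (θ.1 v₀)) (by
          rw [map_add t.1, h.zv, h.zK _ hθ, h.zfv, ← map_add]
          have e1 : v₀ + θ.1 (f.1 v₀) + (v₀ + θ.1 (-(f.1 v₀))) = -v₀ := by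
            rw [map_neg, ← h3x v₀]; abel
          rw [e1, map_neg]
          change _ = -(-(θ.1 (θ.1 v₀)))
          rw [neg_neg]) hgw hez
      have h2 : cj g (θ.1 * θ.1) = θ.1 * θ.1 := by
        rw [cj_neg] at h1
        exact neg_injective h1
      rw [hθ1, sub_eq_add_neg, cj_add, cj_neg, hcj1, h2]
    · exact TS.coef_fix (D := D) hg h.vne hgv hk hgt (α := θ.1) (β := -(θ.1 * θ.1))
        hθ (D.K.neg_mem hθθK) (w := θ.1 (θ.1 v₀)) (by
          have e1 : (-(θ.1 * θ.1)) (t.1 (v₀ + θ.1 (t.1 v₀))) =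
              -(θ.1 (θ.1 (t.1 v₀))) - θ.1 (θ.1 (θ.1 v₀)) := by
            rw [map_add t.1, h.fK _ hθ, h.ffv, map_add]
            change -(θ.1 (θ.1 (t.1 v₀))) + -(θ.1 (θ.1 (θ.1 v₀))) = _
            abel
          rw [e1, map_add, hθx v₀, hθx (t.1 v₀), map_sub, hθx v₀]
          abel) hgw hef
    · have h1 := TS.coef_fix (D := D) hg h.vne hgv hk hgt (α := 1 + θ.1) (β := -1)
        (D.K.add_mem D.K.one_mem hθ) (D.K.neg_mem D.K.one_mem) (w := θ.1 (θ.1 v₀)) (by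
          have e1 : (-1 : AddMonoid.End V) ((f * z).1 (v₀ + θ.1 (f.1 v₀))) =
              -(f.1 v₀ - θ.1 v₀) := by
            rw [au_mul_apply, map_add z.1, h.zv, h.zK _ hθ, h.zfv, map_neg, map_add, map_neg,
              h.fK _ hθ, h.ffv, ← sub_eq_add_neg]
            rfl
          have e3 : (1 + θ.1) (v₀ + θ.1 (f.1 v₀)) =
              v₀ + θ.1 (f.1 v₀) + (θ.1 v₀ + θ.1 (θ.1 (f.1 v₀))) := by
            rw [← map_add]; rfl
          have e4 : θ.1 v₀ + θ.1 v₀ = -(θ.1 v₀) := h3x _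
          rw [e1, e3, hθx v₀, hθx (f.1 v₀), sub_eq_add_neg v₀, ← e4]
          abel) hgw hefz
      rw [cj_add, hcj1] at h1
      exact add_left_cancel h1
  -- the vectors
  have hv₀V := h.v₀_V0
  have hfV : f.1 v₀ ∈ D.V0 (v₀ + θ.1 (f.1 v₀)) := D.Q_V0 h.f_Q hv₀V
  have hplV : ∀ s ∈ D.K, v₀ + s (f.1 v₀) ∈ D.V0 (v₀ + θ.1 (f.1 v₀)) := fun s hs =>
    (D.V0 _).add_mem hv₀V (D.K_V0 hs hfV)
  obtain ⟨s, hs⟩ : ∃ s : Fin 4 → AddMonoid.End V, s = ![θ.1, 0, 1, ι.1] := ⟨_, rfl⟩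
  have hsK : ∀ j, s j ∈ D.K := by
    intro j; rw [hs]; fin_cases j
    · exact hθ
    · exact D.K.zero_mem
    · exact D.K.one_mem
    · exact hιK
  have hpl0 : ∀ t ∈ D.K, v₀ + t (f.1 v₀) ≠ 0 := by
    intro t ht h0
    have h1 := h.pl_inj (a := 1) (b := t) (a' := 0) (b' := 0) D.K.one_mem ht D.K.zero_mem
      D.K.zero_mem (by
        have : (0 : AddMonoid.End V) v₀ + (0 : AddMonoid.End V) (f.1 v₀) = 0 := add_zero _
        rw [this]; exact h0)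
    exact hone h1.1
  obtain ⟨t, ht⟩ : ∃ t : Fin 4 → AU V, t = ![1, z, f, ι * (f * z)] := ⟨_, rfl⟩
  have hfzE := D.E.mul_mem h.hf h.hz
  have tE : ∀ c, t c ∈ D.E := by
    intro c; rw [ht]; fin_cases c
    · exact D.E.one_mem
    · exact h.hz
    · exact h.hf
    · exact D.E.mul_mem (D.KE _ hιK) hfzE
  have hιιx : ∀ x : V, ι.1 (ι.1 x) = -x := fun x => by rw [← au_mul_apply, hιι]; rfl
  have tfix : ∀ c, (t c).1 (v₀ + s c (f.1 v₀)) = v₀ + s c (f.1 v₀) := by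
    intro c; rw [ht, hs]; fin_cases c
    · rfl
    · change z.1 (v₀ + (0 : AddMonoid.End V) (f.1 v₀)) = v₀ + (0 : AddMonoid.End V) (f.1 v₀)
      have : (0 : AddMonoid.End V) (f.1 v₀) = 0 := rfl
      rw [this, add_zero, h.zv]
    · change f.1 (v₀ + f.1 v₀) = v₀ + f.1 v₀
      rw [map_add, h.ffv, add_comm]
    · change (ι * (f * z)).1 (v₀ + ι.1 (f.1 v₀)) = v₀ + ι.1 (f.1 v₀)
      rw [au_mul_apply, au_mul_apply, map_add, h.zv, h.zK _ hιK, h.zfv, map_neg, map_add, map_neg,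
        h.fK _ hιK, h.ffv, map_add, map_neg, hιιx, neg_neg, add_comm]
  have tne : ∀ c d, c ≠ 0 → c ≠ d → ¬ D.Eig (t c) (v₀ + s d (f.1 v₀)) := by
    have z0 : (0 : AddMonoid.End V) ≠ 1 := fun h => hone h.symm
    have i1 : ι.1 * ι.1 = -1 := congrArg Units.val hιι
    have c1 : ∀ d, (1 : Fin 4) ≠ d → s d ≠ 0 := by
      intro d hd; rw [hs]; fin_cases d
      · exact hθne
      · exact absurd rfl hd
      · exact hone
      · exact IsF.ne_zero_au ι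
    have c2 : ∀ d, (2 : Fin 4) ≠ d → s d * s d ≠ 1 := by
      intro d hd; rw [hs]; fin_cases d
      · exact hθθ1
      · change (0 : AddMonoid.End V) * 0 ≠ 1
        rw [zero_mul]; exact z0
      · exact absurd rfl hd
      · change ι.1 * ι.1 ≠ 1
        rw [i1]; exact fun h => hneg1 h.symm
    have c3 : ∀ d, (3 : Fin 4) ≠ d → s d * s d ≠ -1 := by
      intro d hd; rw [hs]; fin_cases d
      · exact hθθ1'
      · change (0 : AddMonoid.End V) * 0 ≠ -1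
        rw [zero_mul]
        intro h0
        exact hone (neg_eq_zero.mp h0.symm)
      · change (1 : AddMonoid.End V) * 1 ≠ -1
        rw [one_mul]; exact hneg1
      · exact absurd rfl hd
    intro c d hc hcd he
    rw [ht] at he
    fin_cases c
    · exact hc rfl
    · exact c1 d hcd (h.eig_z (hsK d) he)
    · exact c2 d hcd (h.eig_f (hsK d) he)
    · exact c3 d hcd (h.eig_fz (hsK d) hιK he)
  have hbfix : ∀ {b : AU V}, b ∈ D.E → b.1 v₀ = v₀ → b * f = f * b → b.1 (f.1 v₀) = f.1 v₀ :=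
    fun {b} hb hbv hbf => by rw [← au_mul_apply, hbf, au_mul_apply, hbv]
  refine pf h.vne (w₀ := θ.1 (θ.1 v₀)) (D.K_V0 hθ (D.K_V0 hθ hv₀V))
    (fun g hg hgv hgw => ?_) (fun c => v₀ + s c (f.1 v₀)) (fun c => hplV _ (hsK c))
    (fun c => hpl0 _ (hsK c)) ?_ ?_ ?_ ?_
  · obtain ⟨hgK, hg1, hg2⟩ := hkey g hg hgv hgw
    refine ⟨hgK, fun x hx => ?_⟩
    obtain ⟨t, ht, k, hk, b, hb, hbv, hbf, rfl⟩ := h.dec_Q hx
    rw [au_mul_apply (k * t) b, h.fix_v hb hbv hbf, au_mul_apply, hgK _ hk]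
    congr 1
    have hfz : f.1 (z.1 (f.1 v₀)) = -v₀ := by rw [h.zfv, map_neg, h.ffv]
    rcases ht with rfl | rfl | rfl | rfl
    · exact hgv
    · rw [map_add, map_add, h.zv, h.zK _ hθ, h.zfv, hg1, hgK _ hθ, map_neg, hg2]
    · rw [map_add, map_add, h.fK _ hθ, h.ffv, hg2, hgK _ hθ, hg1]
    · rw [au_mul_apply, map_add z.1, map_add f.1, map_add g.1, h.zv, h.zK _ hθ, h.fK _ hθ, hfz,
        hg2, hgK _ hθ, map_neg, hg1]
  · intro g hg hgv hgw c
    obtain ⟨hgK, hg1, hg2⟩ := hkey g hg hgv hgw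
    rw [map_add, hg1, hgK _ (hsK c), hg2]
  · intro x hx c d hxcd
    by_contra hcd
    by_cases hc : c = 0
    · have hd : d ≠ 0 := fun h => hcd (hc.trans h.symm)
      apply tne d c hd (Ne.symm hcd)
      apply Eig.of_fix (D.E.inv_mem hx.1) (tE d) (tfix d)
      apply au_injective x
      rw [au_apply_inv]
      exact hxcd.symm
    · exact tne c d hc hcd (Eig.of_fix hx.1 (tE c) (tfix c) hxcd)
  · intro x hx hxv
    rw [hs] at hxv
    exact ⟨hx.1, 1, D.K.one_mem, hxv⟩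
  · intro x hx k l hk hl h1 h2
    have hs1 : v₀ + s 1 (f.1 v₀) = v₀ := by rw [hs]; exact add_zero v₀
    have hs2 : v₀ + s 2 (f.1 v₀) = v₀ + f.1 v₀ := by rw [hs]; rfl
    simp only [hs1, hs2] at h1 h2
    obtain ⟨t, ht, k', hk', b, hb, hbv, hbf, rfl⟩ := h.dec_Q hx
    rw [au_mul_apply (k' * t) b, hbv, au_mul_apply] at h1
    rw [au_mul_apply (k' * t) b, map_add b.1, hbv, hbfix hb hbv hbf, au_mul_apply] at h2
    -- `f v₀` is not a multiple of `v₀`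
    have hno : ∀ a ∈ D.K, ∀ l' : AU V, l'.1 ∈ D.K → a v₀ ≠ l'.1 (f.1 v₀) := by
      intro a ha l' hl' he
      have h5 := h.pl_inj (a := a) (b := 0) (a' := 0) (b' := l'.1) ha D.K.zero_mem D.K.zero_mem
        hl' (by
          change a v₀ + 0 = 0 + l'.1 (f.1 v₀)
          rw [add_zero, zero_add]; exact he)
      exact IsF.ne_zero_au l' h5.2.symm
    rcases ht with rfl | rfl | rfl | rfl
    · refine ⟨hx.1, k', hk', ?_⟩
      rw [au_mul_apply (k' * 1) b, h.fix_v hb hbv hbf, mul_one]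
    · exfalso
      rw [map_add t.1, h.zv, h.zfv, map_add, map_add, map_neg] at h2
      have h5 := h.pl_inj (a := k'.1) (b := -k'.1) (a' := l.1) (b' := l.1) hk' (D.K.neg_mem hk')
        hl hl h2
      have h6 : k'.1 = -k'.1 := by rw [h5.2]; exact h5.1
      have h7 : (k'.1) v₀ = -(k'.1 v₀) := DFunLike.congr_fun h6 v₀
      exact h.nz h.mx.ne (D.two_tors htwo h7)
    · exact absurd h1.symm (hno k.1 hk k' hk')
    · rw [au_mul_apply f z, h.zv] at h1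
      exact absurd h1.symm (hno k.1 hk k' hk')

end Dat

end Cfsg.Agent.H578
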