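import Cfsg.Agent.H578.PF

/-!
# Primitive coprime linear groups, `E / K` not a 2-group: preparations (helper578)
-/

set_option autoImplicit false
set_option linter.unusedSectionVars false

universe u

namespace Cfsg.Agent.H578

variable {V : Type u} [AddCommGroup V]

theorem cm_swap {A : Type*} [Group A] (x y : A) : cm y x = (cm x y)⁻¹ := by
  unfold cm; group

namespace IsF

variable {K : Subring (AddMonoid.End V)}

/-- roots of unity of prime order -/
theorem roots [Nontrivial V] [Finite V] (h : IsF K) {r : ℕ} (hr : r.Prime) {ω k : AU V}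
    (hω : ω.1 ∈ K) (hk : k.1 ∈ K) (hω1 : ω ≠ 1) (hωr : ω ^ r = 1) (hkr : k ^ r = 1) :
    ∃ l : ℕ, k = ω ^ l := by
  have hfe : Finite (AddMonoid.End V) := finite_end
  have hrf : Fact r.Prime := ⟨hr⟩
  let _ : CommRing K := { (inferInstance : Ring K) with
    mul_comm := fun a b => Subtype.ext (h.comm a.1 a.2 b.1 b.2) }
  have : IsDomain K := h.isDomain
  have hprim : IsPrimitiveRoot (⟨ω.1, hω⟩ : K) r := by
    refine IsPrimitiveRoot.mk_of_lt _ hr.pos ?_ ?_
    · apply Subtype.ext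
      change ω.1 ^ r = 1
      rw [← Units.val_pow_eq_pow_val, hωr]; rfl
    · intro l hl hlr h1
      have h2 : ω ^ l = 1 := by
        apply Units.ext
        rw [Units.val_pow_eq_pow_val]
        exact congrArg Subtype.val h1
      have h3 : orderOf ω ∣ l := orderOf_dvd_of_pow_eq_one h2
      have h4 : orderOf ω = r := orderOf_eq_prime hωr hω1
      rw [h4] at h3
      exact absurd (Nat.le_of_dvd hl h3) (by omega)
  have : NeZero r := ⟨hr.ne_zero⟩
  obtain ⟨l, -, hl⟩ := hprim.eq_pow_of_pow_eq_one (ξ := ⟨k.1, hk⟩) (by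
    apply Subtype.ext
    change k.1 ^ r = 1
    rw [← Units.val_pow_eq_pow_val, hkr]; rfl)
  refine ⟨l, Units.ext ?_⟩
  rw [Units.val_pow_eq_pow_val]
  exact (congrArg Subtype.val hl).symm

/-- eigenvectors for different eigenvalues are independent -/
theorem eig_indep [Nontrivial V] (h : IsF K) {z : AU V} (hz : ∀ a ∈ K, ∀ x, z.1 (a x) = a (z.1 x))
    {ι : Type*} {s : Finset ι} {lam : ι → AddMonoid.End V} (hlam : ∀ i ∈ s, lam i ∈ K)
    (hinj : ∀ i ∈ s, ∀ j ∈ s, lam i = lam j → i = j) {u : ι → V}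
    (hu : ∀ i ∈ s, z.1 (u i) = lam i (u i)) (h0 : ∑ i ∈ s, u i = 0) : ∀ i ∈ s, u i = 0 := by
  classical
  induction s using Finset.induction_on generalizing u with
  | empty => simp
  | insert i₀ s hi₀ ih =>
    rw [Finset.sum_insert hi₀] at h0
    have hK0 := hlam i₀ (Finset.mem_insert_self i₀ s)
    have hKs : ∀ i ∈ s, lam i ∈ K := fun i hi => hlam i (Finset.mem_insert_of_mem hi)
    have hus : ∀ i ∈ s, z.1 (u i) = lam i (u i) := fun i hi => hu i (Finset.mem_insert_of_mem hi)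
    have h1 : ∑ i ∈ s, (lam i - lam i₀) (u i) = 0 := by
      have h2 : z.1 (u i₀ + ∑ i ∈ s, u i) = 0 := by rw [h0, map_zero]
      have h3 : lam i₀ (u i₀ + ∑ i ∈ s, u i) = 0 := by rw [h0, map_zero]
      rw [map_add, map_sum] at h2 h3
      rw [hu i₀ (Finset.mem_insert_self i₀ s)] at h2
      rw [← h3] at h2
      have h4 := add_left_cancel h2
      have h5 : ∑ i ∈ s, (lam i - lam i₀) (u i) = ∑ i ∈ s, (z.1 (u i) - lam i₀ (u i)) := by
        refine Finset.sum_congr rfl fun i hi => ?_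
        rw [hus i hi]; rfl
      rw [h5, Finset.sum_sub_distrib, h4, sub_self]
    have h2 := ih hKs (fun i hi j hj => hinj i (Finset.mem_insert_of_mem hi) j
      (Finset.mem_insert_of_mem hj)) (u := fun i => (lam i - lam i₀) (u i)) (fun i hi => by
        rw [hz _ (K.sub_mem (hKs i hi) hK0), hus i hi]
        exact DFunLike.congr_fun (h.comm _ (K.sub_mem (hKs i hi) hK0) _ (hKs i hi)) (u i)) h1
    have h3 : ∀ i ∈ s, u i = 0 := by
      intro i hi
      by_contra hne
      have h4 := h.eq_zero (K.sub_mem (hKs i hi) hK0) hne (h2 i hi)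
      have h5 := hinj i (Finset.mem_insert_of_mem hi) i₀ (Finset.mem_insert_self i₀ s)
        (sub_eq_zero.mp h4)
      exact hi₀ (h5 ▸ hi)
    intro i hi
    rcases Finset.mem_insert.mp hi with rfl | hi
    · rw [Finset.sum_eq_zero h3, add_zero] at h0
      exact h0
    · exact h3 i hi

end IsF

namespace Dat

variable {G : Subgroup (AU V)} {D : Dat G}

theorem cm_pow_left {x y : AU V} (hx : x ∈ D.E) (hy : y ∈ D.E) (n : ℕ) :
    cm (x ^ n) y = cm x y ^ n := by
  induction n with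
  | zero => rw [pow_zero, pow_zero]; unfold cm; group
  | succ n ih => rw [pow_succ, cm_mul_left (D.E.pow_mem hx n) hx hy, ih, pow_succ]

theorem cm_pow_right {x y : AU V} (hx : x ∈ D.E) (hy : y ∈ D.E) (n : ℕ) :
    cm x (y ^ n) = cm x y ^ n := by
  induction n with
  | zero => rw [pow_zero, pow_zero]; unfold cm; group
  | succ n ih => rw [pow_succ, cm_mul_right hx (D.E.pow_mem hy n) hy, ih, pow_succ]

theorem cm_inv_left {x y : AU V} (hx : x ∈ D.E) (hy : y ∈ D.E) :
    cm x⁻¹ y = (cm x y)⁻¹ := by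
  have h := cm_mul_left (D.E.inv_mem hx) hx hy
  rw [inv_mul_cancel] at h
  have h1 : cm (1 : AU V) y = 1 := by unfold cm; group
  rw [h1] at h
  exact eq_inv_of_mul_eq_one_left h.symm

theorem cm_inv_right {x y : AU V} (hx : x ∈ D.E) (hy : y ∈ D.E) :
    cm x y⁻¹ = (cm x y)⁻¹ := by
  have h := cm_mul_right hx (D.E.inv_mem hy) hy
  rw [inv_mul_cancel] at h
  have h1 : cm x (1 : AU V) = 1 := by unfold cm; group
  rw [h1] at h
  exact eq_inv_of_mul_eq_one_left h.symm

/-- product of two elements of odd prime exponent -/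
theorem mul_pow_odd {x y : AU V} (hx : x ∈ D.E) (hy : y ∈ D.E) {r : ℕ} (hr : Odd r)
    (hxr : x ^ r = 1) (hyr : y ^ r = 1) : (x * y) ^ r = 1 := by
  have hcK := cm_K hy hx
  have hc : y * x = cm y x * (x * y) := cm_mul y x
  have h1 := class2_pow x y (cm y x) hc (D.EKu hx hcK).symm (D.EKu hy hcK).symm r
  have h2 : cm y x ^ r = 1 := by
    rw [← cm_pow_left hy hx, hyr]; unfold cm; group
  obtain ⟨m, hm⟩ := hr
  have h3 : r * (r - 1) / 2 = r * m := by
    rw [show r - 1 = 2 * m by omega, show r * (2 * m) = 2 * (r * m) by ring]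
    omega
  rw [h1, h3, pow_mul, h2, one_pow, hxr, hyr, one_mul, one_mul]

theorem eq_one_of_fix {v : V} (hv : v ≠ 0) {k : AU V} (hk : k.1 ∈ D.K) (h : k.1 v = v) : k = 1 :=
  Units.ext (D.isF.eq_of_apply hk D.K.one_mem hv h)

variable [Nontrivial V] [Finite V]

/-- the elements `z`, `f` of odd prime order -/
theorem exists_zf {v₀ : V} (hv₀ : D.IsMax v₀) {x : AU V} (hx : x ∈ D.E) (hx2 : (x ^ 2).1 ∉ D.K) :
    ∃ r : ℕ, r.Prime ∧ r ≠ 2 ∧ ∃ z ∈ D.E, ∃ f ∈ D.E, z.1 v₀ = v₀ ∧ z ^ r = 1 ∧ f ^ r = 1 ∧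
      cm z f ≠ 1 := by
  obtain ⟨s, hs, -, hsE⟩ := D.sqf
  have h1 : x ^ 2 ∉ D.isF.units := hx2
  obtain ⟨r, hr, hrs, hxr⟩ := exists_prime_power_not_mem h1 hs
    (D.isF.units.pow_mem (hsE x hx) 2 |> fun h => by
      rw [← pow_mul, mul_comm, pow_mul] at h; exact h)
  have hr2 : r ≠ 2 := by
    rintro rfl
    apply hxr
    rw [← pow_mul, Nat.mul_div_cancel' hrs]
    exact hsE x hx
  obtain ⟨t, rfl⟩ := hrs
  rw [Nat.mul_div_cancel_left t hr.pos] at hxr
  have hrt : Nat.Coprime r t := by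
    rw [Nat.squarefree_mul_iff] at hs
    exact hs.1
  have hyE : (x ^ 2) ^ t ∈ D.E := D.E.pow_mem (D.E.pow_mem hx 2) t
  have hyr : (((x ^ 2) ^ t) ^ r).1 ∈ D.K := by
    have h2 : ((x ^ 2) ^ t) ^ r = (x ^ (r * t)) ^ 2 := by
      rw [← pow_mul, ← pow_mul, ← pow_mul]; congr 1; ring
    rw [h2]
    exact D.isF.units.pow_mem (hsE x hx) 2
  have hstar : ∀ y ∈ D.E, (y ^ r).1 ∈ D.K → ∃ k : AU V, k.1 ∈ D.K ∧ (k * y) ^ r = 1 := by
    intro y hy hyr
    obtain ⟨k, hk, h | ⟨h, -⟩⟩ := D.star y hy r hr hyr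
    · exact ⟨k, hk, h⟩
    · exact absurd h hr2
  obtain ⟨k, hk, hky⟩ := hstar _ hyE hyr
  obtain ⟨y, hy⟩ : ∃ y, y = k * (x ^ 2) ^ t := ⟨_, rfl⟩
  have hyE' : y ∈ D.E := by rw [hy]; exact D.E.mul_mem (D.KE k hk) hyE
  have hy1 : y ^ r = 1 := by rw [hy]; exact hky
  have hyK : y.1 ∉ D.K := by
    intro h
    apply hxr
    have h2 : y ∈ D.isF.units := h
    rw [hy] at h2
    exact (D.isF.units.mul_mem_cancel_left (x := k) hk).mp h2
  have hcop : ∀ c : AU V, c ^ r = 1 → c ^ t = 1 → c = 1 := by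
    intro c h1 h2
    have := mem_of_coprime (Z := (⊥ : Subgroup (AU V))) hrt (by
      rw [Subgroup.mem_bot]; exact h1) (by rw [Subgroup.mem_bot]; exact h2)
    rwa [Subgroup.mem_bot] at this
  -- `z`
  obtain ⟨z, hz, hzv, hzr, hz1⟩ : ∃ z ∈ D.E, z.1 v₀ = v₀ ∧ z ^ r = 1 ∧ z ≠ 1 := by
    by_contra hcon
    push Not at hcon
    have hyQ : y ∈ D.Q v₀ := by
      refine ⟨hyE', fun a ha hav => ?_⟩
      have h2 : a ^ (r * t) = 1 := by
        apply eq_one_of_fix hv₀.ne (hsE a ha)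
        have : ∀ n : ℕ, (a ^ n).1 v₀ = v₀ := by
          intro n
          induction n with
          | zero => rfl
          | succ n ih => rw [pow_succ, au_mul_apply, hav, ih]
        exact this _
      have h3 : a ^ t = 1 := by
        apply hcon (a ^ t) (D.E.pow_mem ha t)
        · have : ∀ n : ℕ, (a ^ n).1 v₀ = v₀ := by
            intro n
            induction n with
            | zero => rfl
            | succ n ih => rw [pow_succ, au_mul_apply, hav, ih]
          exact this _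
        · rw [← pow_mul, mul_comm, h2]
      have h4 : cm a y ^ t = 1 := by
        rw [← cm_pow_left ha hyE', h3]; unfold cm; group
      have h5 : cm a y ^ r = 1 := by
        rw [← cm_pow_right ha hyE', hy1]; unfold cm; group
      exact (cm_eq_one.mp (hcop _ h5 h4)).symm
    obtain ⟨-, l, hl, h2⟩ := B_of_pow hv₀ hyQ hr hy1
    have hli : (l⁻¹).1 ∈ D.K := D.isF.units.inv_mem (x := l) hl
    have hc : Commute l⁻¹ y := (D.EKu hyE' hli).symm
    have h3 : (l⁻¹ * y).1 v₀ = v₀ := by rw [au_mul_apply, h2, au_inv_apply]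
    have h4 : (l⁻¹ * y) ^ r = 1 := by
      have h5 : (l⁻¹ * y) ^ r = l⁻¹ ^ r := by rw [hc.mul_pow, hy1, mul_one]
      apply eq_one_of_fix hv₀.ne
      · rw [h5]; exact D.isF.units.pow_mem (x := l⁻¹) hli r
      · have : ∀ n : ℕ, ((l⁻¹ * y) ^ n).1 v₀ = v₀ := by
          intro n
          induction n with
          | zero => rfl
          | succ n ih => rw [pow_succ, au_mul_apply, h3, ih]
        exact this _
    have h5 := hcon _ (D.E.mul_mem (D.KE _ hli) hyE') h3 h4
    apply hyK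
    have h6 : y = l := (inv_mul_eq_one.mp h5).symm
    rw [h6]; exact hl
  have hzK : z.1 ∉ D.K := fun h => hz1 (eq_one_of_fix hv₀.ne h hzv)
  obtain ⟨f', hf', hzf'⟩ : ∃ f' ∈ D.E, cm z f' ≠ 1 := by
    by_contra hcon
    push Not at hcon
    exact hzK (D.center z hz fun y hy => cm_eq_one.mp (hcon y hy))
  have hc1 : cm z f' ^ r = 1 := by
    rw [← cm_pow_left hz hf', hzr]; unfold cm; group
  obtain ⟨l, hl, hlf⟩ := hstar (f' ^ t) (D.E.pow_mem hf' t) (by
    rw [← pow_mul, mul_comm]; exact hsE f' hf')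
  refine ⟨r, hr, hr2, z, hz, l * f' ^ t, D.E.mul_mem (D.KE l hl) (D.E.pow_mem hf' t), hzv, hzr,
    hlf, ?_⟩
  rw [cm_mul_right hz (D.KE l hl) (D.E.pow_mem hf' t), cm_K_right hl hz, one_mul,
    cm_pow_right hz hf']
  intro h
  exact hzf' (hcop _ hc1 h)

end Dat

end Cfsg.Agent.H578
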