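import Cfsg.Agent.H578.OddI

/-!
# Primitive coprime linear groups, `E / K` not a 2-group (helper578)
-/

set_option autoImplicit false
set_option linter.unusedSectionVars false

universe u

namespace Cfsg.Agent.H578

variable {V : Type u} [AddCommGroup V]

namespace Dat

/-- the setup for an odd prime `r` -/
structure OS {G : Subgroup (AU V)} (D : Dat G) (r : ℕ) (v₀ : V) (z f : AU V) : Prop where
  hr : r.Prime
  hr2 : r ≠ 2
  mx : D.IsMax v₀
  hz : z ∈ D.E
  hf : f ∈ D.E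
  zv : z.1 v₀ = v₀
  zr : z ^ r = 1
  fr : f ^ r = 1
  zf : cm z f ≠ 1
  two : (1 : AU V) ≠ -1

variable {G : Subgroup (AU V)} {D : Dat G} {r : ℕ} {v₀ : V} {z f : AU V}

namespace OS

variable (h : D.OS r v₀ z f)
include h

theorem odd : Odd r := h.hr.eq_two_or_odd'.resolve_left h.hr2

theorem two_lt : 2 < r := lt_of_le_of_ne h.hr.two_le h.hr2.symm

theorem wK : (cm z f).1 ∈ D.K := cm_K h.hz h.hf

theorem wr : cm z f ^ r = 1 := by
  rw [← cm_pow_left h.hz h.hf, h.zr]; unfold cm; group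

theorem wpow {i j : ℕ} (hi : i < r) (hj : j < r) (hij : cm z f ^ i = cm z f ^ j) : i = j := by
  have hrf : Fact r.Prime := ⟨h.hr⟩
  have h1 : orderOf (cm z f) = r := orderOf_eq_prime h.wr h.zf
  exact pow_injOn_Iio_orderOf (by rw [h1]; exact hi) (by rw [h1]; exact hj) hij

variable [Nontrivial V] [Finite V]

theorem root {k : AU V} (hk : k.1 ∈ D.K) (hkr : k ^ r = 1) : ∃ l : ℕ, k = cm z f ^ l :=
  D.isF.roots h.hr h.wK hk h.zf h.wr hkr

theorem zK : ∀ a ∈ D.K, ∀ x, z.1 (a x) = a (z.1 x) := fun _ ha x => D.EK' h.hz ha x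

/-- `z` acts on `x u` -/
theorem z_apply {x : AU V} (hx : x ∈ D.E) {u : V} {k : AU V} (hk : k.1 ∈ D.K)
    (hu : z.1 u = k.1 u) : z.1 (x.1 u) = (cm z x * k).1 (x.1 u) := by
  have h1 : z * x = cm z x * (x * z) := cm_mul z x
  rw [← au_mul_apply, h1, au_mul_apply, au_mul_apply, hu, D.EK' hx hk, au_mul_apply]

theorem z_apply₀ {x : AU V} (hx : x ∈ D.E) : z.1 (x.1 v₀) = (cm z x).1 (x.1 v₀) := by
  have := h.z_apply hx (u := v₀) (k := 1) D.K.one_mem (by rw [h.zv]; rfl)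
  rwa [mul_one] at this

theorem cm_fpow (j : ℕ) : cm z (f ^ j) = cm z f ^ j := cm_pow_right h.hz h.hf j

/-- the stabiliser of `v₀` is generated by `z` and the elements commuting with `f` -/
theorem dec {a : AU V} (ha : a ∈ D.E) (hav : a.1 v₀ = v₀) :
    ∃ l : ℕ, ∃ b ∈ D.E, a = z ^ l * b ∧ b.1 v₀ = v₀ ∧ cm b f = 1 := by
  have h1 : cm a f ^ r = 1 := by
    rw [← cm_pow_right ha h.hf, h.fr]; unfold cm; group
  obtain ⟨l, hl⟩ := h.root (cm_K ha h.hf) h1
  have hzl : ((z ^ l)⁻¹).1 v₀ = v₀ := by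
    apply au_injective (z ^ l)
    rw [au_apply_inv]
    have : ∀ n : ℕ, (z ^ n).1 v₀ = v₀ := by
      intro n
      induction n with
      | zero => rfl
      | succ n ih => rw [pow_succ, au_mul_apply, h.zv, ih]
    exact (this l).symm
  refine ⟨l, (z ^ l)⁻¹ * a, D.E.mul_mem (D.E.inv_mem (D.E.pow_mem h.hz l)) ha, by group, ?_, ?_⟩
  · rw [au_mul_apply, hav, hzl]
  · rw [cm_mul_left (D.E.inv_mem (D.E.pow_mem h.hz l)) ha h.hf,
      cm_inv_left (D.E.pow_mem h.hz l) h.hf, cm_pow_left h.hz h.hf, hl, inv_mul_cancel]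

/-- the vector -/
theorem vne : v₀ + f.1 v₀ ≠ 0 := by
  intro h0
  have h1 : f.1 v₀ = -v₀ := eq_neg_of_add_eq_zero_right h0
  have h2 := h.z_apply₀ h.hf
  rw [h1, map_neg, map_neg, h.zv] at h2
  have h3 := neg_injective h2
  exact h.zf (eq_one_of_fix h.mx.ne h.wK h3.symm)

/-- components with respect to `z` -/
theorem comps {u u' : ℕ → V} (hu : ∀ j < r, z.1 (u j) = (cm z f ^ j).1 (u j))
    (hu' : ∀ j < r, z.1 (u' j) = (cm z f ^ j).1 (u' j))
    (h0 : ∑ j ∈ Finset.range r, u j = ∑ j ∈ Finset.range r, u' j) : ∀ j < r, u j = u' j := by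
  have h1 := D.isF.eig_indep h.zK (s := Finset.range r) (lam := fun j => (cm z f ^ j).1)
    (u := fun j => u j - u' j)
    (fun j _ => D.isF.units.pow_mem (x := cm z f) h.wK j)
    (fun i hi j hj hij => h.wpow (Finset.mem_range.mp hi) (Finset.mem_range.mp hj)
      (Units.ext hij))
    (fun j hj => by
      rw [map_sub, hu j (Finset.mem_range.mp hj), hu' j (Finset.mem_range.mp hj), map_sub])
    (by rw [Finset.sum_sub_distrib, h0, sub_self])
  intro j hj
  exact sub_eq_zero.mp (h1 j (Finset.mem_range.mpr hj))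

/-- the stabiliser of `v₀ + f v₀` -/
theorem stab_v {x : AU V} (hx : x ∈ D.E) (hxv : x.1 (v₀ + f.1 v₀) = v₀ + f.1 v₀) :
    x.1 v₀ = v₀ ∧ cm x f = 1 := by
  -- eigenvalues of `z`
  have hc := cm_K h.hz hx
  have hcr : cm z x ^ r = 1 := by
    rw [← cm_pow_left h.hz hx, h.zr]; unfold cm; group
  obtain ⟨l, hl⟩ := h.root hc hcr
  have e1 := h.z_apply₀ hx
  have e2 := h.z_apply₀ (D.E.mul_mem hx h.hf)
  rw [cm_mul_right h.hz hx h.hf, au_mul_apply] at e2
  have e3 := h.z_apply₀ h.hf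
  rw [map_add] at hxv
  -- apply `z - 1`
  have e4 : (cm z x).1 (x.1 v₀) + (cm z x * cm z f).1 (x.1 (f.1 v₀)) =
      v₀ + (cm z f).1 (f.1 v₀) := by
    rw [← e1, ← e2, ← map_add, hxv, map_add, h.zv, e3]
  by_cases hc1 : cm z x = 1
  · -- `x` commutes with `z`
    rw [hc1, one_mul] at e4
    have e5 : ((cm z f).1 - 1) (x.1 (f.1 v₀)) = ((cm z f).1 - 1) (f.1 v₀) := by
      change (cm z f).1 (x.1 (f.1 v₀)) - x.1 (f.1 v₀) = (cm z f).1 (f.1 v₀) - f.1 v₀
      have a1 : x.1 v₀ + (cm z f).1 (x.1 (f.1 v₀)) = v₀ + (cm z f).1 (f.1 v₀) := e4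
      rw [sub_eq_sub_iff_add_eq_add]
      have a2 : x.1 v₀ = v₀ + f.1 v₀ - x.1 (f.1 v₀) := by rw [← hxv]; abel
      rw [a2] at a1
      have a3 : (cm z f).1 (x.1 (f.1 v₀)) =
          (v₀ + f.1 v₀ - x.1 (f.1 v₀) + (cm z f).1 (x.1 (f.1 v₀))) -
            (v₀ + f.1 v₀ - x.1 (f.1 v₀)) := by abel
      rw [a3, a1]; abel
    have hne : (cm z f).1 - 1 ≠ 0 := fun h0 => h.zf (Units.ext (sub_eq_zero.mp h0))
    obtain ⟨k, hk⟩ := D.isF.exists_unit (D.K.sub_mem h.wK D.K.one_mem) hne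
    rw [← hk] at e5
    have e6 := au_injective k e5
    have e7 : x.1 v₀ = v₀ := by
      rw [e6] at hxv
      exact add_right_cancel hxv
    refine ⟨e7, ?_⟩
    apply eq_one_of_fix (v := f.1 (x.1 v₀)) ?_ (cm_K hx h.hf)
    · rw [← au_mul_apply f x, ← au_mul_apply, ← cm_mul, au_mul_apply, e6, au_mul_apply f x, e7]
    · intro h0
      apply h.mx.ne
      apply au_injective x
      apply au_injective f
      rw [h0, map_zero, map_zero]
  · exfalso
    -- either `cm z x = w` or `cm z x * w = 1`; in each case compare components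
    have hr2 := h.two_lt
    -- the four eigenvalues are `c, c w` and `1, w`
    have key : ∀ i j : ℕ, ∀ u : V, z.1 u = (cm z f ^ i).1 u → z.1 u = (cm z f ^ j).1 u → u ≠ 0 →
        cm z f ^ i = cm z f ^ j := by
      intro i j u h1 h2 hu
      rw [h1] at h2
      exact Units.ext (D.isF.eq_of_apply (D.isF.units.pow_mem (x := cm z f) h.wK i)
        (D.isF.units.pow_mem (x := cm z f) h.wK j) hu h2)
    -- `(z - c)(z - c w)` kills `v₀ + f v₀`
    have hcK := hc
    have hcw : (cm z x * cm z f).1 ∈ D.K := D.K.mul_mem hc h.wK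
    have p1 : z.1 (z.1 (x.1 v₀ + x.1 (f.1 v₀))) - (cm z x).1 (z.1 (x.1 v₀ + x.1 (f.1 v₀))) -
        (cm z x * cm z f).1 (z.1 (x.1 v₀ + x.1 (f.1 v₀))) +
        (cm z x).1 ((cm z x * cm z f).1 (x.1 v₀ + x.1 (f.1 v₀))) = 0 := by
      have q1 : (cm z x).1 ((cm z x * cm z f).1 (x.1 v₀)) =
          (cm z x * cm z f).1 ((cm z x).1 (x.1 v₀)) :=
        DFunLike.congr_fun (D.isF.comm _ hcK _ hcw) _
      rw [map_add z.1, e1, e2, map_add z.1, h.zK _ hcK, h.zK _ hcw, e1, e2]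
      simp only [map_add]
      rw [q1]
      abel
    rw [hxv, map_add, map_add, h.zv, e3, h.zK _ h.wK, e3, h.zv] at p1
    -- component at `v₀`: `(1 - c)(1 - c w) v₀`, component at `f v₀`
    have m0 : v₀ - (cm z x).1 v₀ - (cm z x * cm z f).1 v₀ + (cm z x).1 ((cm z x * cm z f).1 v₀) =
        (((1 : AddMonoid.End V) - (cm z x).1) * (1 - (cm z x * cm z f).1)) v₀ := by
      change _ = (v₀ - (cm z x * cm z f).1 v₀) - (cm z x).1 (v₀ - (cm z x * cm z f).1 v₀)
      rw [map_sub]; abel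
    have m1 : (cm z f).1 ((cm z f).1 (f.1 v₀)) - (cm z x).1 ((cm z f).1 (f.1 v₀)) -
        (cm z x * cm z f).1 ((cm z f).1 (f.1 v₀)) + (cm z x).1 ((cm z x * cm z f).1 (f.1 v₀)) =
        (((cm z f).1 - (cm z x).1) * ((cm z f).1 - (cm z x * cm z f).1)) (f.1 v₀) := by
      change _ = (cm z f).1 ((cm z f).1 (f.1 v₀) - (cm z x * cm z f).1 (f.1 v₀)) -
        (cm z x).1 ((cm z f).1 (f.1 v₀) - (cm z x * cm z f).1 (f.1 v₀))
      rw [map_sub, map_sub]
      have q2 : (cm z x * cm z f).1 ((cm z f).1 (f.1 v₀)) =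
          (cm z f).1 ((cm z x * cm z f).1 (f.1 v₀)) :=
        DFunLike.congr_fun (D.isF.comm _ hcw _ h.wK) _
      rw [q2]; abel
    have p2 : (((1 : AddMonoid.End V) - (cm z x).1) * (1 - (cm z x * cm z f).1)) v₀ +
        (((cm z f).1 - (cm z x).1) * ((cm z f).1 - (cm z x * cm z f).1)) (f.1 v₀) = 0 := by
      rw [← m0, ← m1, ← p1]
      simp only [map_add]
      abel
    have hK0 : ((1 : AddMonoid.End V) - (cm z x).1) * (1 - (cm z x * cm z f).1) ∈ D.K :=
      D.K.mul_mem (D.K.sub_mem D.K.one_mem hcK) (D.K.sub_mem D.K.one_mem hcw)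
    have hK1 : ((cm z f).1 - (cm z x).1) * ((cm z f).1 - (cm z x * cm z f).1) ∈ D.K :=
      D.K.mul_mem (D.K.sub_mem h.wK hcK) (D.K.sub_mem h.wK hcw)
    -- independence of the two eigenvectors
    have p3 := congrArg z.1 p2
    rw [map_add, map_zero, h.zK _ hK0, h.zK _ hK1, h.zv, e3] at p3
    have p4 : (((cm z f).1 - (cm z x).1) * ((cm z f).1 - (cm z x * cm z f).1))
        ((cm z f).1 (f.1 v₀) - f.1 v₀) = 0 := by
      rw [map_sub]
      have := congrArg₂ (· - ·) p3 p2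
      simp only [sub_self, add_sub_add_left_eq_sub] at this
      exact this
    have hfv : (cm z f).1 (f.1 v₀) - f.1 v₀ ≠ 0 := by
      intro h0
      apply h.zf
      apply eq_one_of_fix (v := f.1 v₀) ?_ h.wK (sub_eq_zero.mp h0)
      intro h1
      apply h.mx.ne
      apply au_injective f
      rw [h1, map_zero]
    have p5 := D.isF.eq_zero hK1 hfv p4
    rw [p5] at p2
    have p6 : (((1 : AddMonoid.End V) - (cm z x).1) * (1 - (cm z x * cm z f).1)) v₀ = 0 := by
      rw [← p2]; exact (add_zero _).symm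
    have p7 := D.isF.eq_zero hK0 h.mx.ne p6
    have hA : cm z x * cm z f = 1 := by
      rcases D.isF.mul_eq_zero (D.K.sub_mem D.K.one_mem hcK) p7 with h1 | h1
      · exact absurd (Units.ext (sub_eq_zero.mp h1)).symm hc1
      · exact (Units.ext (sub_eq_zero.mp h1)).symm
    have hB : cm z x = cm z f := by
      rcases D.isF.mul_eq_zero (D.K.sub_mem h.wK hcK) p5 with h1 | h1
      · exact (Units.ext (sub_eq_zero.mp h1)).symm
      · exfalso
        apply hc1
        have h2 : cm z f = cm z x * cm z f := Units.ext (sub_eq_zero.mp h1)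
        exact mul_eq_right.mp h2.symm
    rw [hB, ← pow_two] at hA
    have := h.wpow (i := 2) (j := 0) hr2 h.hr.pos (by rw [hA, pow_zero])
    omega

end OS

end Dat

end Cfsg.Agent.H578
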