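import Cfsg.Agent.H578.OddII
import Cfsg.Agent.H578.Three

/-!
# Primitive coprime linear groups, `E / K` not a 2-group: the stabiliser (helper578)
-/

set_option autoImplicit false
set_option linter.unusedSectionVars false

universe u

namespace Cfsg.Agent.H578

variable {V : Type u} [AddCommGroup V]

/-- two decompositions into two eigenvectors -/
theorem IsF.two_eig {K : Subring (AddMonoid.End V)} [Nontrivial V] (h : IsF K) {z : AU V}
    (hz : ∀ a ∈ K, ∀ x, z.1 (a x) = a (z.1 x)) {p q p' q' : V} {l m l' m' : AU V}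
    (hl : l.1 ∈ K) (hm : m.1 ∈ K) (hl' : l'.1 ∈ K) (hm' : m'.1 ∈ K)
    (hp : z.1 p = l.1 p) (hq : z.1 q = m.1 q) (hp' : z.1 p' = l'.1 p') (hq' : z.1 q' = m'.1 q')
    (hlm : l ≠ m) (hlm' : l' ≠ m') (hp0 : p ≠ 0) (hq0 : q ≠ 0) (hsum : p + q = p' + q') :
    (p = p' ∧ q = q' ∧ l = l' ∧ m = m') ∨ (p = q' ∧ q = p' ∧ l = m' ∧ m = l') := by
  have hc : ∀ {a b : AU V}, a.1 ∈ K → b.1 ∈ K → ∀ x, a.1 (b.1 x) = b.1 (a.1 x) :=
    fun {a b} ha hb x => DFunLike.congr_fun (h.comm _ ha _ hb) x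
  -- `(z - l')(z - m')` kills the sum
  have e1 : z.1 (z.1 (p' + q')) - l'.1 (z.1 (p' + q')) - m'.1 (z.1 (p' + q')) +
      l'.1 (m'.1 (p' + q')) = 0 := by
    rw [map_add z.1, hp', hq', map_add z.1, hz _ hl', hz _ hm', hp', hq']
    simp only [map_add]
    rw [hc hm' hl' p']
    abel
  rw [← hsum, map_add z.1, hp, hq, map_add z.1, hz _ hl, hz _ hm, hp, hq] at e1
  have m0 : l.1 (l.1 p) - l'.1 (l.1 p) - m'.1 (l.1 p) + l'.1 (m'.1 p) =
      ((l.1 - l'.1) * (l.1 - m'.1)) p := by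
    change _ = l.1 (l.1 p - m'.1 p) - l'.1 (l.1 p - m'.1 p)
    rw [map_sub, map_sub, hc hm' hl p]; abel
  have m1 : m.1 (m.1 q) - l'.1 (m.1 q) - m'.1 (m.1 q) + l'.1 (m'.1 q) =
      ((m.1 - l'.1) * (m.1 - m'.1)) q := by
    change _ = m.1 (m.1 q - m'.1 q) - l'.1 (m.1 q - m'.1 q)
    rw [map_sub, map_sub, hc hm' hm q]; abel
  have e2 : ((l.1 - l'.1) * (l.1 - m'.1)) p + ((m.1 - l'.1) * (m.1 - m'.1)) q = 0 := by
    rw [← m0, ← m1, ← e1]
    simp only [map_add]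
    abel
  have hK0 : (l.1 - l'.1) * (l.1 - m'.1) ∈ K :=
    K.mul_mem (K.sub_mem hl hl') (K.sub_mem hl hm')
  have hK1 : (m.1 - l'.1) * (m.1 - m'.1) ∈ K :=
    K.mul_mem (K.sub_mem hm hl') (K.sub_mem hm hm')
  have e3 := congrArg z.1 e2
  rw [map_add, map_zero, hz _ hK0, hz _ hK1, hp, hq] at e3
  have e4 := congrArg l.1 e2
  rw [map_add, map_zero] at e4
  have c0 : l.1 (((l.1 - l'.1) * (l.1 - m'.1)) p) = ((l.1 - l'.1) * (l.1 - m'.1)) (l.1 p) :=
    DFunLike.congr_fun (h.comm _ hl _ hK0) p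
  have c1 : l.1 (((m.1 - l'.1) * (m.1 - m'.1)) q) = ((m.1 - l'.1) * (m.1 - m'.1)) (l.1 q) :=
    DFunLike.congr_fun (h.comm _ hl _ hK1) q
  rw [c0, c1] at e4
  have e5 : ((m.1 - l'.1) * (m.1 - m'.1)) (m.1 q - l.1 q) = 0 := by
    rw [map_sub]
    have := congrArg₂ (· - ·) e3 e4
    simp only [sub_self, add_sub_add_left_eq_sub] at this
    exact this
  have hmq : m.1 q - l.1 q ≠ 0 := by
    intro h0
    apply hlm
    exact (Units.ext (h.eq_of_apply hm hl hq0 (sub_eq_zero.mp h0))).symm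
  have e6 := h.eq_zero hK1 hmq e5
  rw [e6] at e2
  have e7 : ((l.1 - l'.1) * (l.1 - m'.1)) p = 0 := by rw [← e2]; exact (add_zero _).symm
  have e8 := h.eq_zero hK0 hp0 e7
  have f1 : l = l' ∨ l = m' := by
    rcases h.mul_eq_zero (K.sub_mem hl hl') e8 with h1 | h1
    · left; exact Units.ext (sub_eq_zero.mp h1)
    · right; exact Units.ext (sub_eq_zero.mp h1)
  have f2 : m = l' ∨ m = m' := by
    rcases h.mul_eq_zero (K.sub_mem hm hl') e6 with h1 | h1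
    · left; exact Units.ext (sub_eq_zero.mp h1)
    · right; exact Units.ext (sub_eq_zero.mp h1)
  -- the final comparison
  have hfin : ∀ {a b : AU V}, a.1 ∈ K → b.1 ∈ K → a ≠ b → ∀ {x y x' y' : V},
      z.1 x = a.1 x → z.1 y = b.1 y → z.1 x' = a.1 x' → z.1 y' = b.1 y' → x + y = x' + y' →
      x = x' := by
    intro a b ha hb hab x y x' y' h1 h2 h3 h4 h5
    have h6 : (a.1 - b.1) (x - x') = 0 := by
      have h7 : a.1 (x - x') = b.1 (x - x') := by
        have h8 : x - x' = y' - y := by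
          rw [sub_eq_sub_iff_add_eq_add, h5, add_comm]
        have h9 : z.1 (x - x') = a.1 (x - x') := by rw [map_sub, h1, h3, map_sub]
        have h10 : z.1 (x - x') = b.1 (x - x') := by rw [h8, map_sub, h2, h4, map_sub]
        rw [← h9, h10]
      change a.1 (x - x') - b.1 (x - x') = 0
      rw [h7, sub_self]
    by_contra hne
    apply hab
    have h11 := h.eq_zero (K.sub_mem ha hb) (sub_ne_zero.mpr hne) h6
    exact Units.ext (sub_eq_zero.mp h11)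
  rcases f1 with rfl | rfl <;> rcases f2 with rfl | rfl
  · exact absurd rfl hlm
  · left
    have h1 := hfin hl hm hlm hp hq hp' hq' hsum
    refine ⟨h1, ?_, rfl, rfl⟩
    rw [h1] at hsum
    exact add_left_cancel hsum
  · right
    have h1 := hfin hl hm hlm hp hq hq' hp' (by rw [hsum, add_comm])
    refine ⟨h1, ?_, rfl, rfl⟩
    rw [h1, add_comm] at hsum
    exact add_right_cancel hsum
  · exact absurd rfl hlm

namespace Dat.OS

variable {G : Subgroup (AU V)} {D : Dat G} {r : ℕ} {v₀ : V} {z f : AU V}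
  [Nontrivial V] [Finite V] (h : D.OS r v₀ z f)
include h

omit [Finite V] in
theorem cm_fix {a b : AU V} (ha : a ∈ D.E) (hb : b ∈ D.E) (hav : a.1 v₀ = v₀)
    (hbv : b.1 v₀ = v₀) : cm a b = 1 := by
  apply eq_one_of_fix h.mx.ne (cm_K ha hb)
  have h1 : (b⁻¹).1 v₀ = v₀ := by apply au_injective b; rw [au_apply_inv, hbv]
  have h2 : (a⁻¹).1 v₀ = v₀ := by apply au_injective a; rw [au_apply_inv, hav]
  unfold cm
  rw [au_mul_apply, au_mul_apply, au_mul_apply, h1, h2, hbv, hav]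

/-- membership in `Q v₀` -/
theorem mem_Q₀ {y : AU V} (hy : y ∈ D.E) (h1 : cm z y = 1)
    (h2 : ∀ b ∈ D.E, b.1 v₀ = v₀ → cm b f = 1 → cm b y = 1) : y ∈ D.Q v₀ := by
  refine ⟨hy, fun a ha hav => ?_⟩
  obtain ⟨l, b, hb, rfl, hbv, hbf⟩ := h.dec ha hav
  have e1 : cm (z ^ l * b) y = 1 := by
    rw [cm_mul_left (D.E.pow_mem h.hz l) hb hy, cm_pow_left h.hz hy, h1, one_pow, one_mul,
      h2 b hb hbv hbf]
  exact (cm_eq_one.mp e1).symm

/-- elements of `E` commuting with `f` and fixing `v₀` fix `v` -/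
theorem fix_v {b : AU V} (hbv : b.1 v₀ = v₀) (hbf : cm b f = 1) :
    b.1 (v₀ + f.1 v₀) = v₀ + f.1 v₀ := by
  have h1 := cm_eq_one.mp hbf
  rw [map_add, ← au_mul_apply, h1, au_mul_apply, hbv]

theorem f_Q : f ∈ D.Q (v₀ + f.1 v₀) := by
  refine ⟨h.hf, fun a ha hav => ?_⟩
  exact (cm_eq_one.mp (h.stab_v ha hav).2).symm

theorem z_Q : z ∈ D.Q (v₀ + f.1 v₀) := by
  refine ⟨h.hz, fun a ha hav => ?_⟩
  exact cm_eq_one.mp (h.cm_fix h.hz ha h.zv (h.stab_v ha hav).1)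

theorem V0_le {u : V} (hu : u ∈ D.V0 v₀) : u ∈ D.V0 (v₀ + f.1 v₀) := fun a ha hav =>
  hu a ha (h.stab_v ha hav).1

theorem v₀_V0 : v₀ ∈ D.V0 (v₀ + f.1 v₀) := h.V0_le (D.self_mem_V0 v₀)

/-- decomposition of `Q v` -/
theorem dec_Q {x : AU V} (hx : x ∈ D.Q (v₀ + f.1 v₀)) :
    ∃ j : ℕ, ∃ q ∈ D.Q v₀, x = f ^ j * q := by
  have h1 : cm z x ^ r = 1 := by
    rw [← cm_pow_left h.hz hx.1, h.zr]; unfold cm; group
  obtain ⟨j, hj⟩ := h.root (cm_K h.hz hx.1) h1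
  have hfj := D.E.pow_mem h.hf j
  refine ⟨j, (f ^ j)⁻¹ * x, h.mem_Q₀ (D.E.mul_mem (D.E.inv_mem hfj) hx.1) ?_ ?_, by group⟩
  · rw [cm_mul_right h.hz (D.E.inv_mem hfj) hx.1, cm_inv_right h.hz hfj, h.cm_fpow, hj,
      inv_mul_cancel]
  · intro b hb hbv hbf
    rw [cm_mul_right hb (D.E.inv_mem hfj) hx.1, cm_inv_right hb hfj, cm_pow_right hb h.hf, hbf,
      one_pow, inv_one, one_mul]
    exact cm_eq_one.mpr (hx.2 b hb (h.fix_v hbv hbf)).symm

variable {g : AU V} (hg : g ∈ G) (hgv : g.1 (v₀ + f.1 v₀) = v₀ + f.1 v₀)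
include hg hgv

omit hg hgv in
theorem geom_zero {T : AU V} (hTK : ∀ a ∈ D.K, ∀ x, T.1 (a x) = a (T.1 x)) {κ : AU V}
    (hκ : κ.1 ∈ D.K) (hκ1 : κ ≠ 1) (hκr : κ ^ r = 1) {u : V} (hu : T.1 u = κ.1 u) :
    ∑ i ∈ Finset.range r, (T ^ i).1 u = 0 := by
  have h1 : ∀ i : ℕ, (T ^ i).1 u = (κ ^ i).1 u := by
    intro i
    induction i with
    | zero => rfl
    | succ i ih =>
      rw [pow_succ' T, au_mul_apply, ih, hTK _ (D.isF.units.pow_mem (x := κ) hκ i), hu,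
        ← au_mul_apply, ← pow_succ]
  have h2 : (κ.1 - 1) (∑ i ∈ Finset.range r, (T ^ i).1 u) = 0 := by
    have h3 : ∑ i ∈ Finset.range r, (T ^ i).1 u = (∑ i ∈ Finset.range r, κ.1 ^ i) u := by
      rw [sum_app]
      refine Finset.sum_congr rfl fun i _ => ?_
      rw [h1, Units.val_pow_eq_pow_val]
    rw [h3]
    change ((κ.1 - 1) * ∑ i ∈ Finset.range r, κ.1 ^ i) u = 0
    rw [mul_geom_sum, ← Units.val_pow_eq_pow_val, hκr, Units.val_one, sub_self]
    rfl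
  by_contra hne
  apply hκ1
  have h3 := D.isF.eq_zero (D.K.sub_mem hκ D.K.one_mem) hne h2
  exact Units.ext (sub_eq_zero.mp h3)

theorem gz_comm : cm z (g * z * g⁻¹) = 1 := by
  obtain ⟨z', hz'⟩ : ∃ z', z' = g * z * g⁻¹ := ⟨_, rfl⟩
  rw [← hz']
  have hz'E : z' ∈ D.E := by rw [hz']; exact D.GE g hg z h.hz
  have hz'r : z' ^ r = 1 := by rw [hz', conj_pow, h.zr]; group
  by_contra hc1
  have hcK := cm_K h.hz hz'E
  have hcr : cm z z' ^ r = 1 := by
    rw [← cm_pow_left h.hz hz'E, h.zr]; unfold cm; group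
  have hrf : Fact r.Prime := ⟨h.hr⟩
  have hord : orderOf (cm z z') = r := orderOf_eq_prime hcr hc1
  obtain ⟨n, hn⟩ := D.isF.roots h.hr hcK h.wK hc1 hcr h.wr
  -- `y`
  have hz'n := D.E.pow_mem hz'E n
  obtain ⟨y, hy⟩ : ∃ y, y = (z' ^ n)⁻¹ * f := ⟨_, rfl⟩
  have hyE : y ∈ D.E := by rw [hy]; exact D.E.mul_mem (D.E.inv_mem hz'n) h.hf
  have hyr : y ^ r = 1 := by
    rw [hy]
    refine mul_pow_odd (D.E.inv_mem hz'n) h.hf h.odd ?_ h.fr
    rw [inv_pow, ← pow_mul, mul_comm, pow_mul, hz'r, one_pow, inv_one]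
  have hbz' : ∀ b ∈ D.E, b.1 v₀ = v₀ → cm b f = 1 → cm b z' = 1 := by
    intro b hb hbv hbf
    have hbv' := h.fix_v hbv hbf
    have h1 : (g⁻¹ * b * g).1 (v₀ + f.1 v₀) = v₀ + f.1 v₀ := by
      have := conj_fix (g := g⁻¹) (inv_fix hgv) hbv'
      rwa [inv_inv] at this
    have h2 : g⁻¹ * b * g ∈ D.E := by
      have := D.GE g⁻¹ (G.inv_mem hg) b hb
      rwa [inv_inv] at this
    have h3 := h.cm_fix h2 h.hz (h.stab_v h2 h1).1 h.zv
    have h4 := cm_conj g (g⁻¹ * b * g) z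
    rw [h3] at h4
    have h5 : g * (g⁻¹ * b * g) * g⁻¹ = b := by group
    rw [h5, ← hz'] at h4
    rw [← h4]; group
  have hyQ : y ∈ D.Q v₀ := by
    apply h.mem_Q₀ hyE
    · rw [hy, cm_mul_right h.hz (D.E.inv_mem hz'n) h.hf, cm_inv_right h.hz hz'n,
        cm_pow_right h.hz hz'E, ← hn, inv_mul_cancel]
    · intro b hb hbv hbf
      rw [hy, cm_mul_right hb (D.E.inv_mem hz'n) h.hf, cm_inv_right hb hz'n,
        cm_pow_right hb hz'E, hbz' b hb hbv hbf, hbf, one_pow, inv_one, one_mul]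
  obtain ⟨-, k, hk, hyk⟩ := B_of_pow h.mx hyQ h.hr hyr
  have hkr : k ^ r = 1 := by
    apply eq_one_of_fix h.mx.ne (D.isF.units.pow_mem (x := k) hk r)
    have : ∀ m : ℕ, (y ^ m).1 v₀ = (k ^ m).1 v₀ := by
      intro m
      induction m with
      | zero => rfl
      | succ m ih =>
        rw [pow_succ', au_mul_apply, ih, D.EK' hyE (D.isF.units.pow_mem (x := k) hk m), hyk,
          pow_succ, au_mul_apply]
    rw [← this, hyr]; rfl
  have hfv : f.1 v₀ = k.1 ((z' ^ n).1 v₀) := by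
    have h1 : f = z' ^ n * y := by rw [hy]; group
    rw [h1, au_mul_apply, hyk, D.EK' hz'n hk]
  -- the eigenvalue
  have hgK : ∀ {a : AU V}, a.1 ∈ D.K → (g * a * g⁻¹).1 ∈ D.K := fun {a} ha => D.GK g hg _ ha
  have hω'K := hgK h.wK
  obtain ⟨e, he0, her, hne⟩ : ∃ e : ℕ, 0 < e ∧ e < r ∧ cm z f ^ e ≠ g * cm z f * g⁻¹ := by
    by_cases h1 : cm z f ^ 1 = g * cm z f * g⁻¹
    · refine ⟨2, by norm_num, h.two_lt, fun h2 => ?_⟩
      have := h.wpow (i := 1) (j := 2) h.hr.one_lt h.two_lt (by rw [h1, h2])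
      omega
    · exact ⟨1, by norm_num, h.hr.one_lt, h1⟩
  obtain ⟨lam, hlam⟩ : ∃ lam, lam = cm z f ^ e := ⟨_, rfl⟩
  have hlamK : lam.1 ∈ D.K := by rw [hlam]; exact D.isF.units.pow_mem (x := cm z f) h.wK e
  have hlamr : lam ^ r = 1 := by rw [hlam, ← pow_mul, mul_comm, pow_mul, h.wr, one_pow]
  have hlam1 : lam ≠ 1 := by
    intro h1
    have := h.wpow (i := e) (j := 0) her h.hr.pos (by rw [← hlam, h1, pow_zero])
    omega
  have hliK : (lam⁻¹).1 ∈ D.K := D.isF.units.inv_mem (x := lam) hlamK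
  obtain ⟨T, hT⟩ : ∃ T, T = lam⁻¹ * z' := ⟨_, rfl⟩
  have hTE : T ∈ D.E := by rw [hT]; exact D.E.mul_mem (D.KE _ hliK) hz'E
  have hTK : ∀ a ∈ D.K, ∀ x, T.1 (a x) = a (T.1 x) := fun a ha x => D.EK' hTE ha x
  have hcomm1 : Commute lam⁻¹ z' := (D.EKu hz'E hliK).symm
  have hTr : T ^ r = 1 := by rw [hT, hcomm1.mul_pow, inv_pow, hlamr, hz'r, inv_one, one_mul]
  have hcT : cm z T = cm z z' := by
    rw [hT, cm_mul_right h.hz (D.KE _ hliK) hz'E, cm_K_right hliK h.hz, one_mul]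
  let P : V → V := fun x => ∑ i ∈ Finset.range r, (T ^ i).1 x
  have hPadd : ∀ x y, P (x + y) = P x + P y := by
    intro x y
    change ∑ i ∈ Finset.range r, (T ^ i).1 (x + y) = _
    simp only [map_add, Finset.sum_add_distrib]
    rfl
  have hPK : ∀ a ∈ D.K, ∀ x, P (a x) = a (P x) := by
    intro a ha x
    change ∑ i ∈ Finset.range r, (T ^ i).1 (a x) = a (∑ i ∈ Finset.range r, (T ^ i).1 x)
    rw [map_sum]
    exact Finset.sum_congr rfl fun i _ => D.EK' (D.E.pow_mem hTE i) ha x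
  have hPT : ∀ x, P (T.1 x) = P x := by
    intro x
    change ∑ i ∈ Finset.range r, (T ^ i).1 (T.1 x) = ∑ i ∈ Finset.range r, (T ^ i).1 x
    have h1 := Finset.sum_range_succ (fun i => (T ^ i).1 x) r
    have h2 := Finset.sum_range_succ' (fun i => (T ^ i).1 x) r
    rw [h2] at h1
    have h3 : (T ^ 0).1 x = (T ^ r).1 x := by rw [hTr, pow_zero]
    rw [h3] at h1
    have h4 := add_right_cancel h1
    rw [← h4]
    refine Finset.sum_congr rfl fun i _ => ?_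
    rw [pow_succ, au_mul_apply]
  have hPTn : ∀ m : ℕ, ∀ x, P ((T ^ m).1 x) = P x := by
    intro m
    induction m with
    | zero => intro x; rfl
    | succ m ih => intro x; rw [pow_succ, au_mul_apply, ih, hPT]
  -- images of the eigenvectors
  have hz'g : ∀ x, z'.1 (g.1 x) = g.1 (z.1 x) := by
    intro x
    rw [hz', au_mul_apply, au_mul_apply, au_inv_apply]
  have hP1 : P (g.1 v₀) = 0 := by
    refine h.geom_zero hTK hliK (fun h1 => hlam1 (inv_eq_one.mp h1)) (by rw [inv_pow, hlamr, inv_one]) ?_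
    rw [hT, au_mul_apply, hz'g, h.zv]
  have hgw : ∀ x, g.1 ((cm z f).1 x) = (g * cm z f * g⁻¹).1 (g.1 x) := by
    intro x
    rw [au_mul_apply, au_mul_apply, au_inv_apply]
  have hP2 : P (g.1 (f.1 v₀)) = 0 := by
    refine h.geom_zero hTK (κ := lam⁻¹ * (g * cm z f * g⁻¹)) (D.K.mul_mem hliK hω'K) ?_ ?_ ?_
    · intro h1
      apply hne
      rw [← hlam]
      exact (inv_mul_eq_one.mp h1)
    · have hcomm2 : Commute lam⁻¹ (g * cm z f * g⁻¹) := Units.ext (D.isF.comm _ hliK _ hω'K)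
      rw [hcomm2.mul_pow, inv_pow, hlamr, conj_pow, h.wr]; group
    · rw [hT, au_mul_apply, hz'g, h.z_apply₀ h.hf, hgw, au_mul_apply lam⁻¹ (g * cm z f * g⁻¹)]
  have hPv : P (v₀ + f.1 v₀) = 0 := by
    rw [← hgv, map_add, hPadd, hP1, hP2, add_zero]
  have hPf : P (f.1 v₀) = (k * lam ^ n).1 (P v₀) := by
    have h1 : z' ^ n = lam ^ n * T ^ n := by
      have hcomm3 : Commute lam T := (D.EKu hTE hlamK).symm
      rw [← hcomm3.mul_pow, hT]; group
    rw [hfv, hPK _ hk, h1, au_mul_apply (lam ^ n),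
      hPK _ (D.isF.units.pow_mem (x := lam) hlamK n), hPTn, au_mul_apply]
  have hPv₀ : P v₀ ≠ 0 := by
    intro h0
    have h1 := D.isF.eig_indep h.zK (s := Finset.range r) (lam := fun j => (cm z z' ^ j).1)
      (u := fun j => (T ^ j).1 v₀)
      (fun j _ => D.isF.units.pow_mem (x := cm z z') hcK j)
      (fun i hi j hj hij => by
        exact pow_injOn_Iio_orderOf (by rw [hord]; exact Finset.mem_range.mp hi)
          (by rw [hord]; exact Finset.mem_range.mp hj) (Units.ext hij))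
      (fun j _ => by
        change z.1 ((T ^ j).1 v₀) = (cm z z' ^ j).1 ((T ^ j).1 v₀)
        rw [h.z_apply₀ (D.E.pow_mem hTE j), cm_pow_right h.hz hTE, hcT]) h0
    exact h.mx.ne (h1 0 (Finset.mem_range.mpr h.hr.pos))
  have hk'K : (k * lam ^ n).1 ∈ D.K :=
    D.K.mul_mem hk (D.isF.units.pow_mem (x := lam) hlamK n)
  have h2 : (1 + (k * lam ^ n).1) (P v₀) = 0 := by
    rw [hPadd, hPf] at hPv
    exact hPv
  have h3 := D.isF.eq_zero (D.K.add_mem D.K.one_mem hk'K) hPv₀ h2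
  have h4 : k * lam ^ n = -1 := Units.ext (eq_neg_of_add_eq_zero_right h3)
  have h5 : (k * lam ^ n) ^ r = 1 := by
    have hcomm4 : Commute k (lam ^ n) :=
      Units.ext (D.isF.comm _ hk _ (D.isF.units.pow_mem (x := lam) hlamK n))
    rw [hcomm4.mul_pow, hkr, ← pow_mul, mul_comm, pow_mul, hlamr, one_pow, one_mul]
  rw [h4, Odd.neg_one_pow h.odd] at h5
  exact h.two h5.symm

end Dat.OS

end Cfsg.Agent.H578
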