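import Cfsg.Agent.H578.OddIII

/-!
# Primitive coprime linear groups, `E / K` not a 2-group: the base (helper578)
-/

set_option autoImplicit false
set_option linter.unusedSectionVars false

universe u

namespace Cfsg.Agent.H578

variable {V : Type u} [AddCommGroup V]

theorem pow_fix {x : AU V} {u : V} (hx : x.1 u = u) (n : ℕ) : (x ^ n).1 u = u := by
  induction n with
  | zero => rfl
  | succ n ih => rw [pow_succ, au_mul_apply, hx, ih]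

namespace Dat

variable {G : Subgroup (AU V)} {D : Dat G} [Nontrivial V] [Finite V]

theorem pow_eig {x k : AU V} (hx : x ∈ D.E) (hk : k.1 ∈ D.K) {u : V} (h : x.1 u = k.1 u) (n : ℕ) :
    (x ^ n).1 u = (k ^ n).1 u := by
  induction n with
  | zero => rfl
  | succ n ih =>
    rw [pow_succ, au_mul_apply, h, D.EK' (D.E.pow_mem hx n) hk, ih, pow_succ', au_mul_apply]

namespace OS

variable {r : ℕ} {v₀ : V} {z f : AU V} (h : D.OS r v₀ z f)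
include h

/-- comparison of the components of two sums of three eigenvectors -/
theorem comps3 {e₁ e₂ e₃ e₁' e₂' e₃' : ℕ} (h₁ : e₁ < r) (h₂ : e₂ < r) (h₃ : e₃ < r)
    (h₁' : e₁' < r) (h₂' : e₂' < r) (h₃' : e₃' < r) {A B C A' B' C' : V}
    (hA : z.1 A = (cm z f ^ e₁).1 A) (hB : z.1 B = (cm z f ^ e₂).1 B)
    (hC : z.1 C = (cm z f ^ e₃).1 C) (hA' : z.1 A' = (cm z f ^ e₁').1 A')
    (hB' : z.1 B' = (cm z f ^ e₂').1 B') (hC' : z.1 C' = (cm z f ^ e₃').1 C')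
    (hsum : A + B + C = A' + B' + C') (j : ℕ) (hj : j < r) :
    (if j = e₁ then A else 0) + (if j = e₂ then B else 0) + (if j = e₃ then C else 0) =
    (if j = e₁' then A' else 0) + (if j = e₂' then B' else 0) + (if j = e₃' then C' else 0) := by
  have hite : ∀ (e : ℕ) (X : V), z.1 X = (cm z f ^ e).1 X → ∀ j,
      z.1 (if j = e then X else 0) = (cm z f ^ j).1 (if j = e then X else 0) := by
    intro e X hX j
    by_cases hje : j = e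
    · rw [if_pos hje, hje, hX]
    · rw [if_neg hje, map_zero, map_zero]
  apply h.comps (u := fun j => (if j = e₁ then A else 0) + (if j = e₂ then B else 0) +
      (if j = e₃ then C else 0)) (u' := fun j => (if j = e₁' then A' else 0) +
      (if j = e₂' then B' else 0) + (if j = e₃' then C' else 0)) _ _ _ j hj
  · intro j _
    rw [map_add, map_add, hite _ _ hA, hite _ _ hB, hite _ _ hC, ← map_add, ← map_add]
  · intro j _
    rw [map_add, map_add, hite _ _ hA', hite _ _ hB', hite _ _ hC', ← map_add, ← map_add]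
  · simp only [Finset.sum_add_distrib, Finset.sum_ite_eq', Finset.mem_range, h₁, h₂, h₃, h₁', h₂',
      h₃', if_true]
    exact hsum

variable {g : AU V} (hg : g ∈ G) (hgv : g.1 (v₀ + f.1 v₀) = v₀ + f.1 v₀)
include hg hgv

theorem conj_z_Q : g * z * g⁻¹ ∈ D.Q v₀ := by
  refine h.mem_Q₀ (D.GE g hg z h.hz) (h.gz_comm hg hgv) fun b hb hbv hbf => ?_
  have hbv' := h.fix_v hbv hbf
  have h1 : (g⁻¹ * b * g).1 (v₀ + f.1 v₀) = v₀ + f.1 v₀ := by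
    have := conj_fix (g := g⁻¹) (inv_fix hgv) hbv'
    rwa [inv_inv] at this
  have h2 : g⁻¹ * b * g ∈ D.E := by
    have := D.GE g⁻¹ (G.inv_mem hg) b hb
    rwa [inv_inv] at this
  have h3 := h.cm_fix h2 h.hz (h.stab_v h2 h1).1 h.zv
  have h4 := cm_conj g (g⁻¹ * b * g) z
  rw [h3] at h4
  have h5 : g * (g⁻¹ * b * g) * g⁻¹ = b := by group
  rw [h5] at h4
  rw [← h4]; group

theorem eig_map : ∃ a : AU V, a.1 ∈ D.K ∧ ∃ l : ℕ, ¬ (r ∣ l) ∧ ∀ u ∈ D.V0 (v₀ + f.1 v₀),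
    ∀ κ : AU V, κ.1 ∈ D.K → z.1 u = κ.1 u → z.1 (g.1 u) = (a * (g * κ * g⁻¹) ^ l).1 (g.1 u) := by
  have hz'E := D.GE g hg z h.hz
  have hz'r : (g * z * g⁻¹) ^ r = 1 := by rw [conj_pow, h.zr]; group
  obtain ⟨-, k, hk, hkv⟩ := B_of_pow h.mx (h.conj_z_Q hg hgv) h.hr hz'r
  have hki : (k⁻¹).1 ∈ D.K := D.isF.units.inv_mem (x := k) hk
  obtain ⟨m, b, hb, hkb, hbv, hbf⟩ := h.dec (a := k⁻¹ * (g * z * g⁻¹))
    (D.E.mul_mem (D.KE _ hki) hz'E) (by rw [au_mul_apply, hkv, au_inv_apply])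
  have hbV : ∀ u ∈ D.V0 (v₀ + f.1 v₀), b.1 u = u := fun u hu => hu b hb (h.fix_v hbv hbf)
  have hz'z : ∀ u ∈ D.V0 (v₀ + f.1 v₀), (k⁻¹ * (g * z * g⁻¹)).1 u = (z ^ m).1 u := by
    intro u hu
    rw [hkb, au_mul_apply, hbV u hu]
  have hgV : ∀ u ∈ D.V0 (v₀ + f.1 v₀), g.1 u ∈ D.V0 (v₀ + f.1 v₀) := fun u hu => g_V0 hg hgv hu
  have hgz : ∀ u ∈ D.V0 (v₀ + f.1 v₀), ∀ κ : AU V, κ.1 ∈ D.K → z.1 u = κ.1 u →
      (z ^ m).1 (g.1 u) = (k⁻¹ * (g * κ * g⁻¹)).1 (g.1 u) := by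
    intro u hu κ hκ hzu
    have e1 : (g * z * g⁻¹).1 (g.1 u) = g.1 (z.1 u) := by
      rw [au_mul_apply, au_mul_apply, au_inv_apply]
    have e2 : (g * κ * g⁻¹).1 (g.1 u) = g.1 (κ.1 u) := by
      rw [au_mul_apply, au_mul_apply, au_inv_apply]
    rw [← hz'z _ (hgV u hu), au_mul_apply k⁻¹ (g * z * g⁻¹), au_mul_apply k⁻¹ (g * κ * g⁻¹), e1, e2,
      hzu]
  have hv₀V := h.v₀_V0
  have hfv₀V : f.1 v₀ ∈ D.V0 (v₀ + f.1 v₀) := D.Q_V0 h.f_Q hv₀V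
  have hgne : ∀ {u : V}, u ≠ 0 → g.1 u ≠ 0 := fun {u} hu h0 => hu (au_injective g (by
    rw [h0, map_zero]))
  have hfne : f.1 v₀ ≠ 0 := fun h0 => h.mx.ne (au_injective f (by rw [h0, map_zero]))
  have hrm : ¬ r ∣ m := by
    rintro ⟨t, rfl⟩
    have hz1 : z ^ (r * t) = 1 := by rw [pow_mul, h.zr, one_pow]
    rw [hz1] at hgz
    have a1 := hgz v₀ hv₀V 1 D.K.one_mem (by rw [h.zv]; rfl)
    have a2 := hgz (f.1 v₀) hfv₀V (cm z f) h.wK (h.z_apply₀ h.hf)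
    have hone : (g * (1 : AU V) * g⁻¹) = 1 := by group
    rw [hone, mul_one] at a1
    have b1 : k⁻¹ = 1 := eq_one_of_fix (hgne h.mx.ne) hki a1.symm
    have b2 : k⁻¹ * (g * cm z f * g⁻¹) = 1 :=
      eq_one_of_fix (hgne hfne) (D.K.mul_mem hki (D.GK g hg _ h.wK)) a2.symm
    rw [b1, one_mul] at b2
    apply h.zf
    have : cm z f = g⁻¹ * (g * cm z f * g⁻¹) * g := by group
    rw [this, b2]; group
  have hcop : Nat.Coprime m r := (Nat.Prime.coprime_iff_not_dvd h.hr).mpr hrm |>.symm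
  obtain ⟨l, -, hl⟩ := Nat.exists_mul_mod_eq_one_of_coprime hcop h.hr.one_lt
  have hzl : (z ^ m) ^ l = z := by
    rw [← pow_mul, ← Nat.div_add_mod (m * l) r, hl, pow_add, pow_mul, h.zr, one_pow, one_mul,
      pow_one]
  refine ⟨(k⁻¹) ^ l, D.isF.units.pow_mem (x := k⁻¹) hki l, l, ?_, fun u hu κ hκ hzu => ?_⟩
  · rintro ⟨t, rfl⟩
    have : m * (r * t) % r = 0 := by
      rw [show m * (r * t) = r * (m * t) by ring]
      exact Nat.mul_mod_right r _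
    rw [this] at hl
    exact absurd hl (by norm_num)
  · have hκ' := D.GK g hg _ hκ
    have e1 := pow_eig (D.E.pow_mem h.hz m) (D.K.mul_mem hki hκ') (hgz u hu κ hκ hzu) l
    rw [hzl] at e1
    have hcomm : Commute k⁻¹ (g * κ * g⁻¹) := Units.ext (D.isF.comm _ hki _ hκ')
    rw [e1, hcomm.mul_pow]

variable {i : AU V} (hF : D.IsFrame v₀ i) {θ : AU V} (hθ : θ.1 ∈ D.K)
  (hgen : ∀ k : AU V, k.1 ∈ D.K → ∃ n : ℕ, k = θ ^ n)
  (hgw : g.1 (θ.1 v₀ + f.1 (i.1 v₀) + f.1 (f.1 v₀)) = θ.1 v₀ + f.1 (i.1 v₀) + f.1 (f.1 v₀))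
include hF hθ hgen hgw

theorem straight : g.1 v₀ = v₀ ∧ g.1 (θ.1 v₀) = θ.1 v₀ ∧ g.1 (f.1 v₀) = f.1 v₀ ∧
    g.1 (f.1 (i.1 v₀)) = f.1 (i.1 v₀) ∧ g.1 (f.1 (f.1 v₀)) = f.1 (f.1 v₀) := by
  obtain ⟨a, ha, l, hl, hmap⟩ := h.eig_map hg hgv
  have hv₀V := h.v₀_V0
  have hV0V0 : ∀ {u : V}, u ∈ D.V0 v₀ → u ∈ D.V0 (v₀ + f.1 v₀) := fun {u} hu => h.V0_le hu
  have hθV := hV0V0 (D.K_V0 hθ (D.self_mem_V0 v₀))
  have hiV := hV0V0 (D.Q_V0 hF.iQ (D.self_mem_V0 v₀))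
  have hfv₀V : f.1 v₀ ∈ D.V0 (v₀ + f.1 v₀) := D.Q_V0 h.f_Q hv₀V
  have hffv₀V : f.1 (f.1 v₀) ∈ D.V0 (v₀ + f.1 v₀) := D.Q_V0 h.f_Q hfv₀V
  have hfiV : f.1 (i.1 v₀) ∈ D.V0 (v₀ + f.1 v₀) := D.Q_V0 h.f_Q hiV
  have hiE := hF.iQ.1
  have hiz : i * z = z * i := hF.iQ.2 z h.hz h.zv
  have hziv : z.1 (i.1 v₀) = i.1 v₀ := by
    rw [← au_mul_apply, ← hiz, au_mul_apply, h.zv]
  -- eigenvalues of `z`
  have ez1 : z.1 v₀ = (1 : AU V).1 v₀ := h.zv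
  have ez2 : z.1 (θ.1 v₀) = (1 : AU V).1 (θ.1 v₀) := by rw [h.zK _ hθ, h.zv]; rfl
  have ez3 : z.1 (f.1 v₀) = (cm z f).1 (f.1 v₀) := h.z_apply₀ h.hf
  have ez4 : z.1 (f.1 (i.1 v₀)) = (cm z f).1 (f.1 (i.1 v₀)) := by
    have := h.z_apply h.hf (u := i.1 v₀) (k := 1) D.K.one_mem (by rw [hziv]; rfl)
    rwa [mul_one] at this
  have ez5 : z.1 (f.1 (f.1 v₀)) = (cm z f ^ 2).1 (f.1 (f.1 v₀)) := by
    rw [pow_two]
    exact h.z_apply h.hf h.wK ez3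
  obtain ⟨c, hc⟩ : ∃ c, c = (g * cm z f * g⁻¹) ^ l := ⟨_, rfl⟩
  have hw'K : (g * cm z f * g⁻¹).1 ∈ D.K := D.GK g hg _ h.wK
  have hcK : c.1 ∈ D.K := by rw [hc]; exact D.isF.units.pow_mem (x := g * cm z f * g⁻¹) hw'K l
  have hone : (g * (1 : AU V) * g⁻¹) = 1 := by group
  -- eigenvalues on the images
  have g1 := hmap _ hv₀V 1 D.K.one_mem ez1
  have g2 := hmap _ hθV 1 D.K.one_mem ez2
  have g3 := hmap _ hfv₀V (cm z f) h.wK ez3
  have g4 := hmap _ hfiV (cm z f) h.wK ez4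
  have g5 := hmap _ hffv₀V (cm z f ^ 2) (D.isF.units.pow_mem (x := cm z f) h.wK 2) ez5
  rw [hone, one_pow, mul_one] at g1 g2
  rw [← hc] at g3 g4
  have hc2 : (g * cm z f ^ 2 * g⁻¹) ^ l = c ^ 2 := by
    rw [hc, ← conj_pow, ← pow_mul, ← pow_mul, mul_comm]
  rw [hc2] at g5
  have hc1 : c ≠ 1 := by
    intro h1
    rw [hc, conj_pow] at h1
    have h2 : cm z f ^ l = 1 := by
      have : cm z f ^ l = g⁻¹ * (g * cm z f ^ l * g⁻¹) * g := by group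
      rw [this, h1]; group
    have hrf : Fact r.Prime := ⟨h.hr⟩
    have h3 : orderOf (cm z f) = r := orderOf_eq_prime h.wr h.zf
    have h4 := orderOf_dvd_of_pow_eq_one h2
    rw [h3] at h4
    exact hl h4
  have hfne : f.1 v₀ ≠ 0 := fun h0 => h.mx.ne (au_injective f (by rw [h0, map_zero]))
  have hwne : (1 : AU V) ≠ cm z f := fun h1 => h.zf h1.symm
  have hane : a ≠ a * c := fun h1 => hc1 (mul_eq_left.mp h1.symm)
  have hcomp := D.isF.two_eig h.zK (l := 1) (m := cm z f) (l' := a) (m' := a * c) D.K.one_mem h.wK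
    ha (D.K.mul_mem ha hcK) ez1 ez3 g1 g3 hwne hane h.mx.ne hfne (by rw [← map_add, hgv])
  have hr2 := h.two_lt
  rcases hcomp with ⟨p1, p2, p3, p4⟩ | ⟨p1, p2, p3, p4⟩
  · rw [← p3, one_mul] at p4
    rw [← p3] at g2 g4 g5
    rw [one_mul, ← p4] at g4 g5
    have key := h.comps3 (e₁ := 0) (e₂ := 1) (e₃ := 2) (e₁' := 0) (e₂' := 1) (e₃' := 2)
      h.hr.pos h.hr.one_lt h.two_lt h.hr.pos h.hr.one_lt h.two_lt
      (A := θ.1 v₀) (B := f.1 (i.1 v₀)) (C := f.1 (f.1 v₀))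
      (A' := g.1 (θ.1 v₀)) (B' := g.1 (f.1 (i.1 v₀))) (C' := g.1 (f.1 (f.1 v₀)))
      (by rw [pow_zero]; exact ez2) (by rw [pow_one]; exact ez4) ez5
      (by rw [pow_zero]; exact g2) (by rw [pow_one]; exact g4) g5
      (by rw [← map_add, ← map_add, hgw])
    have k0 := key 0 h.hr.pos
    have k1 := key 1 h.hr.one_lt
    have k2 := key 2 h.two_lt
    norm_num at k0 k1 k2
    exact ⟨p1.symm, k0.symm, p2.symm, k1.symm, k2.symm⟩
  · exfalso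
    have hwinv : c = cm z f ^ (r - 1) := by
      have h1 : c = a⁻¹ := by
        rw [eq_comm, inv_eq_iff_mul_eq_one]; exact p3.symm
      rw [h1, ← p4, inv_eq_iff_mul_eq_one, ← pow_succ']
      have : r - 1 + 1 = r := by omega
      rw [this, h.wr]
    have hac2 : a * c ^ 2 = cm z f ^ (r - 1) := by
      rw [pow_two, ← mul_assoc, ← p3, one_mul, hwinv]
    rw [hac2] at g5
    rw [← p3] at g4
    rw [← p4] at g2
    have key := h.comps3 (e₁ := 0) (e₂ := 1) (e₃ := 2) (e₁' := 1) (e₂' := 0) (e₃' := r - 1)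
      h.hr.pos h.hr.one_lt h.two_lt h.hr.one_lt h.hr.pos (by omega)
      (A := θ.1 v₀) (B := f.1 (i.1 v₀)) (C := f.1 (f.1 v₀))
      (A' := g.1 (θ.1 v₀)) (B' := g.1 (f.1 (i.1 v₀))) (C' := g.1 (f.1 (f.1 v₀)))
      (by rw [pow_zero]; exact ez2) (by rw [pow_one]; exact ez4) ez5
      (by rw [pow_one]; exact g2) (by rw [pow_zero]; exact g4) g5
      (by rw [← map_add, ← map_add, hgw])
    have k1 := key 1 h.hr.one_lt
    have hne : ¬ (1 = r - 1) := by omega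
    norm_num [hne] at k1
    have hθ'K : (g * θ * g⁻¹).1 ∈ D.K := D.GK g hg _ hθ
    have hgθ : g.1 (θ.1 v₀) = f.1 ((g * θ * g⁻¹).1 v₀) := by
      have h1 : g.1 (θ.1 v₀) = (g * θ * g⁻¹).1 (g.1 v₀) := by
        rw [au_mul_apply, au_mul_apply, au_inv_apply]
      rw [h1, ← p2, ← D.EK' h.hf hθ'K]
    rw [hgθ] at k1
    have k2 := au_injective f k1
    rcases hF.dich with h1 | ⟨h1, h2⟩
    · rw [h1] at k2
      have h3 : g * θ * g⁻¹ = 1 := eq_one_of_fix h.mx.ne hθ'K k2.symm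
      have h4 : θ = 1 := by
        have : θ = g⁻¹ * (g * θ * g⁻¹) * g := by group
        rw [this, h3]; group
      obtain ⟨n, hn⟩ := hgen (-1) (D.K.neg_mem D.K.one_mem)
      rw [h4, one_pow] at hn
      exact h.two hn.symm
    · have h3 : i.1 (i.1 v₀) = -v₀ := by rw [← au_mul_apply, h1]; rfl
      rw [k2, D.EK' hiE hθ'K, k2] at h3
      have h4 : ((g * θ * g⁻¹).1 * (g * θ * g⁻¹).1) v₀ = (-1 : AddMonoid.End V) v₀ := h3
      exact h2 _ hθ'K (D.isF.eq_of_apply (D.K.mul_mem hθ'K hθ'K) (D.K.neg_mem D.K.one_mem)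
        h.mx.ne h4)

theorem fix_all : (∀ a ∈ D.K, ∀ x, g.1 (a x) = a (g.1 x)) ∧
    (∀ x ∈ D.Q (v₀ + f.1 v₀), g.1 (x.1 v₀) = x.1 v₀) := by
  obtain ⟨g1, g2, g3, g4, g5⟩ := h.straight hg hgv hF hθ hgen hgw
  have hgK := comm_K_of_gen h.mx.ne hg g1 hθ hgen g2
  refine ⟨hgK, ?_⟩
  have hv₀V := h.v₀_V0
  have hx₁E : df g f ∈ D.E := D.E.mul_mem (D.E.inv_mem h.hf) (D.GE g hg f h.hf)
  have hx₁v : (df g f).1 v₀ = v₀ := by
    have e1 := df_apply g f v₀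
    rw [g1, g3] at e1
    exact (au_injective f e1).symm
  have hx₁fv : (df g f).1 (f.1 v₀) = f.1 v₀ := by
    have e1 := df_apply g f (f.1 v₀)
    rw [g3, g5] at e1
    exact (au_injective f e1).symm
  have hx₁ : (df g f).1 (v₀ + f.1 v₀) = v₀ + f.1 v₀ := by rw [map_add, hx₁v, hx₁fv]
  have hgf : ∀ u ∈ D.V0 (v₀ + f.1 v₀), g.1 (f.1 u) = f.1 (g.1 u) := by
    intro u hu
    rw [df_apply, g_V0 hg hgv hu (df g f) hx₁E hx₁]
  have hiV := h.V0_le (D.Q_V0 hF.iQ (D.self_mem_V0 v₀))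
  have hgi : g.1 (i.1 v₀) = i.1 v₀ := by
    rw [hgf _ hiV] at g4
    exact au_injective f g4
  have hgq : ∀ q ∈ D.Q v₀, g.1 (q.1 v₀) = q.1 v₀ := by
    intro q hq
    obtain ⟨k₁, hk₁, k₂, hk₂, e⟩ := hF.span q hq
    rw [e, map_add, hgK _ hk₁, hgK _ hk₂, g1, hgi]
  have hgfj : ∀ j : ℕ, ∀ u ∈ D.V0 (v₀ + f.1 v₀), g.1 ((f ^ j).1 u) = (f ^ j).1 (g.1 u) := by
    intro j
    induction j with
    | zero => intro u _; rfl
    | succ j ih =>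
      intro u hu
      rw [pow_succ, au_mul_apply, ih _ (D.Q_V0 h.f_Q hu), hgf u hu, au_mul_apply]
  intro x hx
  obtain ⟨j, q, hq, rfl⟩ := h.dec_Q hx
  rw [au_mul_apply, hgfj j _ (h.V0_le (D.Q_V0 hq (D.self_mem_V0 v₀))), hgq q hq]

end OS

end Dat

end Cfsg.Agent.H578
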