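import Cfsg.Agent.H578.Quad
import Cfsg.Agent.H578.Comb4

/-!
# The partial frame theorem (helper578)
-/

set_option autoImplicit false
set_option linter.unusedSectionVars false

universe u

namespace Cfsg.Agent.H578

variable {V : Type u} [AddCommGroup V]

theorem df_mul {A : Type*} [Group A] (g x y : A) :
    (x * y)⁻¹ * (g * (x * y) * g⁻¹) =
      cm y⁻¹ (x⁻¹ * (g * x * g⁻¹)) * ((x⁻¹ * (g * x * g⁻¹)) * (y⁻¹ * (g * y * g⁻¹))) := by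
  unfold cm; group

theorem df_inv {A : Type*} [Group A] (g x : A) :
    (x⁻¹)⁻¹ * (g * x⁻¹ * g⁻¹) = cm x (x⁻¹ * (g * x * g⁻¹))⁻¹ * (x⁻¹ * (g * x * g⁻¹))⁻¹ := by
  unfold cm; group

namespace Dat

variable {G : Subgroup (AU V)} {D : Dat G} [Nontrivial V]

theorem fix_of_B {v u : V} {x k : AU V} (hx : x ∈ D.E) (hk : k.1 ∈ D.K) (h : x.1 v = k.1 v)
    (hu : u ∈ D.V0 v) : x.1 u = k.1 u := by
  have hki : (k⁻¹).1 ∈ D.K := D.isF.units.inv_mem (x := k) hk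
  have h1 := hu (k⁻¹ * x) (D.E.mul_mem (D.KE _ hki) hx) (by rw [au_mul_apply, h, au_inv_apply])
  rw [au_mul_apply] at h1
  rw [← au_apply_inv k (x.1 u), h1]

/-- **The partial frame theorem.** -/
theorem pf [Finite V] {v : V} (hv : v ≠ 0) {w₀ : V} (hw₀ : w₀ ∈ D.V0 v)
    (h1 : ∀ g ∈ G, g.1 v = v → g.1 w₀ = w₀ → (∀ a ∈ D.K, ∀ x, g.1 (a x) = a (g.1 x)) ∧
      ∀ x ∈ D.Q v, g.1 (x.1 v) = x.1 v)
    (b : Fin 4 → V) (hbV : ∀ c, b c ∈ D.V0 v) (hb0 : ∀ c, b c ≠ 0)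
    (hbg : ∀ g ∈ G, g.1 v = v → g.1 w₀ = w₀ → ∀ c, g.1 (b c) = b c)
    (hbo : ∀ x ∈ D.Q v, ∀ c d, x.1 (b c) = b d → c = d)
    (hS0 : ∀ x ∈ D.Q v, x.1 (b 0) = b 0 → x ∈ D.B v)
    (hS12 : ∀ x ∈ D.Q v, ∀ k l : AU V, k.1 ∈ D.K → l.1 ∈ D.K → x.1 (b 1) = k.1 (b 1) →
      x.1 (b 2) = l.1 (b 2) → x ∈ D.B v) : HasBase (Fin 2) G := by
  classical
  obtain ⟨X, _, _, ⟨S⟩⟩ := D.exists_sec v
  obtain ⟨κ, hκ1, hκ2, -⟩ := Comb.c4' X
  have : Fintype X := Fintype.ofFinite X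
  let u : X → V := fun μ => if μ = 0 then w₀ else b (κ μ)
  have hu : ∀ μ, u μ ∈ D.V0 v := by
    intro μ
    change (if μ = 0 then w₀ else b (κ μ)) ∈ D.V0 v
    split_ifs
    · exact hw₀
    · exact hbV _
  refine ⟨![v, ∑ μ, (S.f μ).1 (u μ)], fun g hg h => ?_⟩
  have hgv : g.1 v = v := h 0
  have hg1 : g.1 (∑ μ, (S.f μ).1 (u μ)) = ∑ μ, (S.f μ).1 (u μ) := h 1
  obtain ⟨T, hTi, hT⟩ := exists_T hg hgv S
  have k1 := comp hg hgv S hTi hT (s := Finset.univ) (fun μ => Finset.mem_univ μ) hu hg1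
  have hgw : g.1 w₀ = w₀ := by
    have := k1 0
    rw [map_zero, S.f0] at this
    have e : u 0 = w₀ := if_pos rfl
    rw [e] at this
    exact this.symm
  obtain ⟨hgK, hgQ⟩ := h1 g hg hgv hgw
  have hgb := hbg g hg hgv hgw
  let x : X → AU V := fun μ => (S.f (T μ))⁻¹ * (g * S.f μ * g⁻¹)
  have hxQ : ∀ μ, x μ ∈ D.Q v := by
    intro μ
    rw [← S.eq_iff (S.fE _) (D.GE g hg _ (S.fE μ)), S.pf, hT _ (S.fE μ), S.pf]
  have hgf : ∀ μ, ∀ y : V, g.1 ((S.f μ).1 y) = (S.f (T μ)).1 ((x μ).1 (g.1 y)) := by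
    intro μ y
    have e1 : g * S.f μ = S.f (T μ) * x μ * g := by
      change g * S.f μ = S.f (T μ) * ((S.f (T μ))⁻¹ * (g * S.f μ * g⁻¹)) * g
      group
    rw [← au_mul_apply, e1, au_mul_apply, au_mul_apply]
  have hxb : ∀ μ, μ ≠ 0 → (x μ).1 (b (κ μ)) = b (κ (T μ)) := by
    intro μ hμ
    have hTμ : T μ ≠ 0 := fun h0 => hμ (hTi (by rw [h0, map_zero]))
    have e1 := k1 μ
    have f1 : u μ = b (κ μ) := if_neg hμ
    have f3 : u (T μ) = b (κ (T μ)) := if_neg hTμ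
    rw [f1, f3, hgf, hgb] at e1
    exact (au_injective _ e1).symm
  have hTid : ∀ μ, T μ = μ := hκ1 T hTi fun μ hμ =>
    (hbo _ (hxQ μ) _ _ (hxb μ hμ)).symm
  have hdfQ : ∀ y ∈ D.E, df g y ∈ D.Q v := by
    intro y hy
    change y⁻¹ * (g * y * g⁻¹) ∈ D.Q v
    rw [← S.eq_iff hy (D.GE g hg y hy), hT y hy, hTid]
  have hxdf : ∀ μ, x μ = df g (S.f μ) := by
    intro μ
    change (S.f (T μ))⁻¹ * (g * S.f μ * g⁻¹) = (S.f μ)⁻¹ * (g * S.f μ * g⁻¹)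
    rw [hTid]
  have hdfb : ∀ μ, μ ≠ 0 → (df g (S.f μ)).1 (b (κ μ)) = b (κ μ) := by
    intro μ hμ
    rw [← hxdf, hxb μ hμ, hTid]
  -- the subgroups attached to a vector
  let C : V → Subgroup (AU V) := fun c =>
    { carrier := {y | y ∈ D.Q v ∧ ∃ k : AU V, k.1 ∈ D.K ∧ y.1 c = k.1 c}
      one_mem' := ⟨(D.Q v).one_mem, 1, D.K.one_mem, rfl⟩
      mul_mem' := by
        rintro y z ⟨hy, k, hk, h1⟩ ⟨hz, l, hl, h2⟩
        refine ⟨(D.Q v).mul_mem hy hz, k * l, D.K.mul_mem hk hl, ?_⟩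
        rw [au_mul_apply, h2, D.EK' hy.1 hl, h1, au_mul_apply]
        exact DFunLike.congr_fun (D.isF.comm _ hl _ hk) c
      inv_mem' := by
        rintro y ⟨hy, k, hk, h1⟩
        have hki := D.isF.units.inv_mem (x := k) hk
        refine ⟨(D.Q v).inv_mem hy, k⁻¹, hki, ?_⟩
        apply au_injective y
        rw [au_apply_inv, D.EK' hy.1 hki, h1, au_inv_apply] }
  have hKC : ∀ c, ∀ k : AU V, k.1 ∈ D.K → k ∈ C c := fun c k hk =>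
    ⟨D.K_le_Q hk, k, hk, rfl⟩
  have hcmC : ∀ c, ∀ y ∈ D.E, ∀ z ∈ D.E, cm y z ∈ C c := fun c y hy z hz =>
    hKC c _ (cm_K hy hz)
  have hdfr : ∀ r ∈ D.Q v, (df g r).1 v = v := by
    intro r hr
    apply au_injective r
    have e1 := df_apply g r v
    rw [hgv, hgQ r hr] at e1
    exact e1.symm
  have hPr : ∀ c ∈ D.V0 v, ∀ r ∈ D.Q v, df g r ∈ C c := by
    intro c hc r hr
    have hd := hdfQ r hr.1
    exact ⟨hd, 1, D.K.one_mem, by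
      rw [hc _ hd.1 (hdfr r hr)]; rfl⟩
  have hPmul : ∀ c, ∀ y ∈ D.E, ∀ z ∈ D.E, df g y ∈ C c → df g z ∈ C c → df g (y * z) ∈ C c := by
    intro c y hy z hz h2 h3
    unfold df at h2 h3 ⊢
    rw [df_mul]
    exact (C c).mul_mem (hcmC c _ (D.E.inv_mem hz) _ h2.1.1) ((C c).mul_mem h2 h3)
  have hPinv : ∀ c, ∀ y ∈ D.E, df g y ∈ C c → df g y⁻¹ ∈ C c := by
    intro c y hy h2
    unfold df at h2 ⊢
    rw [df_inv]
    exact (C c).mul_mem (hcmC c _ hy _ (D.E.inv_mem h2.1.1)) ((C c).inv_mem h2)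
  let XX : V → AddSubgroup X := fun c =>
    { carrier := {μ | ∃ y ∈ D.E, S.pr y = μ ∧ df g y ∈ C c}
      zero_mem' := ⟨1, D.E.one_mem, S.pr_one, by
        have : df g 1 = 1 := by unfold df; group
        rw [this]; exact (C c).one_mem⟩
      add_mem' := by
        rintro μ ν ⟨y, hy, rfl, h2⟩ ⟨z, hz, rfl, h3⟩
        exact ⟨y * z, D.E.mul_mem hy hz, S.pr_mul y hy z hz, hPmul c y hy z hz h2 h3⟩
      neg_mem' := by
        rintro μ ⟨y, hy, rfl, h2⟩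
        exact ⟨y⁻¹, D.E.inv_mem hy, S.pr_inv hy, hPinv c y hy h2⟩ }
  have htr : ∀ c ∈ D.V0 v, ∀ μ ∈ XX c, df g (S.f μ) ∈ C c := by
    rintro c hc μ ⟨y, hy, rfl, h2⟩
    have h3 : y⁻¹ * S.f (S.pr y) ∈ D.Q v := by
      rw [← S.eq_iff hy (S.fE _), S.pf]
    have h4 : S.f (S.pr y) = y * (y⁻¹ * S.f (S.pr y)) := by group
    rw [h4]
    exact hPmul c y hy _ h3.1 h2 (hPr c hc _ h3)
  have htop : XX v = ⊤ := by
    apply hκ2 (XX v) (XX (b 1)) (XX (b 2))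
    · rintro μ ⟨hμ1, hμ2⟩
      have e1 := htr _ (hbV 1) μ hμ1
      have e2 := htr _ (hbV 2) μ hμ2
      obtain ⟨hq, k, hk, hk1⟩ := e1
      obtain ⟨-, l, hl, hl1⟩ := e2
      exact ⟨S.f μ, S.fE μ, S.pf μ, hq, (hS12 _ hq k l hk hl hk1 hl1).2⟩
    · rintro μ ⟨y, hy, hy1, hq, k, hk, hk1⟩
      exact ⟨y, hy, hy1, hq, k, hk, fix_of_B hq.1 hk hk1 (hbV 1)⟩
    · rintro μ ⟨y, hy, hy1, hq, k, hk, hk1⟩
      exact ⟨y, hy, hy1, hq, k, hk, fix_of_B hq.1 hk hk1 (hbV 2)⟩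
    · intro μ hμ hc
      have e1 := hdfb μ hμ
      rw [hc] at e1
      exact ⟨S.f μ, S.fE μ, S.pf μ, hdfQ _ (S.fE μ), (hS0 _ (hdfQ _ (S.fE μ)) e1).2⟩
    · intro μ hμ hc
      have e1 := hdfb μ hμ
      rw [hc] at e1
      exact ⟨S.f μ, S.fE μ, S.pf μ, hdfQ _ (S.fE μ), 1, D.K.one_mem, e1⟩
    · intro μ hμ hc
      have e1 := hdfb μ hμ
      rw [hc] at e1
      exact ⟨S.f μ, S.fE μ, S.pf μ, hdfQ _ (S.fE μ), 1, D.K.one_mem, e1⟩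
  have hdfv : ∀ μ, (df g (S.f μ)).1 v = v := by
    intro μ
    by_cases hμ : μ = 0
    · have : df g (S.f μ) = 1 := by rw [hμ, S.f0]; unfold df; group
      rw [this]; rfl
    · have hμX : μ ∈ XX v := by rw [htop]; trivial
      obtain ⟨hq, k, hk, hk1⟩ := htr v (D.self_mem_V0 v) μ hμX
      have e1 := fix_of_B hq.1 hk hk1 (hbV (κ μ))
      rw [hdfb μ hμ] at e1
      have e2 : k = 1 := Units.ext (D.isF.eq_of_apply hk D.K.one_mem (hb0 (κ μ)) e1.symm)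
      rw [hk1, e2]; rfl
  apply fix_imp_one hg hgv hv
  intro e he
  have hq : (S.f (S.pr e))⁻¹ * e ∈ D.Q v := by
    rw [← S.eq_iff (S.fE _) he, S.pf]
  have e1 : e.1 v = (S.f (S.pr e)).1 (((S.f (S.pr e))⁻¹ * e).1 v) := by
    rw [← au_mul_apply, mul_inv_cancel_left]
  rw [e1, df_apply, hgQ _ hq,
    D.Q_V0 hq (D.self_mem_V0 v) _ (hdfQ _ (S.fE _)).1 (hdfv _)]

end Dat

end Cfsg.Agent.H578
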