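import Cfsg.Agent.H578.FiveB

/-!
# The field with three elements: quaternion planes (helper578)
-/

set_option autoImplicit false
set_option linter.unusedSectionVars false

universe u

namespace Cfsg.Agent.H578

variable {V : Type u} [AddCommGroup V]

/-- equality up to sign -/
def PM (u w : V) : Prop := u = w ∨ u = -w

namespace PM

theorem refl (u : V) : PM u u := Or.inl rfl

theorem symm {u w : V} (h : PM u w) : PM w u := by
  rcases h with h | h
  · exact Or.inl h.symm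
  · exact Or.inr (by rw [h, neg_neg])

theorem trans {u w x : V} (h : PM u w) (h' : PM w x) : PM u x := by
  rcases h with rfl | rfl <;> rcases h' with rfl | rfl
  · exact Or.inl rfl
  · exact Or.inr rfl
  · exact Or.inr rfl
  · exact Or.inl (neg_neg _)

theorem neg_left {u w : V} (h : PM u w) : PM (-u) w := by
  rcases h with rfl | rfl
  · exact Or.inr rfl
  · exact Or.inl (neg_neg _)

theorem map {u w : V} (h : PM u w) (g : AU V) : PM (g.1 u) (g.1 w) := by
  rcases h with rfl | rfl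
  · exact Or.inl rfl
  · exact Or.inr (map_neg _ _)

theorem ne_zero {u w : V} (h : PM u w) (hw : w ≠ 0) : u ≠ 0 := by
  rcases h with rfl | rfl
  · exact hw
  · exact neg_ne_zero.mpr hw

end PM

namespace Dat

variable {G : Subgroup (AU V)}

/-- a quaternion pair -/
structure QP (D : Dat G) (y z : AU V) : Prop where
  yE : y ∈ D.E
  zE : z ∈ D.E
  yy : y * y = -1
  zz : z * z = -1
  yz : y * z = -(z * y)

/-- the elements of the plane -/
def pt (y z : AU V) : Fin 4 → AU V := ![1, y, z, y * z]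

/-- coordinates -/
def al : Fin 4 → ℤ := ![1, 0, 1, 1]

/-- coordinates -/
def be : Fin 4 → ℤ := ![0, 1, -1, 1]

/-- multiples -/
theorem of_zsmul {s : ℤ} {C v : V} (h3 : ∀ x : V, x + x = -x) (hv : v ≠ 0) (e : s • C = v) :
    PM C v := by
  have h30 : ∀ x : V, (3 : ℤ) • x = 0 := by
    intro x
    have : (3 : ℤ) = 1 + 1 + 1 := by norm_num
    rw [this, add_zsmul, add_zsmul, one_zsmul, h3, neg_add_cancel]
  have hs : ∃ q : ℤ, s = 3 * q ∨ s = 3 * q + 1 ∨ s = 3 * q - 1 := by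
    refine ⟨(s + 1) / 3, ?_⟩
    omega
  obtain ⟨q, rfl | rfl | rfl⟩ := hs
  · exfalso
    rw [mul_zsmul', h30, zsmul_zero] at e
    exact hv e.symm
  · left
    rw [add_zsmul, mul_zsmul', h30, zsmul_zero, zero_add, one_zsmul] at e
    exact e
  · right
    rw [sub_zsmul, mul_zsmul', h30, zsmul_zero, one_zsmul] at e
    rw [← e, zero_add, neg_neg]

section plane

variable {D : Dat G} {y z : AU V} (hq : D.QP y z) (h3 : ∀ x : V, x + x = -x)
include hq h3

omit h3 in
theorem QP.yyx (x : V) : y.1 (y.1 x) = -x := by rw [← au_mul_apply, hq.yy]; rfl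

theorem QP.neg_self {x : V} (hx : x = -x) : x = 0 := by
  have := h3 x
  nth_rewrite 2 [hx] at this
  rw [add_neg_cancel] at this
  exact neg_eq_zero.mp this.symm

/-- independence -/
theorem QP.ind {A B : V} (hA : y.1 A + z.1 A = A) (hB : y.1 B + z.1 B = B)
    (e : A + y.1 B = 0) : A = 0 ∧ B = 0 := by
  have e1 : y.1 B = -A := eq_neg_of_add_eq_zero_right e
  have e2 : y.1 (y.1 B) + z.1 (y.1 B) = y.1 B := by
    rw [e1, map_neg, map_neg, ← neg_add, hA]
  have hzB : z.1 B = B - y.1 B := by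
    rw [eq_sub_iff_add_eq, add_comm]; exact hB
  have e3 : z.1 (y.1 B) = -(y.1 (z.1 B)) := by
    rw [← au_mul_apply, ← au_mul_apply, hq.yz, au_neg_apply, neg_neg]
  have e4 : y.1 (y.1 B) + z.1 (y.1 B) = B - y.1 B := by
    rw [e3, hzB, map_sub, hq.yyx]
    have : -B + -(y.1 B - -B) = -(B + B) - y.1 B := by abel
    rw [this, h3, neg_neg]
  rw [e4] at e2
  -- `B = y B + y B = - y B`
  have e5 : B = -(y.1 B) := by rw [← h3]; exact sub_eq_iff_eq_add.mp e2
  have e6 : y.1 B = B := by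
    have := congrArg y.1 e5
    rw [map_neg, hq.yyx, neg_neg] at this
    exact this
  rw [e6] at e5
  have hB0 := hq.neg_self h3 e5
  refine ⟨?_, hB0⟩
  rw [hB0, map_zero, add_zero] at e
  exact e

omit h3 in
/-- classes -/
theorem QP.cls [Nontrivial V] [Finite V] (hE2 : ∀ x ∈ D.E, (x ^ 2).1 ∈ D.K) {x : AU V} (hx : x ∈ D.E) :
    ∃ t : Fin 4, ∃ c ∈ D.E, c * y = y * c ∧ c * z = z * c ∧ x = pt y z t * c := by
  have yi : y⁻¹ = -y := by rw [inv_eq_iff_mul_eq_one, mul_neg, hq.yy, neg_neg]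
  have zi : z⁻¹ = -z := by rw [inv_eq_iff_mul_eq_one, mul_neg, hq.zz, neg_neg]
  have zy : z * y = -(y * z) := by rw [hq.yz, neg_neg]
  have yE := hq.yE
  have zE := hq.zE
  rcases mul_pm hE2 hx yE with h1 | h1 <;> rcases mul_pm hE2 hx zE with h2 | h2
  · exact ⟨0, x, hx, h1, h2, by change x = 1 * x; rw [one_mul]⟩
  · refine ⟨1, y⁻¹ * x, D.E.mul_mem (D.E.inv_mem yE) hx, ?_, ?_, ?_⟩
    · rw [mul_assoc, h1]; group
    · rw [yi, mul_assoc, h2]
      rw [mul_neg, neg_mul, ← mul_assoc, hq.yz]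
      simp only [neg_mul, neg_neg, mul_neg, mul_assoc]
    · change x = y * (y⁻¹ * x); group
  · refine ⟨2, z⁻¹ * x, D.E.mul_mem (D.E.inv_mem zE) hx, ?_, ?_, ?_⟩
    · rw [zi, mul_assoc, h1]
      rw [mul_neg, neg_mul, ← mul_assoc, zy]
      simp only [neg_mul, neg_neg, mul_neg, mul_assoc]
    · rw [mul_assoc, h2]; group
    · change x = z * (z⁻¹ * x); group
  · refine ⟨3, (y * z)⁻¹ * x, D.E.mul_mem (D.E.inv_mem (D.E.mul_mem yE zE)) hx, ?_, ?_, ?_⟩
    · have e1 : y * z * y = -(y * (y * z)) := by rw [mul_assoc, zy, mul_neg]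
      have e2 : (y * z)⁻¹ * y = -(y * (y * z)⁻¹) := by
        rw [inv_mul_eq_iff_eq_mul, mul_neg, ← mul_assoc, e1, neg_mul, neg_neg,
          mul_inv_cancel_right]
      calc (y * z)⁻¹ * x * y = (y * z)⁻¹ * (x * y) := mul_assoc _ _ _
        _ = -(((y * z)⁻¹ * y) * x) := by rw [h1, mul_neg, mul_assoc]
        _ = _ := by rw [e2, neg_mul, neg_neg, mul_assoc]
    · have e1 : y * z * z = -(z * (y * z)) := by
        rw [← mul_assoc z, zy, neg_mul, neg_neg]
      have e2 : (y * z)⁻¹ * z = -(z * (y * z)⁻¹) := by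
        rw [inv_mul_eq_iff_eq_mul, mul_neg, ← mul_assoc, e1, neg_mul, neg_neg,
          mul_inv_cancel_right]
      calc (y * z)⁻¹ * x * z = (y * z)⁻¹ * (x * z) := mul_assoc _ _ _
        _ = -(((y * z)⁻¹ * z) * x) := by rw [h2, mul_neg, mul_assoc]
        _ = _ := by rw [e2, neg_mul, neg_neg, mul_assoc]
    · change x = y * z * ((y * z)⁻¹ * x); group

omit h3 in
theorem QP.pt_apply {C : V} (hC : y.1 C + z.1 C = C) (t : Fin 4) :
    (pt y z t).1 C = al t • C + y.1 (be t • C) := by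
  have hzC : z.1 C = C - y.1 C := by
    rw [eq_sub_iff_add_eq, add_comm]; exact hC
  fin_cases t
  · change C = (1 : ℤ) • C + y.1 ((0 : ℤ) • C)
    rw [one_zsmul, zero_zsmul, map_zero, add_zero]
  · change y.1 C = (0 : ℤ) • C + y.1 ((1 : ℤ) • C)
    rw [one_zsmul, zero_zsmul, zero_add]
  · change z.1 C = (1 : ℤ) • C + y.1 ((-1 : ℤ) • C)
    rw [one_zsmul, neg_one_zsmul, map_neg, hzC, sub_eq_add_neg]
  · change (y * z).1 C = (1 : ℤ) • C + y.1 ((1 : ℤ) • C)
    rw [au_mul_apply, hzC, map_sub, hq.yyx, one_zsmul, sub_neg_eq_add, add_comm]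

omit h3 in
theorem QP.fx_comm {c : AU V} {v : V} (hv : y.1 v + z.1 v = v) (h1 : c * y = y * c)
    (h2 : c * z = z * c) : y.1 (c.1 v) + z.1 (c.1 v) = c.1 v := by
  rw [← au_mul_apply, ← h1, ← au_mul_apply z, ← h2, au_mul_apply, au_mul_apply, ← map_add, hv]

/-- pairs -/
theorem QP.pair [Nontrivial V] [Finite V] (hE2 : ∀ x ∈ D.E, (x ^ 2).1 ∈ D.K) {v : V} (hv0 : v ≠ 0)
    (hv : y.1 v + z.1 v = v) {y' z' : AU V} (hy' : y' ∈ D.E) (hz' : z' ∈ D.E)
    (hv' : y'.1 v + z'.1 v = v) :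
    ((y' * y = y * y' ∧ y' * z = z * y') ∧ (z' * y = y * z' ∧ z' * z = z * z')) ∨
    ∃ t t' : Fin 4, t ≠ 0 ∧ t' ≠ 0 ∧ t ≠ t' ∧ ∃ c ∈ D.E, ∃ c' ∈ D.E, (c * y = y * c ∧ c * z = z * c) ∧
      (c' * y = y * c' ∧ c' * z = z * c') ∧ PM (c.1 v) v ∧ PM (c'.1 v) v ∧ y' = pt y z t * c ∧
      z' = pt y z t' * c' := by
  obtain ⟨t, c, hc, hcy, hcz, rfl⟩ := hq.cls hE2 hy'
  obtain ⟨t', c', hc', hcy', hcz', rfl⟩ := hq.cls hE2 hz'
  have hC := hq.fx_comm hv hcy hcz
  have hC' := hq.fx_comm hv hcy' hcz'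
  have hCn : c.1 v ≠ 0 := fun h0 => hv0 (au_injective c (by rw [h0, map_zero]))
  have hCn' : c'.1 v ≠ 0 := fun h0 => hv0 (au_injective c' (by rw [h0, map_zero]))
  rw [au_mul_apply, au_mul_apply, hq.pt_apply hC, hq.pt_apply hC'] at hv'
  have fz : ∀ (n : ℤ) {u : V}, y.1 u + z.1 u = u → y.1 (n • u) + z.1 (n • u) = n • u := by
    intro n u hu
    rw [map_zsmul, map_zsmul, ← zsmul_add, hu]
  have fa : ∀ {u w : V}, y.1 u + z.1 u = u → y.1 w + z.1 w = w →
      y.1 (u + w) + z.1 (u + w) = u + w := by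
    intro u w hu hw
    calc y.1 (u + w) + z.1 (u + w) = (y.1 u + z.1 u) + (y.1 w + z.1 w) := by
          rw [map_add, map_add]; abel
      _ = u + w := by rw [hu, hw]
  obtain ⟨eA, eB⟩ := hq.ind h3 (A := al t • c.1 v + al t' • c'.1 v + (-1 : ℤ) • v)
    (B := be t • c.1 v + be t' • c'.1 v)
    (fa (fa (fz _ hC) (fz _ hC')) (fz _ hv)) (fa (fz _ hC) (fz _ hC')) (by
      rw [map_add, neg_one_zsmul]
      have : al t • c.1 v + al t' • c'.1 v + -v + (y.1 (be t • c.1 v) + y.1 (be t' • c'.1 v)) =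
        (al t • c.1 v + y.1 (be t • c.1 v) + (al t' • c'.1 v + y.1 (be t' • c'.1 v))) - v := by abel
      rw [this, hv', sub_self])
  have hb : ∀ s : Fin 4, (s = 0 ∧ be s = 0) ∨ (s ≠ 0 ∧ be s * be s = 1) := by decide
  have hsq : ∀ s s' : Fin 4, be s * be s = 1 → be s' * be s' = 1 → s = s' →
      al s + al s' * (-(be s * be s')) = 0 := by decide
  rcases hb t with ⟨ht, hbt⟩ | ⟨ht, hbt⟩ <;> rcases hb t' with ⟨ht', hbt'⟩ | ⟨ht', hbt'⟩
  · left
    subst ht ht'
    have e1 : pt y z 0 * c = c := one_mul c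
    have e2 : pt y z 0 * c' = c' := one_mul c'
    rw [e1, e2]
    exact ⟨⟨hcy, hcz⟩, hcy', hcz'⟩
  · exfalso
    rw [hbt, zero_zsmul, zero_add] at eB
    have := congrArg (fun u => be t' • u) eB
    simp only [zsmul_zero] at this
    rw [← mul_zsmul, hbt', one_zsmul] at this
    exact hCn' this
  · exfalso
    rw [hbt', zero_zsmul, add_zero] at eB
    have := congrArg (fun u => be t • u) eB
    simp only [zsmul_zero] at this
    rw [← mul_zsmul, hbt, one_zsmul] at this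
    exact hCn this
  · right
    have e1 : c'.1 v = (-(be t * be t')) • c.1 v := by
      have := congrArg (fun u => be t' • u) eB
      simp only [zsmul_zero] at this
      rw [zsmul_add, ← mul_zsmul, ← mul_zsmul, hbt', one_zsmul] at this
      rw [neg_zsmul, mul_comm (be t)]
      exact eq_neg_of_add_eq_zero_right this
    have e2 : (al t + al t' * (-(be t * be t'))) • c.1 v = v := by
      rw [add_zsmul, mul_zsmul, ← e1]
      rw [neg_one_zsmul] at eA
      exact sub_eq_zero.mp (by rw [sub_eq_add_neg]; exact eA)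
    have p1 := of_zsmul h3 hv0 e2
    have p2 : PM (c'.1 v) v := by
      refine PM.trans ?_ p1
      have h4 : -(be t * be t') = 1 ∨ -(be t * be t') = -1 := by
        have : ∀ s s' : Fin 4, be s * be s = 1 → be s' * be s' = 1 →
          (-(be s * be s') = 1 ∨ -(be s * be s') = -1) := by decide
        exact this t t' hbt hbt'
      rcases h4 with h4 | h4
      · left; rw [e1, h4, one_zsmul]
      · right; rw [e1, h4, neg_one_zsmul]
    refine ⟨t, t', ht, ht', ?_, c, hc, c', hc', ⟨hcy, hcz⟩, ⟨hcy', hcz'⟩, p1, p2, rfl, rfl⟩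
    intro htt
    rw [hsq t t' hbt hbt' htt, zero_zsmul] at e2
    exact hv0 e2.symm

end plane

end Dat

end Cfsg.Agent.H578
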