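import Cfsg.Agent.H578.QF
import Cfsg.Agent.H578.Act3

/-!
# The field with three elements: families of quaternion planes (helper578)
-/

set_option autoImplicit false
set_option linter.unusedSectionVars false

universe u

namespace Cfsg.Agent.H578

variable {V : Type u} [AddCommGroup V]

namespace Dat

variable {G : Subgroup (AU V)}

/-- commuting with a family -/
def Cen {k : ℕ} (P : Fin k → Bool → AU V) (x : AU V) : Prop := ∀ i b, x * P i b = P i b * x

/-- a family of commuting quaternion pairs -/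
structure QF (D : Dat G) {k : ℕ} (P : Fin k → Bool → AU V) (v : V) : Prop where
  qp : ∀ i, D.QP (P i false) (P i true)
  comm : ∀ i j b b', i ≠ j → P i b * P j b' = P j b' * P i b
  hv : v ≠ 0
  tv : ∀ i, (P i false).1 v + (P i true).1 v = v

theorem QP.neg {D : Dat G} (hN : (-1 : AU V) ∈ D.E) {y z : AU V} (hq : D.QP y z) :
    D.QP (-y) (-z) := by
  refine ⟨?_, ?_, ?_, ?_, ?_⟩
  · rw [← neg_one_mul]; exact D.E.mul_mem hN hq.yE
  · rw [← neg_one_mul]; exact D.E.mul_mem hN hq.zE
  · rw [neg_mul_neg, hq.yy]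
  · rw [neg_mul_neg, hq.zz]
  · rw [neg_mul_neg, neg_mul_neg, hq.yz]

theorem neg_one_mem (D : Dat G) : (-1 : AU V) ∈ D.E := D.KE _ (D.K.neg_mem D.K.one_mem)

/-- extension of a family -/
theorem QF.ext {D : Dat G} (h3 : ∀ x : V, x + x = -x) {k : ℕ} {P : Fin k → Bool → AU V} {v : V}
    (h : D.QF P v) {y z : AU V} (hq : D.QP y z) (hy : Cen P y) (hz : Cen P z) :
    ∃ (P' : Fin (k + 1) → Bool → AU V) (v' : V), D.QF P' v' := by
  -- construction
  have key : ∀ y z : AU V, D.QP y z → Cen P y → Cen P z → ∀ v' : V, v' ≠ 0 →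
      (∀ i, (P i false).1 v' + (P i true).1 v' = v') → y.1 v' + z.1 v' = v' →
      ∃ (P' : Fin (k + 1) → Bool → AU V) (v' : V), D.QF P' v' := by
    intro y z hq hy hz v' hv' h1 h2
    refine ⟨Fin.cons (fun b => cond b z y) P, v', ⟨?_, ?_, hv', ?_⟩⟩
    · intro i
      refine Fin.cases ?_ (fun i => ?_) i
      · exact hq
      · exact h.qp i
    · intro i j b b'
      refine Fin.cases ?_ (fun i => ?_) i <;> refine Fin.cases ?_ (fun j => ?_) j
      · intro hij; exact absurd rfl hij
      · intro _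
        cases b
        · exact hy j b'
        · exact hz j b'
      · intro _
        cases b'
        · exact (hy i b).symm
        · exact (hz i b).symm
      · intro hij
        exact h.comm i j b b' (fun hij' => hij (by rw [hij']))
    · intro i
      refine Fin.cases ?_ (fun i => ?_) i
      · exact h2
      · exact h1 i
  have yzx : ∀ x : V, y.1 (z.1 x) = -(z.1 (y.1 x)) := fun x => by
    rw [← au_mul_apply, hq.yz, au_neg_apply, au_mul_apply]
  have yyx : ∀ x : V, y.1 (y.1 x) = -x := fun x => by rw [← au_mul_apply, hq.yy]; rfl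
  have zzx : ∀ x : V, z.1 (z.1 x) = -x := fun x => by rw [← au_mul_apply, hq.zz]; rfl
  by_cases h0 : v + (y.1 v + z.1 v) = 0
  · refine key (-y) (-z) (hq.neg D.neg_one_mem) (fun i b => ?_) (fun i b => ?_) v h.hv h.tv ?_
    · rw [neg_mul, mul_neg, hy i b]
    · rw [neg_mul, mul_neg, hz i b]
    · rw [au_neg_apply, au_neg_apply, ← neg_add]
      exact neg_eq_of_add_eq_zero_left h0
  · refine key y z hq hy hz (v + (y.1 v + z.1 v)) h0 (fun i => ?_) ?_
    · have e1 : ∀ b, (P i b).1 (v + (y.1 v + z.1 v)) =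
          (P i b).1 v + (y.1 ((P i b).1 v) + z.1 ((P i b).1 v)) := by
        intro b
        rw [map_add, map_add, ← au_mul_apply _ y, ← hy i b, ← au_mul_apply _ z, ← hz i b,
          au_mul_apply, au_mul_apply]
      rw [e1, e1]
      have e2 := h.tv i
      have e3 : (P i false).1 v + (y.1 ((P i false).1 v) + z.1 ((P i false).1 v)) +
          ((P i true).1 v + (y.1 ((P i true).1 v) + z.1 ((P i true).1 v))) =
          ((P i false).1 v + (P i true).1 v) + (y.1 ((P i false).1 v + (P i true).1 v) +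
            z.1 ((P i false).1 v + (P i true).1 v)) := by
        rw [map_add, map_add]; abel
      rw [e3, e2]
    · rw [map_add, map_add, map_add, map_add, yyx, zzx, yzx]
      have : y.1 v + (-v + -(z.1 (y.1 v))) + (z.1 v + (z.1 (y.1 v) + -v)) =
        y.1 v + z.1 v + -(v + v) := by abel
      rw [this, h3, neg_neg]
      abel

variable [Nontrivial V] [Finite V]

/-- a maximal family -/
theorem exists_QF (D : Dat G) (h3 : ∀ x : V, x + x = -x) (two : (1 : AU V) ≠ -1) :
    ∃ (k : ℕ) (P : Fin k → Bool → AU V) (v : V), D.QF P v ∧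
      ∀ y z, D.QP y z → Cen P y → Cen P z → False := by
  by_contra hcon
  push Not at hcon
  have hfe : Finite (AU V) := by
    have : Finite (AddMonoid.End V) := finite_end
    infer_instance
  have h1 : ∀ k : ℕ, ∃ (P : Fin k → Bool → AU V) (v : V), D.QF P v := by
    intro k
    induction k with
    | zero =>
      obtain ⟨v, hv⟩ := exists_ne (0 : V)
      exact ⟨fun i => i.elim0, v, ⟨fun i => i.elim0, fun i => i.elim0, hv, fun i => i.elim0⟩⟩
    | succ k ih =>
      obtain ⟨P, v, h⟩ := ih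
      obtain ⟨y, z, hq, hy, hz, -⟩ := hcon k P v h
      exact h.ext h3 hq hy hz
  obtain ⟨P, v, h⟩ := h1 (Nat.card (AU V) + 1)
  have hinj : Function.Injective (fun i => P i false) := by
    intro i j hij
    by_contra hne
    simp only at hij
    have e1 := h.comm i j true false hne
    rw [← hij] at e1
    have e2 := (h.qp i).yz
    rw [e1] at e2
    have e3 : (P i true * P i false) * 1 = (P i true * P i false) * (-1) := by
      rw [mul_one, mul_neg_one]
      rw [e1]
      nth_rewrite 1 [e2]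
      rfl
    exact two (mul_left_cancel e3)
  have := Nat.card_le_card_of_injective _ hinj
  rw [Nat.card_fin] at this
  omega

section family

variable {D : Dat G} {k : ℕ} {P : Fin k → Bool → AU V} {v : V} (h : D.QF P v)
  (h3 : ∀ x : V, x + x = -x) (hE2 : ∀ x ∈ D.E, (x ^ 2).1 ∈ D.K)
include h h3 hE2

/-- adjusting -/
theorem QF.adj (x : AU V) (hx : x ∈ D.E) : ∃ p ∈ D.E, (∀ u : AU V, Cen P u → u * p = p * u) ∧
    Cen P (p⁻¹ * x) := by
  have key : ∀ s : Finset (Fin k), ∃ p ∈ D.E, (∀ u : AU V, Cen P u → u * p = p * u) ∧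
      ∀ i ∈ s, ∀ b, (p⁻¹ * x) * P i b = P i b * (p⁻¹ * x) := by
    intro s
    induction s using Finset.induction_on with
    | empty => exact ⟨1, D.E.one_mem, fun u _ => by rw [mul_one, one_mul], by simp⟩
    | insert i s his ih =>
      obtain ⟨p, hp, h1, h2⟩ := ih
      obtain ⟨t, c, hc, hcy, hcz, e⟩ := (h.qp i).cls hE2
        (D.E.mul_mem (D.E.inv_mem hp) hx)
      have htE : pt (P i false) (P i true) t ∈ D.E := by
        fin_cases t
        · exact D.E.one_mem
        · exact (h.qp i).yE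
        · exact (h.qp i).zE
        · exact D.E.mul_mem (h.qp i).yE (h.qp i).zE
      have htc : ∀ u : AU V, u * P i false = P i false * u → u * P i true = P i true * u →
          u * pt (P i false) (P i true) t = pt (P i false) (P i true) t * u := by
        intro u e1 e2
        fin_cases t
        · change u * 1 = 1 * u; rw [mul_one, one_mul]
        · exact e1
        · exact e2
        · change u * (P i false * P i true) = P i false * P i true * u
          rw [← mul_assoc, e1, mul_assoc, e2, mul_assoc]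
      have ec : (p * pt (P i false) (P i true) t)⁻¹ * x = c := by
        rw [mul_inv_rev, mul_assoc, e, inv_mul_cancel_left]
      refine ⟨p * pt (P i false) (P i true) t, D.E.mul_mem hp htE, fun u hu => ?_, ?_⟩
      · rw [← mul_assoc, h1 u hu, mul_assoc, htc u (hu i false) (hu i true), mul_assoc]
      · intro j hj b
        rw [ec]
        rcases Finset.mem_insert.mp hj with rfl | hj
        · cases b
          · exact hcy
          · exact hcz
        · have hij : j ≠ i := fun hji => his (hji ▸ hj)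
          have e3 := h2 j hj b
          have e4 := htc (P j b) (h.comm j i b false hij) (h.comm j i b true hij)
          rw [e] at e3
          apply mul_left_cancel (a := pt (P i false) (P i true) t)
          rw [← mul_assoc, e3, ← mul_assoc, ← mul_assoc, e4]
  obtain ⟨p, hp, h1, h2⟩ := key Finset.univ
  exact ⟨p, hp, h1, fun i b => h2 i (Finset.mem_univ i) b⟩

/-- the centre of the centraliser of the family -/
theorem QF.cen_center {x : AU V} (hx : x ∈ D.E) (hxc : Cen P x) (hxK : x.1 ∉ D.K) :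
    ∃ y ∈ D.E, Cen P y ∧ x * y = -(y * x) := by
  obtain ⟨y₀, hy₀, hxy⟩ : ∃ y ∈ D.E, x * y ≠ y * x := by
    by_contra hcon
    push Not at hcon
    exact hxK (D.center x hx hcon)
  obtain ⟨p, hp, h1, h2⟩ := h.adj h3 hE2 y₀ hy₀
  have hyE := D.E.mul_mem (D.E.inv_mem hp) hy₀
  refine ⟨p⁻¹ * y₀, hyE, h2, (mul_pm hE2 hx hyE).resolve_left ?_⟩
  intro e
  apply hxy
  have e1 := h1 x hxc
  calc x * y₀ = (x * p) * (p⁻¹ * y₀) := by group
    _ = p * (x * (p⁻¹ * y₀)) := by rw [e1, mul_assoc]
    _ = p * (p⁻¹ * y₀ * x) := by rw [e]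
    _ = y₀ * x := by group

variable (hK : ∀ c : AU V, c.1 ∈ D.K → c = 1 ∨ c = -1)
  (hmax : ∀ y z, D.QP y z → Cen P y → Cen P z → False)
include hK hmax

/-- the residual part -/
theorem QF.resid : (∀ x ∈ D.E, Cen P x → x.1 ∈ D.K) ∨ ∃ a ∈ D.E, ∃ f ∈ D.E, Cen P a ∧ Cen P f ∧
    a * a = 1 ∧ f * f = 1 ∧ a * f = -(f * a) ∧
    ∀ x ∈ D.E, Cen P x → x * a = a * x → x * f = f * x → x.1 ∈ D.K := by
  have hsq : ∀ x ∈ D.E, x * x = 1 ∨ x * x = -1 := fun x hx => by
    rw [← pow_two]; exact hK _ (hE2 x hx)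
  have cmul : ∀ {x y : AU V}, Cen P x → Cen P y → Cen P (x * y) := by
    intro x y hx hy i b
    rw [mul_assoc, hy i b, ← mul_assoc, hx i b, mul_assoc]
  by_cases hA : ∀ x ∈ D.E, Cen P x → x.1 ∈ D.K
  · exact Or.inl hA
  right
  push Not at hA
  obtain ⟨x, hx, hxc, hxK⟩ := hA
  obtain ⟨y, hy, hyc, hxy⟩ := h.cen_center h3 hE2 hx hxc hxK
  have hyx : y * x = -(x * y) := by rw [hxy, neg_neg]
  obtain ⟨a, ha, f, hf, hac, hfc, haa, hff, haf⟩ : ∃ a ∈ D.E, ∃ f ∈ D.E, Cen P a ∧ Cen P f ∧
      a * a = 1 ∧ f * f = 1 ∧ a * f = -(f * a) := by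
    have hxyE := D.E.mul_mem hx hy
    have hxysq : (x * y) * (x * y) = -((x * x) * (y * y)) := by
      calc (x * y) * (x * y) = x * (y * x) * y := by simp only [mul_assoc]
        _ = x * (-(x * y)) * y := by rw [hyx]
        _ = _ := by rw [mul_neg, neg_mul]; simp only [mul_assoc]
    rcases hsq x hx with h1 | h1 <;> rcases hsq y hy with h2 | h2
    · exact ⟨x, hx, y, hy, hxc, hyc, h1, h2, hxy⟩
    · refine ⟨x, hx, x * y, hxyE, hxc, cmul hxc hyc, h1, ?_, ?_⟩
      · rw [hxysq, h1, h2, one_mul, neg_neg]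
      · rw [mul_assoc, hyx, mul_neg, neg_neg]
    · refine ⟨y, hy, x * y, hxyE, hyc, cmul hxc hyc, h2, ?_, ?_⟩
      · rw [hxysq, h1, h2, mul_one, neg_neg]
      · rw [← mul_assoc, hyx, neg_mul]
    · exact absurd (hmax x y ⟨hx, hy, h1, h2, hxy⟩ hxc hyc) (fun h => h)
  refine ⟨a, ha, f, hf, hac, hfc, haa, hff, haf, fun u hu huc hua huf => ?_⟩
  by_contra huK
  have hfa : f * a = -(a * f) := by rw [haf, neg_neg]
  -- `w² = -1` in the centraliser
  have key : ∀ w ∈ D.E, Cen P w → w * a = a * w → w * f = f * w → w * w = -1 → False := by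
    intro w hw hwc hwa hwf hww
    apply hmax (a * f) (a * w) ?_ (cmul hac hfc) (cmul hac hwc)
    refine ⟨D.E.mul_mem ha hf, D.E.mul_mem ha hw, ?_, ?_, ?_⟩
    · calc a * f * (a * f) = a * (f * a) * f := by simp only [mul_assoc]
        _ = -((a * a) * (f * f)) := by rw [hfa, mul_neg, neg_mul]; simp only [mul_assoc]
        _ = -1 := by rw [haa, hff, one_mul]
    · calc a * w * (a * w) = a * (w * a) * w := by simp only [mul_assoc]
        _ = (a * a) * (w * w) := by rw [hwa]; simp only [mul_assoc]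
        _ = -1 := by rw [haa, hww, one_mul]
    · calc a * f * (a * w) = a * (f * a) * w := by simp only [mul_assoc]
        _ = -(a * a * (f * w)) := by rw [hfa, mul_neg, neg_mul]; simp only [mul_assoc]
        _ = -(a * a * (w * f)) := by rw [hwf]
        _ = -(a * (w * a) * f) := by rw [hwa]; simp only [mul_assoc]
        _ = _ := by simp only [mul_assoc]
  obtain ⟨u₀, hu₀, hu₀c, huu₀⟩ := h.cen_center h3 hE2 hu huc huK
  -- adjust `u₀`
  obtain ⟨u₁, hu₁, hu₁c, h4, h5⟩ : ∃ u₁ ∈ D.E, Cen P u₁ ∧ u * u₁ = -(u₁ * u) ∧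
      u₁ * a = a * u₁ := by
    rcases mul_pm hE2 hu₀ ha with h6 | h6
    · exact ⟨u₀, hu₀, hu₀c, huu₀, h6⟩
    · refine ⟨f * u₀, D.E.mul_mem hf hu₀, cmul hfc hu₀c, ?_, ?_⟩
      · rw [← mul_assoc, huf, mul_assoc, huu₀, mul_neg, mul_assoc]
      · rw [mul_assoc, h6, mul_neg, ← mul_assoc, hfa, neg_mul, neg_neg, mul_assoc]
  obtain ⟨u₂, hu₂, hu₂c, h6, h7, h8⟩ : ∃ u₂ ∈ D.E, Cen P u₂ ∧ u * u₂ = -(u₂ * u) ∧
      u₂ * a = a * u₂ ∧ u₂ * f = f * u₂ := by
    rcases mul_pm hE2 hu₁ hf with h6 | h6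
    · exact ⟨u₁, hu₁, hu₁c, h4, h5, h6⟩
    · refine ⟨a * u₁, D.E.mul_mem ha hu₁, cmul hac hu₁c, ?_, ?_, ?_⟩
      · rw [← mul_assoc, hua, mul_assoc, h4, mul_neg, mul_assoc]
      · rw [mul_assoc, h5]
      · rw [mul_assoc, h6, mul_neg, ← mul_assoc, haf, neg_mul, neg_neg, mul_assoc]
  have hu₂u : u₂ * u = -(u * u₂) := by rw [h6, neg_neg]
  rcases hsq u hu with g1 | g1
  · rcases hsq u₂ hu₂ with g2 | g2
    · apply key (u * u₂) (D.E.mul_mem hu hu₂) (cmul huc hu₂c)
      · rw [mul_assoc, h7, ← mul_assoc, hua, mul_assoc]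
      · rw [mul_assoc, h8, ← mul_assoc, huf, mul_assoc]
      · calc u * u₂ * (u * u₂) = u * (u₂ * u) * u₂ := by simp only [mul_assoc]
          _ = -((u * u) * (u₂ * u₂)) := by rw [hu₂u, mul_neg, neg_mul]; simp only [mul_assoc]
          _ = -1 := by rw [g1, g2, one_mul]
    · exact key u₂ hu₂ hu₂c h7 h8 g2
  · exact key u hu huc hua huf g1

end family

end Dat

end Cfsg.Agent.H578
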