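import Cfsg.Agent.H578.QF2

/-!
# The field with three elements: the invariant transversal (helper578)
-/

set_option autoImplicit false
set_option linter.unusedSectionVars false

universe u

namespace Cfsg.Agent.H578

variable {V : Type u} [AddCommGroup V]

theorem dvd_of_zsmul {m : ℤ} {v : V} (h3 : ∀ x : V, x + x = -x) (hv : v ≠ 0) (e : m • v = 0) :
    (3 : ℤ) ∣ m := by
  have h30 : (3 : ℤ) • v = 0 := by
    have : (3 : ℤ) = 1 + 1 + 1 := by norm_num
    rw [this, add_zsmul, add_zsmul, one_zsmul, h3, neg_add_cancel]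
  have : Fact (Nat.Prime 3) := ⟨by norm_num⟩
  have h1 : addOrderOf v = 3 := by
    apply addOrderOf_eq_prime _ hv
    rw [← natCast_zsmul]; exact h30
  have h2 := addOrderOf_dvd_iff_zsmul_eq_zero.mpr e
  rw [h1] at h2
  exact h2

namespace Dat

variable {G : Subgroup (AU V)}

theorem pt_mul (y z : AU V) (yy : y * y = -1) (zz : z * z = -1) (yz : y * z = -(z * y)) :
    ∀ t t' : Fin 4, t ≠ 0 → t' ≠ 0 → t ≠ t' → ∃ s : Fin 4, s ≠ 0 ∧
      (pt y z t * pt y z t' = pt y z s ∨ pt y z t * pt y z t' = -(pt y z s)) := by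
  have zy : z * y = -(y * z) := by rw [yz, neg_neg]
  have e12 : pt y z 1 * pt y z 2 = pt y z 3 := rfl
  have e21 : pt y z 2 * pt y z 1 = -(pt y z 3) := zy
  have e13 : pt y z 1 * pt y z 3 = -(pt y z 2) := by
    change y * (y * z) = -z
    rw [← mul_assoc, yy, neg_one_mul]
  have e31 : pt y z 3 * pt y z 1 = pt y z 2 := by
    change y * z * y = z
    rw [mul_assoc, zy, mul_neg, ← mul_assoc, yy, neg_one_mul, neg_neg]
  have e23 : pt y z 2 * pt y z 3 = pt y z 1 := by
    change z * (y * z) = y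
    rw [yz, mul_neg, ← mul_assoc, zz, neg_one_mul, neg_neg]
  have e32 : pt y z 3 * pt y z 2 = -(pt y z 1) := by
    change y * z * z = -y
    rw [mul_assoc, zz, mul_neg_one]
  intro t t' ht ht' htt
  fin_cases t <;> fin_cases t' <;> first
    | exact absurd rfl ht
    | exact absurd rfl ht'
    | exact absurd rfl htt
    | exact ⟨3, by decide, Or.inl e12⟩
    | exact ⟨3, by decide, Or.inr e21⟩
    | exact ⟨2, by decide, Or.inr e13⟩
    | exact ⟨2, by decide, Or.inl e31⟩
    | exact ⟨1, by decide, Or.inl e23⟩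
    | exact ⟨1, by decide, Or.inr e32⟩

theorem pt_comm {y z : AU V} {u : AU V} (h1 : u * y = y * u) (h2 : u * z = z * u) (t : Fin 4) :
    u * pt y z t = pt y z t * u := by
  fin_cases t
  · change u * 1 = 1 * u; rw [mul_one, one_mul]
  · exact h1
  · exact h2
  · change u * (y * z) = y * z * u
    rw [← mul_assoc, h1, mul_assoc, h2, mul_assoc]

theorem pt_mem {D : Dat G} {y z : AU V} (hq : D.QP y z) (t : Fin 4) : pt y z t ∈ D.E := by
  fin_cases t
  · exact D.E.one_mem
  · exact hq.yE
  · exact hq.zE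
  · exact D.E.mul_mem hq.yE hq.zE

section family

variable [Nontrivial V] [Finite V] {D : Dat G} {k : ℕ} {P : Fin k → Bool → AU V} {v : V}
  (h : D.QF P v) (h3 : ∀ x : V, x + x = -x) (hE2 : ∀ x ∈ D.E, (x ^ 2).1 ∈ D.K)
include h h3 hE2

/-- the vectors -/
def ev {k : ℕ} (P : Fin k → Bool → AU V) (v : V) (y : Fin k × Fin 3) : V :=
  (pt (P y.1 false) (P y.1 true) y.2.succ).1 v

theorem QF.fx_other {i j : Fin k} (hij : i ≠ j) (t : Fin 4) {u : V}
    (hu : (P i false).1 u + (P i true).1 u = u) :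
    (P i false).1 ((pt (P j false) (P j true) t).1 u) +
      (P i true).1 ((pt (P j false) (P j true) t).1 u) = (pt (P j false) (P j true) t).1 u := by
  apply (h.qp i).fx_comm hu
  · exact (pt_comm (h.comm i j false false hij) (h.comm i j false true hij) t).symm
  · exact (pt_comm (h.comm i j true false hij) (h.comm i j true true hij) t).symm

theorem QF.ev_inj {y y' : Fin k × Fin 3} (e : PM (ev P v y) (ev P v y')) : y = y' := by
  obtain ⟨i, c⟩ := y
  obtain ⟨j, d⟩ := y'
  have hbs : ∀ c : Fin 3, be c.succ * be c.succ = 1 := by decide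
  have fz : ∀ (n : ℤ) {u : V}, (P i false).1 u + (P i true).1 u = u →
      (P i false).1 (n • u) + (P i true).1 (n • u) = n • u := by
    intro n u hu
    rw [map_zsmul, map_zsmul, ← zsmul_add, hu]
  have fa : ∀ {u w : V}, (P i false).1 u + (P i true).1 u = u →
      (P i false).1 w + (P i true).1 w = w →
      (P i false).1 (u + w) + (P i true).1 (u + w) = u + w := by
    intro u w hu hw
    calc (P i false).1 (u + w) + (P i true).1 (u + w) =
        ((P i false).1 u + (P i true).1 u) + ((P i false).1 w + (P i true).1 w) := by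
          rw [map_add, map_add]; abel
      _ = u + w := by rw [hu, hw]
  have hs : ∃ s : ℤ, (s = 1 ∨ s = -1) ∧ ev P v (i, c) = s • ev P v (j, d) := by
    rcases e with e | e
    · exact ⟨1, Or.inl rfl, by rw [one_zsmul]; exact e⟩
    · exact ⟨-1, Or.inr rfl, by rw [neg_one_zsmul]; exact e⟩
  obtain ⟨s, hs, e⟩ := hs
  have e1 : ev P v (i, c) = al c.succ • v + (P i false).1 (be c.succ • v) :=
    (h.qp i).pt_apply (h.tv i) c.succ
  rw [e1] at e
  by_cases hij : i = j
  · subst hij
    have e2 : ev P v (i, d) = al d.succ • v + (P i false).1 (be d.succ • v) :=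
      (h.qp i).pt_apply (h.tv i) d.succ
    rw [e2] at e
    obtain ⟨eA, eB⟩ := (h.qp i).ind h3 (A := (al c.succ - s * al d.succ) • v)
      (B := (be c.succ - s * be d.succ) • v) (fz _ (h.tv i)) (fz _ (h.tv i)) (by
        rw [sub_zsmul, sub_zsmul, mul_zsmul, mul_zsmul, map_add (P i false).1, map_neg,
          map_zsmul (P i false).1 s]
        rw [zsmul_add] at e
        have : al c.succ • v + -(s • al d.succ • v) + ((P i false).1 (be c.succ • v) +
            -(s • (P i false).1 (be d.succ • v))) =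
          (al c.succ • v + (P i false).1 (be c.succ • v)) -
          (s • al d.succ • v + s • (P i false).1 (be d.succ • v)) := by abel
        rw [this, e, sub_self])
    have dA := dvd_of_zsmul h3 h.hv eA
    have dB := dvd_of_zsmul h3 h.hv eB
    have : ∀ (c d : Fin 3) (s : ℤ), (s = 1 ∨ s = -1) → (3 : ℤ) ∣ al c.succ - s * al d.succ →
        (3 : ℤ) ∣ be c.succ - s * be d.succ → c = d := by
      intro c d s hs
      rcases hs with rfl | rfl
      · revert c d; decide
      · revert c d; decide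
    rw [this c d s hs dA dB]
  · exfalso
    have hfx : (P i false).1 (ev P v (j, d)) + (P i true).1 (ev P v (j, d)) = ev P v (j, d) :=
      h.fx_other h3 hE2 hij d.succ (h.tv i)
    obtain ⟨-, eB⟩ := (h.qp i).ind h3 (A := al c.succ • v + (-s) • ev P v (j, d))
      (B := be c.succ • v) (fa (fz _ (h.tv i)) (fz _ hfx)) (fz _ (h.tv i)) (by
        rw [neg_zsmul, ← e]; abel)
    have := congrArg (fun u => be c.succ • u) eB
    simp only [zsmul_zero] at this
    rw [← mul_zsmul, hbs, one_zsmul] at this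
    exact h.hv this

variable (hmax : ∀ y z, D.QP y z → Cen P y → Cen P z → False)
include hmax

theorem QF.ev_map {g : AU V} (hg : g ∈ G) (hgv : g.1 v = v) (i : Fin k) :
    ∃ j : Fin k, ∀ c : Fin 3, ∃ d : Fin 3, PM (g.1 (ev P v (i, c))) (ev P v (j, d)) := by
  have hq := h.qp i
  obtain ⟨y', hy'⟩ : ∃ y', y' = g * P i false * g⁻¹ := ⟨_, rfl⟩
  obtain ⟨z', hz'⟩ : ∃ z', z' = g * P i true * g⁻¹ := ⟨_, rfl⟩
  have ey : g.1 ((P i false).1 v) = y'.1 v := by
    rw [hy', au_mul_apply, au_mul_apply, inv_fix hgv]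
  have ez : g.1 ((P i true).1 v) = z'.1 v := by
    rw [hz', au_mul_apply, au_mul_apply, inv_fix hgv]
  have eyz : g.1 ((P i false * P i true).1 v) = (y' * z').1 v := by
    have : y' * z' = g * (P i false * P i true) * g⁻¹ := by rw [hy', hz']; group
    rw [this, au_mul_apply (g * (P i false * P i true)) g⁻¹, inv_fix hgv, au_mul_apply g]
  have hq' : D.QP y' z' := by
    refine ⟨?_, ?_, ?_, ?_, ?_⟩
    · rw [hy']; exact D.GE g hg _ hq.yE
    · rw [hz']; exact D.GE g hg _ hq.zE
    · rw [hy']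
      calc g * P i false * g⁻¹ * (g * P i false * g⁻¹) = g * (P i false * P i false) * g⁻¹ := by
            group
        _ = -1 := by rw [hq.yy, mul_neg, mul_one, neg_mul, mul_inv_cancel]
    · rw [hz']
      calc g * P i true * g⁻¹ * (g * P i true * g⁻¹) = g * (P i true * P i true) * g⁻¹ := by
            group
        _ = -1 := by rw [hq.zz, mul_neg, mul_one, neg_mul, mul_inv_cancel]
    · rw [hy', hz']
      calc g * P i false * g⁻¹ * (g * P i true * g⁻¹) = g * (P i false * P i true) * g⁻¹ := by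
            group
        _ = -(g * (P i true * P i false) * g⁻¹) := by rw [hq.yz, mul_neg, neg_mul]
        _ = _ := by congr 1; group
  have hv' : y'.1 v + z'.1 v = v := by
    rw [← ey, ← ez, ← map_add, h.tv i, hgv]
  have hj : ∃ j, ¬ ((y' * P j false = P j false * y' ∧ y' * P j true = P j true * y') ∧
      (z' * P j false = P j false * z' ∧ z' * P j true = P j true * z')) := by
    by_contra hcon
    push Not at hcon
    have hcon' : ∀ j, (y' * P j false = P j false * y' ∧ y' * P j true = P j true * y') ∧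
      (z' * P j false = P j false * z' ∧ z' * P j true = P j true * z') := by
      intro j
      by_contra hc
      exact hc (by
        by_contra hc'
        exact absurd (hcon j) (by tauto))
    apply hmax y' z' hq'
    · intro j b; cases b
      · exact (hcon' j).1.1
      · exact (hcon' j).1.2
    · intro j b; cases b
      · exact (hcon' j).2.1
      · exact (hcon' j).2.2
  obtain ⟨j, hj⟩ := hj
  refine ⟨j, ?_⟩
  rcases (h.qp j).pair h3 hE2 h.hv (h.tv j) hq'.yE hq'.zE hv' with h1 | h1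
  · exact absurd h1 hj
  obtain ⟨t, t', ht, ht', htt, c, hc, c', hc', ⟨hcy, hcz⟩, ⟨hcy', hcz'⟩, p1, p2, e1, e2⟩ := h1
  have hsucc : ∀ t : Fin 4, t ≠ 0 → ∃ d : Fin 3, d.succ = t := by decide
  have htriv : ∀ s : Fin 4, s ≠ 0 → ∀ {u : V}, PM u ((pt (P j false) (P j true) s).1 v) →
      ∃ d : Fin 3, PM u (ev P v (j, d)) := by
    intro s hs u hu
    obtain ⟨d, hd⟩ := hsucc s hs
    refine ⟨d, ?_⟩
    unfold ev
    rw [hd]
    exact hu
  have r1 : PM (y'.1 v) ((pt (P j false) (P j true) t).1 v) := by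
    rw [e1, au_mul_apply]; exact p1.map _
  have r2 : PM (z'.1 v) ((pt (P j false) (P j true) t').1 v) := by
    rw [e2, au_mul_apply]; exact p2.map _
  obtain ⟨s, hs, hts⟩ := pt_mul (P j false) (P j true) (h.qp j).yy (h.qp j).zz (h.qp j).yz
    t t' ht ht' htt
  have r3 : PM ((y' * z').1 v) ((pt (P j false) (P j true) s).1 v) := by
    have e3 : (y' * z').1 v = (pt (P j false) (P j true) t).1
        ((pt (P j false) (P j true) t').1 (c.1 (c'.1 v))) := by
      rw [e1, e2, au_mul_apply, au_mul_apply, au_mul_apply]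
      congr 1
      rw [← au_mul_apply c, pt_comm hcy hcz t', au_mul_apply]
    rw [e3, ← au_mul_apply (pt (P j false) (P j true) t)]
    have p3 : PM (c.1 (c'.1 v)) v := (p2.map c).trans p1
    rcases hts with e4 | e4
    · rw [e4]; exact p3.map _
    · rw [e4, au_neg_apply]; exact (p3.map _).neg_left
  intro c
  fin_cases c
  · change ∃ d : Fin 3, PM (g.1 ((P i false).1 v)) (ev P v (j, d))
    rw [ey]; exact htriv t ht r1
  · change ∃ d : Fin 3, PM (g.1 ((P i true).1 v)) (ev P v (j, d))
    rw [ez]; exact htriv t' ht' r2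
  · change ∃ d : Fin 3, PM (g.1 ((P i false * P i true).1 v)) (ev P v (j, d))
    rw [eyz]; exact htriv s hs r3

/-- **The invariant transversal.** -/
theorem QF.transversal (hN : (Nat.card G).Coprime 3) : ∃ t : Fin k → Fin 4, (∀ i, t i ≠ 0) ∧
    ∀ g ∈ G, g.1 v = v → ∃ π : Fin k → Fin k, Function.Injective π ∧ ∀ i,
      PM (g.1 ((pt (P i false) (P i true) (t i)).1 v))
        ((pt (P (π i) false) (P (π i) true) (t (π i))).1 v) := by
  classical
  have hfe : Finite (AU V) := by
    have : Finite (AddMonoid.End V) := finite_end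
    infer_instance
  let H : Subgroup (AU V) :=
    { carrier := {g | g ∈ G ∧ g.1 v = v}
      one_mem' := ⟨G.one_mem, rfl⟩
      mul_mem' := fun {a b} ha hb => ⟨G.mul_mem ha.1 hb.1, by
        rw [au_mul_apply, hb.2, ha.2]⟩
      inv_mem' := fun {a} ha => ⟨G.inv_mem ha.1, inv_fix ha.2⟩ }
  have hH : (Nat.card H).Coprime 3 := by
    refine Nat.Coprime.coprime_dvd_left ?_ hN
    exact Subgroup.card_dvd_of_le (fun x hx => hx.1)
  have key : ∀ (g : H) (y : Fin k × Fin 3), ∃ y' : Fin k × Fin 3,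
      PM (g.1.1 (ev P v y)) (ev P v y') := by
    rintro g ⟨i, c⟩
    obtain ⟨j, hj⟩ := h.ev_map h3 hE2 hmax g.2.1 g.2.2 i
    obtain ⟨d, hd⟩ := hj c
    exact ⟨(j, d), hd⟩
  choose ρ hρ using key
  have huniq : ∀ (g : H) (y y' : Fin k × Fin 3), PM (g.1.1 (ev P v y)) (ev P v y') → ρ g y = y' :=
    fun g y y' e => h.ev_inj h3 hE2 ((hρ g y).symm.trans e)
  have hone : ∀ y, ρ 1 y = y := fun y => huniq 1 y y (PM.refl _)
  have hmul : ∀ (a b : H) y, ρ (a * b) y = ρ a (ρ b y) := fun a b y => by
    apply huniq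
    have e1 := (hρ b y).map a.1
    exact e1.trans (hρ a (ρ b y))
  have hblock : ∀ (g : H) (i : Fin k) (c d : Fin 3), (ρ g (i, c)).1 = (ρ g (i, d)).1 := by
    intro g i c d
    obtain ⟨j, hj⟩ := h.ev_map h3 hE2 hmax g.2.1 g.2.2 i
    obtain ⟨c', hc'⟩ := hj c
    obtain ⟨d', hd'⟩ := hj d
    rw [huniq g _ _ hc', huniq g _ _ hd']
  let _ : MulAction H (Fin k × Fin 3) :=
    { smul := ρ
      one_smul := hone
      mul_smul := hmul }
  let _ : MulAction H (Fin k) :=
    { smul := fun g i => (ρ g (i, 0)).1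
      one_smul := fun i => by
        change (ρ 1 (i, 0)).1 = i
        rw [hone]
      mul_smul := fun a b i => by
        change (ρ (a * b) (i, 0)).1 = (ρ a ((ρ b (i, 0)).1, 0)).1
        rw [hmul, ← hblock a (ρ b (i, 0)).1 (ρ b (i, 0)).2 0] }
  obtain ⟨s, hs1, hs2⟩ := equiv_section (H := H) (Y := Fin k × Fin 3) (Z := Fin k) Prod.fst
    (fun g y => by
      obtain ⟨i, c⟩ := y
      exact hblock g i c 0)
    (fun i => by
      have e : {y : Fin k × Fin 3 // y.1 = i} ≃ Fin 3 :=
        { toFun := fun y => y.1.2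
          invFun := fun c => ⟨(i, c), rfl⟩
          left_inv := by rintro ⟨⟨j, c⟩, rfl⟩; rfl
          right_inv := fun c => rfl }
      rw [Nat.card_congr e, Nat.card_fin]) hH
  have hsi : ∀ i, s i = (i, (s i).2) := fun i => Prod.ext (hs1 i) rfl
  refine ⟨fun i => (s i).2.succ, fun i => Fin.succ_ne_zero _, fun g hg hgv => ?_⟩
  refine ⟨fun i => ((⟨g, hg, hgv⟩ : H) • i : Fin k), ?_, fun i => ?_⟩
  · exact MulAction.injective (⟨g, hg, hgv⟩ : H)
  · have e1 := hρ (⟨g, hg, hgv⟩ : H) (s i)
    have e2 : ρ (⟨g, hg, hgv⟩ : H) (s i) = s ((⟨g, hg, hgv⟩ : H) • i) := (hs2 _ i).symm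
    rw [e2, hsi i, hsi ((⟨g, hg, hgv⟩ : H) • i)] at e1
    exact e1

end family

end Dat

end Cfsg.Agent.H578
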