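import Cfsg.Agent.H578.QF3

/-!
# The field with three elements: the base (helper578)
-/

set_option autoImplicit false
set_option linter.unusedSectionVars false

universe u

namespace Cfsg.Agent.H578

variable {V : Type u} [AddCommGroup V]

namespace Dat

variable {G : Subgroup (AU V)}

/-- the products over subsets -/
noncomputable def XP {k : ℕ} (x : Fin k → AU V) (hx : ∀ i j, Commute (x i) (x j))
    (S : Finset (Fin k)) : AU V := S.noncommProd x (fun i _ j _ _ => hx i j)

theorem XP_empty {k : ℕ} (x : Fin k → AU V) (hx : ∀ i j, Commute (x i) (x j)) :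
    XP x hx ∅ = 1 := Finset.noncommProd_empty _ _

theorem XP_insert {k : ℕ} (x : Fin k → AU V) (hx : ∀ i j, Commute (x i) (x j)) {i : Fin k}
    {S : Finset (Fin k)} (hi : i ∉ S) : XP x hx (insert i S) = x i * XP x hx S :=
  Finset.noncommProd_insert_of_notMem _ _ _ _ hi

section family

variable [Nontrivial V] [Finite V] {D : Dat G} {k : ℕ} {P : Fin k → Bool → AU V} {v : V}
  (h : D.QF P v) (h3 : ∀ x : V, x + x = -x) (hE2 : ∀ x ∈ D.E, (x ^ 2).1 ∈ D.K)
  {t : Fin k → Fin 4} (ht : ∀ i, t i ≠ 0)
include h h3 hE2 ht

omit h3 hE2 ht in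
theorem QF.xcomm (i j : Fin k) : Commute (pt (P i false) (P i true) (t i))
    (pt (P j false) (P j true) (t j)) := by
  by_cases hij : i = j
  · subst hij; exact Commute.refl _
  · apply pt_comm
    · exact (pt_comm (h.comm j i false false (Ne.symm hij)) (h.comm j i false true (Ne.symm hij))
        (t i)).symm
    · exact (pt_comm (h.comm j i true false (Ne.symm hij)) (h.comm j i true true (Ne.symm hij))
        (t i)).symm

theorem QF.bb (i : Fin k) : be (t i) * be (t i) = 1 := by
  have : ∀ s : Fin 4, s ≠ 0 → be s * be s = 1 := by decide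
  exact this _ (ht i)

theorem QF.XPE (S : Finset (Fin k)) :
    XP (fun i => pt (P i false) (P i true) (t i)) h.xcomm S ∈ D.E := by
  classical
  induction S using Finset.induction_on with
  | empty => rw [XP_empty]; exact D.E.one_mem
  | insert i S hi ih => rw [XP_insert _ _ hi]; exact D.E.mul_mem (pt_mem (h.qp i) _) ih

theorem QF.XPc (S : Finset (Fin k)) {u : AU V} (hu : ∀ i ∈ S, ∀ b, u * P i b = P i b * u) :
    u * XP (fun i => pt (P i false) (P i true) (t i)) h.xcomm S =
      XP (fun i => pt (P i false) (P i true) (t i)) h.xcomm S * u := by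
  classical
  induction S using Finset.induction_on with
  | empty => rw [XP_empty, mul_one, one_mul]
  | insert i S hi ih =>
    rw [XP_insert _ _ hi, ← mul_assoc, pt_comm (hu i (Finset.mem_insert_self i S) false)
      (hu i (Finset.mem_insert_self i S) true), mul_assoc,
      ih (fun j hj => hu j (Finset.mem_insert_of_mem hj)), mul_assoc]

/-- the vectors attached to subsets -/
noncomputable def QF.X (h : D.QF P v) (t : Fin k → Fin 4) (S : Finset (Fin k)) : V :=
  (XP (fun i => pt (P i false) (P i true) (t i)) h.xcomm S).1 v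

theorem QF.X_ne (S : Finset (Fin k)) : h.X t S ≠ 0 := fun h0 =>
  h.hv (au_injective (XP (fun i => pt (P i false) (P i true) (t i)) h.xcomm S) (by
    rw [map_zero]; exact h0))

theorem QF.X_insert {i : Fin k} {S : Finset (Fin k)} (hi : i ∉ S) :
    h.X t (insert i S) = (pt (P i false) (P i true) (t i)).1 (h.X t S) := by
  unfold QF.X
  rw [XP_insert _ _ hi, au_mul_apply]

theorem QF.X_empty : h.X t ∅ = v := by
  unfold QF.X
  rw [XP_empty]; rfl

theorem QF.X_fx {i : Fin k} {S : Finset (Fin k)} (hi : i ∉ S) :
    (P i false).1 (h.X t S) + (P i true).1 (h.X t S) = h.X t S := by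
  unfold QF.X
  apply (h.qp i).fx_comm (h.tv i)
  · refine (h.XPc h3 hE2 ht S (u := P i false) fun j hj b => ?_).symm
    exact h.comm i j false b (fun hij => hi (hij ▸ hj))
  · refine (h.XPc h3 hE2 ht S (u := P i true) fun j hj b => ?_).symm
    exact h.comm i j true b (fun hij => hi (hij ▸ hj))

/-- linear independence -/
theorem QF.LI (U : Finset (Fin k)) : ∀ c : Finset (Fin k) → ℤ,
    ∑ S ∈ U.powerset, c S • h.X t S = 0 → ∀ S ∈ U.powerset, c S • h.X t S = 0 := by
  classical
  induction U using Finset.induction_on with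
  | empty =>
    intro c hc S hS
    rw [Finset.powerset_empty] at hc hS
    rw [Finset.mem_singleton] at hS
    subst hS
    rw [Finset.sum_singleton] at hc
    exact hc
  | insert i U hi ih =>
    intro c hc
    rw [Finset.sum_powerset_insert hi] at hc
    have hiS : ∀ S ∈ U.powerset, i ∉ S := fun S hS h => hi (Finset.mem_powerset.mp hS h)
    have e1 : ∑ S ∈ U.powerset, c (insert i S) • h.X t (insert i S) =
        (pt (P i false) (P i true) (t i)).1 (∑ S ∈ U.powerset, c (insert i S) • h.X t S) := by
      rw [map_sum]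
      refine Finset.sum_congr rfl fun S hS => ?_
      rw [h.X_insert h3 hE2 ht (hiS S hS), map_zsmul]
    rw [e1] at hc
    have fz : ∀ (n : ℤ) {u : V}, (P i false).1 u + (P i true).1 u = u →
        (P i false).1 (n • u) + (P i true).1 (n • u) = n • u := by
      intro n u hu
      rw [map_zsmul, map_zsmul, ← zsmul_add, hu]
    have fa : ∀ {u w : V}, (P i false).1 u + (P i true).1 u = u →
        (P i false).1 w + (P i true).1 w = w →
        (P i false).1 (u + w) + (P i true).1 (u + w) = u + w := by
      intro u w hu hw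
      calc (P i false).1 (u + w) + (P i true).1 (u + w) =
          ((P i false).1 u + (P i true).1 u) + ((P i false).1 w + (P i true).1 w) := by
            rw [map_add, map_add]; abel
        _ = u + w := by rw [hu, hw]
    have fs : ∀ d : Finset (Fin k) → ℤ,
        (P i false).1 (∑ S ∈ U.powerset, d S • h.X t S) +
          (P i true).1 (∑ S ∈ U.powerset, d S • h.X t S) = ∑ S ∈ U.powerset, d S • h.X t S := by
      intro d
      rw [map_sum, map_sum, ← Finset.sum_add_distrib]
      exact Finset.sum_congr rfl fun S hS => fz _ (h.X_fx h3 hE2 ht (hiS S hS))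
    have fB := fs (fun S => c (insert i S))
    have fA := fs c
    rw [(h.qp i).pt_apply fB (t i), ← add_assoc] at hc
    obtain ⟨eA, eB⟩ := (h.qp i).ind h3 (fa fA (fz _ fB)) (fz _ fB) hc
    have eB' : ∑ S ∈ U.powerset, c (insert i S) • h.X t S = 0 := by
      have := congrArg (fun u => be (t i) • u) eB
      simp only [zsmul_zero] at this
      rw [← mul_zsmul, h.bb h3 hE2 ht i, one_zsmul] at this
      exact this
    rw [eB', zsmul_zero, add_zero] at eA
    have r1 := ih c eA
    have r2 := ih (fun S => c (insert i S)) eB'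
    intro S hS
    rw [Finset.powerset_insert, Finset.mem_union] at hS
    rcases hS with hS | hS
    · exact r1 S hS
    · obtain ⟨S', hS', rfl⟩ := Finset.mem_image.mp hS
      have := r2 S' hS'
      rw [h.X_insert h3 hE2 ht (hiS S' hS'), ← map_zsmul, this, map_zero]

/-- images of the vectors -/
theorem QF.X_map {g : AU V} (hg : g ∈ G) (hgv : g.1 v = v) {π : Fin k → Fin k}
    (hπ : Function.Injective π) (hπx : ∀ i, PM (g.1 ((pt (P i false) (P i true) (t i)).1 v))
        ((pt (P (π i) false) (P (π i) true) (t (π i))).1 v)) (S : Finset (Fin k)) :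
    PM (g.1 (h.X t S)) (h.X t (S.image π)) := by
  classical
  induction S using Finset.induction_on with
  | empty =>
    rw [Finset.image_empty, h.X_empty h3 hE2 ht, hgv]
    exact PM.refl _
  | insert i S hi ih =>
    have hi' : π i ∉ S.image π := by
      rw [Finset.mem_image]
      rintro ⟨j, hj, hij⟩
      exact hi (hπ hij ▸ hj)
    rw [Finset.image_insert, h.X_insert h3 hE2 ht hi, h.X_insert h3 hE2 ht hi']
    obtain ⟨xi, hxi⟩ : ∃ xi, xi = pt (P i false) (P i true) (t i) := ⟨_, rfl⟩
    obtain ⟨xp, hxp⟩ : ∃ xp, xp = pt (P (π i) false) (P (π i) true) (t (π i)) := ⟨_, rfl⟩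
    have e0 := hπx i
    rw [← hxi, ← hxp] at e0 ⊢
    have hxpE : xp ∈ D.E := by rw [hxp]; exact pt_mem (h.qp _) _
    have hxiE : xi ∈ D.E := by rw [hxi]; exact pt_mem (h.qp _) _
    obtain ⟨c, hc⟩ : ∃ c, c = xp⁻¹ * (g * xi * g⁻¹) := ⟨_, rfl⟩
    have hcE : c ∈ D.E := by rw [hc]; exact D.E.mul_mem (D.E.inv_mem hxpE) (D.GE g hg _ hxiE)
    have e1 : ∀ u, g.1 (xi.1 u) = xp.1 (c.1 (g.1 u)) := by
      intro u
      rw [hc, ← au_mul_apply xp, ← au_mul_apply _ g, ← au_mul_apply g]
      congr 2; group
    have hcv : PM (c.1 v) v := by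
      have e2 := e1 v
      rw [hgv] at e2
      rw [e2] at e0
      have := e0.map xp⁻¹
      rwa [au_inv_apply, au_inv_apply] at this
    have hcX : PM (c.1 (h.X t (S.image π))) (h.X t (S.image π)) := by
      unfold QF.X
      have hXE := h.XPE h3 hE2 ht (S.image π)
      rcases mul_pm hE2 hcE hXE with e2 | e2
      · rw [← au_mul_apply, e2, au_mul_apply]; exact hcv.map _
      · rw [← au_mul_apply, e2, au_neg_apply, au_mul_apply]; exact (hcv.map _).neg_left
    rw [e1]
    exact ((ih.map c).trans hcX).map xp

/-- the chain is rigid -/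
theorem QF.chain {g : AU V} (hg : g ∈ G) (hgv : g.1 v = v) {π : Fin k → Fin k}
    (hπ : Function.Injective π) (hπx : ∀ i, PM (g.1 ((pt (P i false) (P i true) (t i)).1 v))
        ((pt (P (π i) false) (P (π i) true) (t (π i))).1 v))
    (hgw : g.1 (∑ j : Fin k, h.X t (Finset.Iic j)) = ∑ j : Fin k, h.X t (Finset.Iic j)) :
    (∀ i, π i = i) ∧ ∀ j, g.1 (h.X t (Finset.Iic j)) = h.X t (Finset.Iic j) := by
  classical
  have hs : ∀ j : Fin k, ∃ s : ℤ, (s = 1 ∨ s = -1) ∧
      g.1 (h.X t (Finset.Iic j)) = s • h.X t ((Finset.Iic j).image π) := by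
    intro j
    rcases h.X_map h3 hE2 ht hg hgv hπ hπx (Finset.Iic j) with e | e
    · exact ⟨1, Or.inl rfl, by rw [one_zsmul]; exact e⟩
    · exact ⟨-1, Or.inr rfl, by rw [neg_one_zsmul]; exact e⟩
  choose s hs1 hs2 using hs
  let c : Finset (Fin k) → ℤ := fun S =>
    (∑ j : Fin k, if S = (Finset.Iic j).image π then s j else 0) -
      ∑ j : Fin k, if S = Finset.Iic j then 1 else 0
  have hsum : ∑ S ∈ (Finset.univ : Finset (Fin k)).powerset, c S • h.X t S = 0 := by
    have e1 : ∀ S, c S • h.X t S =
        (∑ j : Fin k, if S = (Finset.Iic j).image π then s j • h.X t S else 0) -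
          ∑ j : Fin k, if S = Finset.Iic j then h.X t S else 0 := by
      intro S
      change ((∑ j : Fin k, if S = (Finset.Iic j).image π then s j else 0) -
        ∑ j : Fin k, if S = Finset.Iic j then (1 : ℤ) else 0) • h.X t S = _
      rw [sub_zsmul, ← sub_eq_add_neg, Finset.sum_smul, Finset.sum_smul]
      congr 1
      · refine Finset.sum_congr rfl fun j _ => ?_
        split_ifs
        · rfl
        · exact zero_zsmul _
      · refine Finset.sum_congr rfl fun j _ => ?_
        split_ifs
        · exact one_zsmul _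
        · exact zero_zsmul _
    have e2 : ∑ S : Finset (Fin k), (∑ j : Fin k,
        if S = (Finset.Iic j).image π then s j • h.X t S else 0) =
        ∑ j : Fin k, s j • h.X t ((Finset.Iic j).image π) := by
      rw [Finset.sum_comm]
      refine Finset.sum_congr rfl fun j _ => ?_
      rw [Finset.sum_ite_eq', if_pos (Finset.mem_univ _)]
    have e3 : ∑ S : Finset (Fin k), (∑ j : Fin k,
        if S = Finset.Iic j then h.X t S else 0) = ∑ j : Fin k, h.X t (Finset.Iic j) := by
      rw [Finset.sum_comm]
      refine Finset.sum_congr rfl fun j _ => ?_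
      rw [Finset.sum_ite_eq', if_pos (Finset.mem_univ _)]
    rw [Finset.powerset_univ, Finset.sum_congr rfl (fun S _ => e1 S), Finset.sum_sub_distrib,
      e2, e3, ← hgw, map_sum, Finset.sum_congr rfl (fun j _ => hs2 j), sub_self]
  have hLI := h.LI h3 hE2 ht Finset.univ c hsum
  have hcard : ∀ j : Fin k, ((Finset.Iic j).image π).card = j.val + 1 := by
    intro j
    rw [Finset.card_image_of_injective _ hπ, Fin.card_Iic]
  have hcard' : ∀ j : Fin k, (Finset.Iic j).card = j.val + 1 := fun j => Fin.card_Iic j
  have key : ∀ m : Fin k, Finset.Iic m = (Finset.Iic m).image π ∧ s m = 1 := by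
    intro m
    have e1 := hLI (Finset.Iic m) (by rw [Finset.powerset_univ]; exact Finset.mem_univ _)
    have e2 := dvd_of_zsmul h3 (h.X_ne h3 hE2 ht (Finset.Iic m)) e1
    have e3 : c (Finset.Iic m) = (if Finset.Iic m = (Finset.Iic m).image π then s m else 0) - 1 := by
      change (∑ j : Fin k, if Finset.Iic m = (Finset.Iic j).image π then s j else 0) -
        (∑ j : Fin k, if Finset.Iic m = Finset.Iic j then (1 : ℤ) else 0) = _
      congr 1
      · rw [Finset.sum_eq_single m]
        · intro j _ hj
          rw [if_neg]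
          intro e
          have := congrArg Finset.card e
          rw [hcard, hcard'] at this
          exact hj (Fin.ext (by omega))
        · intro hm; exact absurd (Finset.mem_univ m) hm
      · rw [Finset.sum_eq_single m]
        · rw [if_pos rfl]
        · intro j _ hj
          rw [if_neg]
          intro e
          have := congrArg Finset.card e
          rw [hcard', hcard'] at this
          exact hj (Fin.ext (by omega))
        · intro hm; exact absurd (Finset.mem_univ m) hm
    rw [e3] at e2
    by_cases he : Finset.Iic m = (Finset.Iic m).image π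
    · refine ⟨he, ?_⟩
      rw [if_pos he] at e2
      rcases hs1 m with h1 | h1
      · exact h1
      · rw [h1] at e2; omega
    · rw [if_neg he] at e2; omega
  have hle : ∀ i, π i ≤ i := by
    intro i
    have h1 : π i ∈ (Finset.Iic i).image π := Finset.mem_image_of_mem π (Finset.mem_Iic.mpr le_rfl)
    rw [← (key i).1] at h1
    exact Finset.mem_Iic.mp h1
  refine ⟨?_, fun j => ?_⟩
  · have : ∀ n : ℕ, ∀ i : Fin k, i.val = n → π i = i := by
      intro n
      induction n using Nat.strong_induction_on with
      | _ n ih =>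
        intro i hi
        rcases lt_or_eq_of_le (hle i) with h1 | h1
        · have h2 := ih (π i).val (by rw [← hi]; exact h1) (π i) rfl
          exact absurd (hπ h2) (ne_of_lt h1)
        · exact h1
    exact fun i => this i.val i rfl
  · rw [hs2, (key j).2, one_zsmul, ← (key j).1]

/-- the stabiliser of `v` centralises the planes -/
theorem QF.stab_cen {e : AU V} (he : e ∈ D.E) (hev : e.1 v = v) : Cen P e := by
  have key : ∀ i, e * P i false = P i false * e ∧ e * P i true = P i true * e := by
    intro i
    obtain ⟨s, c, hc, hcy, hcz, rfl⟩ := (h.qp i).cls hE2 he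
    have hC := (h.qp i).fx_comm (h.tv i) hcy hcz
    have hCn : c.1 v ≠ 0 := fun h0 => h.hv (au_injective c (by rw [h0, map_zero]))
    rw [au_mul_apply, (h.qp i).pt_apply hC] at hev
    have fz : ∀ (n : ℤ) {u : V}, (P i false).1 u + (P i true).1 u = u →
        (P i false).1 (n • u) + (P i true).1 (n • u) = n • u := by
      intro n u hu
      rw [map_zsmul, map_zsmul, ← zsmul_add, hu]
    have fa : ∀ {u w : V}, (P i false).1 u + (P i true).1 u = u →
        (P i false).1 w + (P i true).1 w = w →
        (P i false).1 (u + w) + (P i true).1 (u + w) = u + w := by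
      intro u w hu hw
      calc (P i false).1 (u + w) + (P i true).1 (u + w) =
          ((P i false).1 u + (P i true).1 u) + ((P i false).1 w + (P i true).1 w) := by
            rw [map_add, map_add]; abel
        _ = u + w := by rw [hu, hw]
    obtain ⟨-, eB⟩ := (h.qp i).ind h3 (A := al s • c.1 v + (-1 : ℤ) • v) (B := be s • c.1 v)
      (fa (fz _ hC) (fz _ (h.tv i))) (fz _ hC) (by
        rw [neg_one_zsmul]
        have : al s • c.1 v + -v + (P i false).1 (be s • c.1 v) =
          (al s • c.1 v + (P i false).1 (be s • c.1 v)) - v := by abel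
        rw [this, hev, sub_self])
    have hb : ∀ s : Fin 4, s = 0 ∨ be s * be s = 1 := by decide
    rcases hb s with rfl | hb
    · have : pt (P i false) (P i true) 0 * c = c := one_mul c
      rw [this]
      exact ⟨hcy, hcz⟩
    · exfalso
      have := congrArg (fun u => be s • u) eB
      simp only [zsmul_zero] at this
      rw [← mul_zsmul, hb, one_zsmul] at this
      exact hCn this
  intro i b
  cases b
  · exact (key i).1
  · exact (key i).2

/-- conclusion for the planes -/
theorem QF.fix_planes {g : AU V} (hg : g ∈ G) (hgv : g.1 v = v) {π : Fin k → Fin k}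
    (hπ : Function.Injective π) (hπx : ∀ i, PM (g.1 ((pt (P i false) (P i true) (t i)).1 v))
        ((pt (P (π i) false) (P (π i) true) (t (π i))).1 v))
    (hgw : g.1 (∑ j : Fin k, h.X t (Finset.Iic j)) = ∑ j : Fin k, h.X t (Finset.Iic j)) :
    ∀ i b, g.1 ((P i b).1 v) = (P i b).1 v := by
  classical
  obtain ⟨hid, hX⟩ := h.chain h3 hE2 ht hg hgv hπ hπx hgw
  have hX' : ∀ j, g.1 (h.X t (Finset.Iio j)) = h.X t (Finset.Iio j) := by
    intro j
    by_cases hj : j.val = 0
    · have : Finset.Iio j = ∅ := by
        ext i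
        simp only [Finset.mem_Iio, Finset.notMem_empty, iff_false, not_lt]
        exact Fin.le_def.mpr (by omega)
      rw [this, h.X_empty h3 hE2 ht, hgv]
    · have : Finset.Iio j = Finset.Iic ⟨j.val - 1, by omega⟩ := by
        ext i
        simp only [Finset.mem_Iio, Finset.mem_Iic, Fin.lt_def, Fin.le_def]
        omega
      rw [this, hX]
  have hfix : ∀ i, g.1 ((pt (P i false) (P i true) (t i)).1 v) =
      (pt (P i false) (P i true) (t i)).1 v := by
    intro i
    have e0 := hπx i
    rw [hid] at e0
    obtain ⟨xi, hxi⟩ : ∃ xi, xi = pt (P i false) (P i true) (t i) := ⟨_, rfl⟩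
    rw [← hxi] at e0 ⊢
    have hxiE : xi ∈ D.E := by rw [hxi]; exact pt_mem (h.qp _) _
    obtain ⟨c, hc⟩ : ∃ c, c = xi⁻¹ * (g * xi * g⁻¹) := ⟨_, rfl⟩
    have hcE : c ∈ D.E := by rw [hc]; exact D.E.mul_mem (D.E.inv_mem hxiE) (D.GE g hg _ hxiE)
    have e1 : ∀ u, g.1 (xi.1 u) = xi.1 (c.1 (g.1 u)) := by
      intro u
      rw [hc, ← au_mul_apply xi, ← au_mul_apply _ g, ← au_mul_apply g]
      congr 2; group
    rcases e0 with e0 | e0
    · exact e0
    · exfalso
      have hcv : c.1 v = -v := by
        rw [e1, hgv, ← map_neg] at e0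
        exact au_injective xi e0
      have hnc : Cen P (-c) := h.stab_cen h3 hE2 ht
        (by rw [← neg_one_mul]; exact D.E.mul_mem D.neg_one_mem hcE)
        (by rw [au_neg_apply, hcv, neg_neg])
      have hcc : ∀ j b, c * P j b = P j b * c := by
        intro j b
        have := hnc j b
        rw [neg_mul, mul_neg] at this
        exact neg_injective this
      have hins : Finset.Iic i = insert i (Finset.Iio i) := by
        ext j
        simp only [Finset.mem_Iic, Finset.mem_insert, Finset.mem_Iio]
        exact le_iff_eq_or_lt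
      have e2 := hX i
      rw [hins, h.X_insert h3 hE2 ht (by simp), ← hxi, e1, hX'] at e2
      have e3 := au_injective xi e2
      have e4 : c.1 (h.X t (Finset.Iio i)) = -(h.X t (Finset.Iio i)) := by
        unfold QF.X
        rw [← au_mul_apply, h.XPc h3 hE2 ht _ (fun j _ b => hcc j b), au_mul_apply, hcv, map_neg]
      rw [e4] at e3
      exact h.X_ne h3 hE2 ht _ ((h.qp i).neg_self h3 e3.symm)
  intro i b
  have hpa := (h.qp i).pt_apply (h.tv i) (t i)
  have e1 := hfix i
  rw [hpa, map_add, map_zsmul g.1, hgv, map_zsmul (P i false).1, map_zsmul g.1] at e1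
  have e2 := add_left_cancel e1
  have e3 : g.1 ((P i false).1 v) = (P i false).1 v := by
    have := congrArg (fun u => be (t i) • u) e2
    rw [← mul_zsmul, ← mul_zsmul, h.bb h3 hE2 ht i, one_zsmul, one_zsmul] at this
    exact this
  cases b
  · exact e3
  · have e4 : (P i true).1 v = v - (P i false).1 v := by
      rw [eq_sub_iff_add_eq, add_comm]; exact h.tv i
    rw [e4, map_sub, hgv, e3]

end family

end Dat

end Cfsg.Agent.H578
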