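import Cfsg.Agent.H578.QF4

/-!
# The field with three elements: the result (helper578)
-/

set_option autoImplicit false
set_option linter.unusedSectionVars false

universe u

namespace Cfsg.Agent.H578

variable {V : Type u} [AddCommGroup V]

namespace Dat

variable {G : Subgroup (AU V)}

section family

variable [Nontrivial V] [Finite V] {D : Dat G} {k : ℕ} {P : Fin k → Bool → AU V} {v : V}
  (h : D.QF P v) (h3 : ∀ x : V, x + x = -x) (hE2 : ∀ x ∈ D.E, (x ^ 2).1 ∈ D.K)
include h h3 hE2

/-- centralising everything -/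
theorem QF.finish {g : AU V} (hg : g ∈ G) (hgv : g.1 v = v) (hgP : Cen P g)
    (hq : ∀ q ∈ D.E, Cen P q → g * q = q * g) : g = 1 := by
  have h1 : g.1 ∈ D.K := by
    apply D.cent g hg
    intro x hx
    obtain ⟨p, hp, hp1, hp2⟩ := h.adj h3 hE2 x hx
    have e1 := hp1 g hgP
    have e2 := hq _ (D.E.mul_mem (D.E.inv_mem hp) hx) hp2
    calc g * x = (g * p) * (p⁻¹ * x) := by group
      _ = p * (g * (p⁻¹ * x)) := by rw [e1, mul_assoc]
      _ = p * (p⁻¹ * x * g) := by rw [e2]
      _ = x * g := by group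
  exact eq_one_of_fix h.hv h1 hgv

theorem QF.baseA (hN : (Nat.card G).Coprime 3) (hK : ∀ c : AU V, c.1 ∈ D.K → c = 1 ∨ c = -1)
    (hmax : ∀ y z, D.QP y z → Cen P y → Cen P z → False)
    (hA : ∀ x ∈ D.E, Cen P x → x.1 ∈ D.K) : HasBase (Fin 2) G := by
  obtain ⟨t, ht, htr⟩ := h.transversal h3 hE2 hmax hN
  refine ⟨![v, ∑ j : Fin k, h.X t (Finset.Iic j)], fun g hg hgg => ?_⟩
  have hgv : g.1 v = v := hgg 0
  have hgw : g.1 (∑ j : Fin k, h.X t (Finset.Iic j)) = ∑ j : Fin k, h.X t (Finset.Iic j) := hgg 1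
  obtain ⟨π, hπ, hπx⟩ := htr g hg hgv
  have hfix := h.fix_planes h3 hE2 ht hg hgv hπ hπx hgw
  apply h.finish h3 hE2 hg hgv
  · intro i b
    have hPE : P i b ∈ D.E := by
      cases b
      · exact (h.qp i).yE
      · exact (h.qp i).zE
    obtain ⟨e, he⟩ : ∃ e, e = (P i b)⁻¹ * (g * P i b * g⁻¹) := ⟨_, rfl⟩
    have heE : e ∈ D.E := by rw [he]; exact D.E.mul_mem (D.E.inv_mem hPE) (D.GE g hg _ hPE)
    have hev : e.1 v = v := by
      rw [he]
      have e1 : ((P i b)⁻¹ * (g * P i b * g⁻¹)).1 v = (P i b)⁻¹.1 (g.1 ((P i b).1 v)) := by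
        rw [au_mul_apply, au_mul_apply, au_mul_apply, inv_fix hgv]
      rw [e1, hfix, au_inv_apply]
    have h1 := eq_one_of_fix h.hv (hA e heE (h.stab_cen h3 hE2 ht heE hev)) hev
    rw [h1] at he
    have h2 : g * P i b * g⁻¹ = P i b := (inv_mul_eq_one.mp he.symm).symm
    exact mul_inv_eq_iff_eq_mul.mp h2
  · intro q hqE hqc
    rcases hK q (hA q hqE hqc) with rfl | rfl
    · rw [mul_one, one_mul]
    · rw [mul_neg_one, neg_one_mul]

theorem QF.baseB (hN : (Nat.card G).Coprime 3) (hK : ∀ c : AU V, c.1 ∈ D.K → c = 1 ∨ c = -1)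
    (hmax : ∀ y z, D.QP y z → Cen P y → Cen P z → False) {a f : AU V} (ha : a ∈ D.E)
    (hf : f ∈ D.E) (hac : Cen P a) (hfc : Cen P f) (haa : a * a = 1) (hff : f * f = 1)
    (haf : a * f = -(f * a))
    (hB : ∀ x ∈ D.E, Cen P x → x * a = a * x → x * f = f * x → x.1 ∈ D.K)
    (hav : a.1 v = v) (two : (1 : AU V) ≠ -1) : HasBase (Fin 2) G := by
  obtain ⟨t, ht, htr⟩ := h.transversal h3 hE2 hmax hN
  have hfa : f * a = -(a * f) := by rw [haf, neg_neg]
  have hafv : a.1 (f.1 v) = -(f.1 v) := by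
    rw [← au_mul_apply, haf, au_neg_apply, au_mul_apply, hav]
  have cmul : ∀ {x y : AU V}, Cen P x → Cen P y → Cen P (x * y) := by
    intro x y hx hy i b
    rw [mul_assoc, hy i b, ← mul_assoc, hx i b, mul_assoc]
  -- the stabiliser of `v` in `E`
  have hstab : ∀ e ∈ D.E, e.1 v = v → e = 1 ∨ e = a := by
    intro e he hev
    have hec := h.stab_cen h3 hE2 ht he hev
    have hea : e * a = a * e := by
      rcases mul_pm hE2 he ha with h1 | h1
      · exact h1
      · exfalso
        have h2 : (e * a).1 v = v := by rw [au_mul_apply, hav, hev]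
        rw [h1, au_neg_apply, au_mul_apply, hev, hav] at h2
        exact h.hv (D.two_tors two h2.symm)
    rcases mul_pm hE2 he hf with h1 | h1
    · left; exact eq_one_of_fix h.hv (hB e he hec hea h1) hev
    · right
      have h2 : (a * e).1 ∈ D.K := by
        apply hB _ (D.E.mul_mem ha he) (cmul hac hec)
        · rw [mul_assoc, hea]
        · rw [mul_assoc, h1, mul_neg, ← mul_assoc, haf, neg_mul, neg_neg, mul_assoc]
      have h3' := eq_one_of_fix h.hv h2 (by rw [au_mul_apply, hev, hav])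
      calc e = (a * a) * e := by rw [haa, one_mul]
        _ = a * (a * e) := mul_assoc _ _ _
        _ = a := by rw [h3', mul_one]
  have hX : ∀ S, a.1 (h.X t S) = h.X t S := by
    intro S
    unfold QF.X
    rw [← au_mul_apply, h.XPc h3 hE2 ht S (fun i _ b => hac i b), au_mul_apply, hav]
  refine ⟨![v, ∑ j : Fin k, h.X t (Finset.Iic j) + f.1 v], fun g hg hgg => ?_⟩
  have hgv : g.1 v = v := hgg 0
  have hgw₀ : g.1 (∑ j : Fin k, h.X t (Finset.Iic j) + f.1 v) =
    ∑ j : Fin k, h.X t (Finset.Iic j) + f.1 v := hgg 1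
  have hga : g * a * g⁻¹ = a := by
    have h1 : (g * a * g⁻¹).1 v = v := conj_fix hgv hav
    rcases hstab _ (D.GE g hg a ha) h1 with h2 | h2
    · exfalso
      have h3' : a = 1 := by
        have : a = g⁻¹ * (g * a * g⁻¹) * g := by group
        rw [this, h2]; group
      rw [h3', one_mul, mul_one] at haf
      have h4 : f * 1 = f * (-1) := by rw [mul_one, mul_neg_one]; exact haf
      exact two (mul_left_cancel h4)
    · exact h2
  have hga' : a * g = g * a := (mul_inv_eq_iff_eq_mul.mp hga).symm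
  have hsum : a.1 (∑ j : Fin k, h.X t (Finset.Iic j)) = ∑ j : Fin k, h.X t (Finset.Iic j) := by
    rw [map_sum]; exact Finset.sum_congr rfl fun j _ => hX _
  rw [map_add] at hgw₀
  obtain ⟨hgw, hgf⟩ := comp2' D two (z := a) (by rw [← au_mul_apply, hga', au_mul_apply, hsum])
    (by rw [← au_mul_apply, hga', au_mul_apply, hafv, map_neg]) hsum hafv hgw₀
  obtain ⟨π, hπ, hπx⟩ := htr g hg hgv
  have hfix := h.fix_planes h3 hE2 ht hg hgv hπ hπx hgw
  have hcls : ∀ x ∈ D.E, g.1 (x.1 v) = x.1 v → g * x * g⁻¹ = x ∨ g * x * g⁻¹ = x * a := by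
    intro x hx hgx
    obtain ⟨e, he⟩ : ∃ e, e = x⁻¹ * (g * x * g⁻¹) := ⟨_, rfl⟩
    have heE : e ∈ D.E := by rw [he]; exact D.E.mul_mem (D.E.inv_mem hx) (D.GE g hg _ hx)
    have hev : e.1 v = v := by
      rw [he]
      have e1 : (x⁻¹ * (g * x * g⁻¹)).1 v = x⁻¹.1 (g.1 (x.1 v)) := by
        rw [au_mul_apply, au_mul_apply, au_mul_apply, inv_fix hgv]
      rw [e1, hgx, au_inv_apply]
    have e2 : g * x * g⁻¹ = x * e := by rw [he]; group
    rcases hstab e heE hev with h1 | h1
    · left; rw [e2, h1, mul_one]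
    · right; rw [e2, h1]
  have hnaf : a * f ≠ f * a := by
    intro e
    rw [e] at haf
    have h4 : (f * a) * 1 = (f * a) * (-1) := by rw [mul_one, mul_neg_one]; exact haf
    exact two (mul_left_cancel h4)
  have hgf' : g * f * g⁻¹ = f := by
    rcases hcls f hf hgf with h1 | h1
    · exact h1
    · exfalso
      have h2 : (g * f * g⁻¹) * (g * f * g⁻¹) = 1 := by
        calc (g * f * g⁻¹) * (g * f * g⁻¹) = g * (f * f) * g⁻¹ := by group
          _ = 1 := by rw [hff]; group
      rw [h1] at h2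
      have h3' : f * a * (f * a) = -1 := by
        calc f * a * (f * a) = f * (a * f) * a := by simp only [mul_assoc]
          _ = -((f * f) * (a * a)) := by rw [haf, mul_neg, neg_mul]; simp only [mul_assoc]
          _ = -1 := by rw [hff, haa, one_mul]
      rw [h3'] at h2
      exact two h2.symm
  apply h.finish h3 hE2 hg hgv
  · intro i b
    have hPE : P i b ∈ D.E := by
      cases b
      · exact (h.qp i).yE
      · exact (h.qp i).zE
    rcases hcls _ hPE (hfix i b) with h1 | h1
    · exact mul_inv_eq_iff_eq_mul.mp h1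
    · exfalso
      have h2 : (g * P i b * g⁻¹) * (g * f * g⁻¹) = (g * f * g⁻¹) * (g * P i b * g⁻¹) := by
        calc (g * P i b * g⁻¹) * (g * f * g⁻¹) = g * (P i b * f) * g⁻¹ := by group
          _ = g * (f * P i b) * g⁻¹ := by rw [hfc i b]
          _ = _ := by group
      rw [h1, hgf'] at h2
      apply hnaf
      apply mul_left_cancel (a := P i b)
      rw [← mul_assoc, h2, ← mul_assoc, hfc i b, mul_assoc]
  · intro q hqE hqc
    have hg_a : g * a = a * g := hga'.symm
    have hg_f : g * f = f * g := mul_inv_eq_iff_eq_mul.mp hgf'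
    -- adjust `q`
    have key : ∀ r ∈ D.E, Cen P r → r * a = a * r → r * f = f * r → g * r = r * g := by
      intro r hr hrc h1 h2
      rcases hK r (hB r hr hrc h1 h2) with rfl | rfl
      · rw [mul_one, one_mul]
      · rw [mul_neg_one, neg_one_mul]
    have canc : ∀ x r : AU V, g * x = x * g → g * (x * r) = (x * r) * g → g * r = r * g := by
      intro x r h1 h2
      apply mul_left_cancel (a := x)
      rw [← mul_assoc, ← h1, mul_assoc, h2, mul_assoc]
    rcases mul_pm hE2 hqE ha with h1 | h1 <;> rcases mul_pm hE2 hqE hf with h2 | h2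
    · exact key q hqE hqc h1 h2
    · apply canc a q hg_a
      apply key _ (D.E.mul_mem ha hqE) (cmul hac hqc)
      · rw [mul_assoc, h1]
      · rw [mul_assoc, h2, mul_neg, ← mul_assoc, haf, neg_mul, neg_neg, mul_assoc]
    · apply canc f q hg_f
      apply key _ (D.E.mul_mem hf hqE) (cmul hfc hqc)
      · rw [mul_assoc, h1, mul_neg, ← mul_assoc, hfa, neg_mul, neg_neg, mul_assoc]
      · rw [mul_assoc, h2]
    · apply canc a q hg_a
      apply canc f (a * q) hg_f
      apply key _ (D.E.mul_mem hf (D.E.mul_mem ha hqE)) (cmul hfc (cmul hac hqc))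
      · calc f * (a * q) * a = f * (a * (q * a)) := by simp only [mul_assoc]
          _ = -((f * a) * (a * q)) := by rw [h1]; simp only [mul_neg, mul_assoc]
          _ = a * (f * (a * q)) := by rw [hfa, neg_mul, neg_neg]; simp only [mul_assoc]
      · calc f * (a * q) * f = f * (a * (q * f)) := by simp only [mul_assoc]
          _ = -(f * ((a * f) * q)) := by rw [h2]; simp only [mul_neg, mul_assoc]
          _ = f * (f * (a * q)) := by
            rw [haf]; simp only [neg_mul, mul_neg, neg_neg, mul_assoc]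

end family

variable {D : Dat G} [Nontrivial V] [Finite V]

/-- **The field with three elements.** -/
theorem prim2_three (hN : (Nat.card G).Coprime 3) (h3 : ∀ x : V, x + x = -x)
    (hK : ∀ c : AU V, c.1 ∈ D.K → c = 1 ∨ c = -1)
    (hE2 : ∀ x ∈ D.E, (x ^ 2).1 ∈ D.K) : HasBase (Fin 2) G := by
  have two : (1 : AU V) ≠ -1 := by
    intro h
    obtain ⟨v, hv⟩ := exists_ne (0 : V)
    have h1 : v = -v := congrArg (fun g : AU V => g.1 v) h
    have h2 := h3 v
    nth_rewrite 2 [h1] at h2
    rw [add_neg_cancel] at h2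
    exact hv (neg_eq_zero.mp h2.symm)
  obtain ⟨k, P, v, h, hmax⟩ := D.exists_QF h3 two
  rcases h.resid h3 hE2 hK hmax with hA | ⟨a, ha, f, hf, hac, hfc, haa, hff, haf, hB⟩
  · exact h.baseA h3 hE2 hN hK hmax hA
  · by_cases h0 : v + a.1 v = 0
    · have hav : (-a).1 v = v := by
        rw [au_neg_apply]
        exact (eq_neg_of_add_eq_zero_left h0).symm
      refine h.baseB h3 hE2 hN hK hmax (a := -a) (f := f)
        (by rw [← neg_one_mul]; exact D.E.mul_mem D.neg_one_mem ha) hf
        (fun i b => by rw [neg_mul, mul_neg, hac i b]) hfc (by rw [neg_mul_neg, haa]) hff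
        (by rw [neg_mul, mul_neg, haf]) (fun x hx hxc h1 h2 => hB x hx hxc ?_ h2) hav two
      rw [mul_neg, neg_mul] at h1
      exact neg_injective h1
    · have h' : D.QF P (v + a.1 v) := by
        refine ⟨h.qp, h.comm, h0, fun i => ?_⟩
        have e1 : ∀ b, (P i b).1 (v + a.1 v) = (P i b).1 v + a.1 ((P i b).1 v) := fun b => by
          rw [map_add, ← au_mul_apply _ a, ← hac i b, au_mul_apply]
        rw [e1, e1]
        calc (P i false).1 v + a.1 ((P i false).1 v) + ((P i true).1 v + a.1 ((P i true).1 v)) =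
            ((P i false).1 v + (P i true).1 v) + a.1 ((P i false).1 v + (P i true).1 v) := by
              rw [map_add]; abel
          _ = _ := by rw [h.tv i]
      exact h'.baseB h3 hE2 hN hK hmax ha hf hac hfc haa hff haf hB (by
        rw [map_add, ← au_mul_apply, haa, add_comm]; rfl) two

end Dat

end Cfsg.Agent.H578
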