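import Cfsg.Agent.H578.Trans

/-!
# The quadratic function attached to an element acting trivially on `E / Q` (helper578)
-/

set_option autoImplicit false
set_option linter.unusedSectionVars false

universe u

namespace Cfsg.Agent.H578

variable {V : Type u} [AddCommGroup V]

/-- the commutator -/
def cm {A : Type*} [Group A] (x y : A) : A := x * y * x⁻¹ * y⁻¹

theorem cm_mul {A : Type*} [Group A] (x y : A) : x * y = cm x y * (y * x) := by
  unfold cm; group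

theorem cm_conj {A : Type*} [Group A] (g x y : A) :
    g * cm x y * g⁻¹ = cm (g * x * g⁻¹) (g * y * g⁻¹) := by
  unfold cm; group

theorem cm_eq_one {A : Type*} [Group A] {x y : A} : cm x y = 1 ↔ x * y = y * x := by
  constructor
  · intro h
    rw [cm_mul x y, h, one_mul]
  · intro h
    unfold cm
    rw [h]; group

namespace Dat

variable {G : Subgroup (AU V)} {D : Dat G}

theorem cm_K {x y : AU V} (hx : x ∈ D.E) (hy : y ∈ D.E) : (cm x y).1 ∈ D.K :=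
  D.comm x hx y hy

theorem cm_mul_left {x x' y : AU V} (hx : x ∈ D.E) (hx' : x' ∈ D.E) (hy : y ∈ D.E) :
    cm (x * x') y = cm x y * cm x' y := by
  have h1 := D.EKu hx (cm_K hx' hy)
  calc cm (x * x') y = x * (x' * y * x'⁻¹ * y⁻¹) * y * x⁻¹ * y⁻¹ := by unfold cm; group
    _ = x * cm x' y * y * x⁻¹ * y⁻¹ := rfl
    _ = cm x' y * x * y * x⁻¹ * y⁻¹ := by rw [h1]
    _ = cm x' y * cm x y := by unfold cm; group
    _ = _ := (D.EKu (D.KE _ (cm_K hx' hy)) (cm_K hx hy))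

theorem cm_mul_right {x y y' : AU V} (hx : x ∈ D.E) (hy : y ∈ D.E) (hy' : y' ∈ D.E) :
    cm x (y * y') = cm x y * cm x y' := by
  have h1 := D.EKu (D.E.mul_mem hy (D.E.mul_mem hy' (D.E.inv_mem hy'))) (cm_K hx hy')
  have h2 := D.EKu hy (cm_K hx hy')
  calc cm x (y * y') = x * y * x⁻¹ * y⁻¹ * (y * (x * y' * x⁻¹ * y'⁻¹)) * y⁻¹ := by
        unfold cm; group
    _ = x * y * x⁻¹ * y⁻¹ * (y * cm x y') * y⁻¹ := rfl
    _ = x * y * x⁻¹ * y⁻¹ * (cm x y' * y) * y⁻¹ := by rw [h2]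
    _ = cm x y * cm x y' := by unfold cm; group

theorem cm_K_left {k y : AU V} (hk : k.1 ∈ D.K) (hy : y ∈ D.E) : cm k y = 1 :=
  cm_eq_one.mpr (D.EKu hy hk).symm

theorem cm_K_right {k y : AU V} (hk : k.1 ∈ D.K) (hy : y ∈ D.E) : cm y k = 1 :=
  cm_eq_one.mpr (D.EKu hy hk)

/-- the defect -/
def df (g x : AU V) : AU V := x⁻¹ * (g * x * g⁻¹)

theorem mul_df (g x : AU V) : g * x = x * df g x * g := by unfold df; group

theorem df_apply (g x : AU V) (y : V) : g.1 (x.1 y) = x.1 ((df g x).1 (g.1 y)) := by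
  rw [← au_mul_apply, mul_df, au_mul_apply, au_mul_apply]

variable [Nontrivial V]

/-- the situation: `g` fixes `v`, centralises `K`, and acts trivially on `E / Q`, and `Q` is
abelian -/
structure Sit (D : Dat G) (v : V) (g : AU V) : Prop where
  hg : g ∈ G
  hgv : g.1 v = v
  hv : v ≠ 0
  gK : ∀ a ∈ D.K, ∀ x, g.1 (a x) = a (g.1 x)
  dfQ : ∀ x ∈ D.E, df g x ∈ D.Q v
  Qab : ∀ x ∈ D.Q v, ∀ y ∈ D.Q v, x * y = y * x
  QB : D.Q v ≤ D.B v

namespace Sit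

variable {v : V} {g : AU V} (h : D.Sit v g)
include h

theorem conjK {k : AU V} (hk : k.1 ∈ D.K) : g * k * g⁻¹ = k := by
  have h1 : g * k = k * g := au_ext fun x => h.gK k.1 hk x
  rw [h1, mul_inv_cancel_right]

theorem df_Q {x : AU V} (hx : x ∈ D.Q v) : (df g x).1 ∈ D.K := by
  have hdx := h.dfQ x hx.1
  apply D.center _ hdx.1
  intro y hy
  rw [← cm_eq_one]
  have hdy := h.dfQ y hy
  have h1 := h.conjK (cm_K hx.1 hy)
  rw [cm_conj] at h1
  have e1 : g * x * g⁻¹ = x * df g x := by unfold df; group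
  have e2 : g * y * g⁻¹ = y * df g y := by unfold df; group
  rw [e1, e2, cm_mul_right (D.E.mul_mem hx.1 hdx.1) hy hdy.1, cm_mul_left hx.1 hdx.1 hy,
    cm_eq_one.mpr (h.Qab _ ((D.Q v).mul_mem hx hdx) _ hdy), mul_one] at h1
  exact mul_eq_left.mp h1

theorem df_mul {x y : AU V} (hx : x ∈ D.E) (hy : y ∈ D.E) :
    ∃ k : AU V, k.1 ∈ D.K ∧ df g (x * y) = k * (df g x * df g y) := by
  have hdx := h.dfQ x hx
  refine ⟨cm y⁻¹ (df g x), cm_K (D.E.inv_mem hy) hdx.1, ?_⟩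
  unfold cm df; group

/-- the bimultiplicative form -/
theorem cm_df_mul_left {x y z : AU V} (hx : x ∈ D.E) (hy : y ∈ D.E) (hz : z ∈ D.E) :
    cm (df g (x * y)) z = cm (df g x) z * cm (df g y) z := by
  obtain ⟨k, hk, h1⟩ := h.df_mul hx hy
  have hdx := (h.dfQ x hx).1
  have hdy := (h.dfQ y hy).1
  rw [h1, cm_mul_left (D.KE k hk) (D.E.mul_mem hdx hdy) hz, cm_K_left hk hz, one_mul,
    cm_mul_left hdx hdy hz]

theorem cm_df_Q_left {x z : AU V} (hx : x ∈ D.Q v) (hz : z ∈ D.E) : cm (df g x) z = 1 :=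
  cm_K_left (h.df_Q hx) hz

theorem cm_df_Q_right {x z : AU V} (hx : x ∈ D.E) (hz : z ∈ D.Q v) : cm (df g x) z = 1 :=
  cm_eq_one.mpr (h.Qab _ (h.dfQ x hx) _ hz)

theorem exists_ζ {x : AU V} (hx : x ∈ D.E) :
    ∃ k : AU V, k.1 ∈ D.K ∧ (df g x).1 v = k.1 v := (h.QB (h.dfQ x hx)).2

/-- the eigenvalue equation -/
theorem ζ_apply {x k : AU V} (hx : x ∈ D.E) (hk : k.1 ∈ D.K) (hxk : (df g x).1 v = k.1 v) :
    g.1 (x.1 v) = k.1 (x.1 v) := by
  rw [df_apply, h.hgv, hxk, D.EK' hx hk]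

theorem ζ_unique {x k : AU V} (hx : x ∈ D.E) (hk : k.1 ∈ D.K)
    (hxk : g.1 (x.1 v) = k.1 (x.1 v)) : (df g x).1 v = k.1 v := by
  apply au_injective x
  rw [D.EK' hx hk, ← hxk, df_apply g x v, h.hgv]

theorem ζ_mul {x y k l : AU V} (hx : x ∈ D.E) (hy : y ∈ D.E) (hk : k.1 ∈ D.K) (hl : l.1 ∈ D.K)
    (hxk : (df g x).1 v = k.1 v) (hyl : (df g y).1 v = l.1 v) :
    (df g (x * y)).1 v = (k * l * cm (df g x) y).1 v := by
  have hdx := (h.dfQ x hx).1
  have hcK := cm_K hdx hy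
  apply h.ζ_unique (D.E.mul_mem hx hy) (D.K.mul_mem (D.K.mul_mem hk hl) hcK)
  have h1 : g.1 ((x * y).1 v) = x.1 ((df g x * y).1 (l.1 v)) := by
    rw [au_mul_apply, df_apply, h.ζ_apply hy hl hyl, au_mul_apply (df g x) y, D.EK' hy hl]
  have h3 : (df g x * y).1 (l.1 v) = (cm (df g x) y).1 ((y * df g x).1 (l.1 v)) := by
    rw [cm_mul (df g x) y, au_mul_apply (cm (df g x) y)]
  have h4 : (y * df g x).1 (l.1 v) = l.1 (k.1 (y.1 v)) := by
    rw [au_mul_apply, D.EK' hdx hl, hxk, D.EK' hy hl, D.EK' hy hk]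
  rw [h1, h3, h4, D.EK' hx hcK, D.EK' hx hl, D.EK' hx hk]
  rw [au_mul_apply, au_mul_apply, ← au_mul_apply x y]
  have hcomm : ∀ {a b : AU V}, a.1 ∈ D.K → b.1 ∈ D.K → ∀ z : V, a.1 (b.1 z) = b.1 (a.1 z) :=
    fun {a b} ha hb z => DFunLike.congr_fun (D.isF.comm _ ha _ hb) z
  rw [hcomm hl hk, hcomm hcK hk, hcomm hcK hl]

end Sit

end Dat

end Cfsg.Agent.H578
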