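import Cfsg.Agent.H578.Quad

/-!
# Quadratic functions, second version (helper578)
-/

set_option autoImplicit false
set_option linter.unusedSectionVars false

universe u

namespace Cfsg.Agent.H578

variable {V : Type u} [AddCommGroup V]

namespace Dat

variable {G : Subgroup (AU V)} {D : Dat G} [Nontrivial V]

/-- elements acting as scalars commute with `Q` -/
theorem BQ {v : V} {x y : AU V} (hx : x ∈ D.B v) (hy : y ∈ D.Q v) : x * y = y * x := by
  obtain ⟨hxE, k, hk, hxk⟩ := hx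
  have hki : (k⁻¹).1 ∈ D.K := D.isF.units.inv_mem (x := k) hk
  have h1 := hy.2 (k⁻¹ * x) (D.E.mul_mem (D.KE _ hki) hxE) (by
    rw [au_mul_apply, hxk, au_inv_apply])
  have h2 := D.EKu hy.1 hk
  calc x * y = k * (k⁻¹ * x * y) := by group
    _ = k * (y * (k⁻¹ * x)) := by rw [h1]
    _ = (k * y) * (k⁻¹ * x) := by group
    _ = (y * k) * (k⁻¹ * x) := by rw [h2]
    _ = y * x := by group

/-- the situation -/
structure Sit2 (D : Dat G) (v : V) (g : AU V) : Prop where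
  hg : g ∈ G
  hgv : g.1 v = v
  hv : v ≠ 0
  gK : ∀ a ∈ D.K, ∀ x, g.1 (a x) = a (g.1 x)
  dfB : ∀ x ∈ D.E, df g x ∈ D.B v
  gQ : ∀ x ∈ D.Q v, g.1 (x.1 v) = x.1 v

namespace Sit2

variable {v : V} {g : AU V} (h : D.Sit2 v g)
include h

theorem conjK {k : AU V} (hk : k.1 ∈ D.K) : g * k * g⁻¹ = k := by
  have h1 : g * k = k * g := au_ext fun x => h.gK k.1 hk x
  rw [h1, mul_inv_cancel_right]

theorem df_Q {x : AU V} (hx : x ∈ D.Q v) : df g x = 1 := by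
  have hdx := (h.dfB x hx.1).1
  have hdv : (df g x).1 v = v := by
    apply au_injective x
    have := df_apply g x v
    rw [h.hgv, h.gQ x hx] at this
    exact this.symm
  have hK : (df g x).1 ∈ D.K := by
    apply D.center _ hdx
    intro y hy
    rw [← cm_eq_one]
    have hdy := h.dfB y hy
    have h1 := h.conjK (cm_K hx.1 hy)
    rw [cm_conj] at h1
    have e1 : g * x * g⁻¹ = x * df g x := by unfold df; group
    have e2 : g * y * g⁻¹ = y * df g y := by unfold df; group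
    have c1 : cm x (df g y) = 1 := cm_eq_one.mpr (BQ hdy hx).symm
    have c2 : cm (df g x) (df g y) = 1 := by
      rw [cm_eq_one]
      obtain ⟨hdyE, k, hk, hyk⟩ := hdy
      have hki : (k⁻¹).1 ∈ D.K := D.isF.units.inv_mem (x := k) hk
      have hcK := cm_K hdx hdyE
      rw [← cm_eq_one]
      apply Units.ext
      apply D.isF.eq_of_apply hcK D.K.one_mem h.hv
      have e3 : (df g x * df g y).1 v = k.1 v := by
        rw [au_mul_apply, hyk, D.EK' hdx hk, hdv]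
      have e4 : (df g y * df g x).1 v = k.1 v := by
        rw [au_mul_apply, hdv, hyk]
      have e5 : (cm (df g x) (df g y) * (df g y * df g x)).1 v = (df g x * df g y).1 v := by
        rw [← cm_mul]
      rw [au_mul_apply, e3, e4] at e5
      apply au_injective k
      have e6 : k.1 ((cm (df g x) (df g y)).1 v) = (cm (df g x) (df g y)).1 (k.1 v) :=
        DFunLike.congr_fun (D.isF.comm _ hk _ hcK) v
      rw [e6, e5]
      rfl
    rw [e1, e2, cm_mul_right (D.E.mul_mem hx.1 hdx) hy hdy.1, cm_mul_left hx.1 hdx hy,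
      cm_mul_left hx.1 hdx hdy.1, c1, c2, mul_one, mul_one] at h1
    exact mul_eq_left.mp h1
  exact Units.ext (D.isF.eq_of_apply hK D.K.one_mem h.hv hdv)

theorem df_mul {x y : AU V} (hx : x ∈ D.E) (hy : y ∈ D.E) :
    ∃ k : AU V, k.1 ∈ D.K ∧ df g (x * y) = k * (df g x * df g y) := by
  have hdx := h.dfB x hx
  refine ⟨cm y⁻¹ (df g x), cm_K (D.E.inv_mem hy) hdx.1, ?_⟩
  unfold cm df; group

/-- the bimultiplicative form -/
theorem cm_df_mul_left {x y z : AU V} (hx : x ∈ D.E) (hy : y ∈ D.E) (hz : z ∈ D.E) :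
    cm (df g (x * y)) z = cm (df g x) z * cm (df g y) z := by
  obtain ⟨k, hk, h1⟩ := h.df_mul hx hy
  have hdx := (h.dfB x hx).1
  have hdy := (h.dfB y hy).1
  rw [h1, cm_mul_left (D.KE k hk) (D.E.mul_mem hdx hdy) hz, cm_K_left hk hz, one_mul,
    cm_mul_left hdx hdy hz]

theorem cm_df_Q_left {x z : AU V} (hx : x ∈ D.Q v) : cm (df g x) z = 1 := by
  rw [h.df_Q hx]; unfold cm; group

theorem cm_df_Q_right {x z : AU V} (hx : x ∈ D.E) (hz : z ∈ D.Q v) : cm (df g x) z = 1 :=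
  cm_eq_one.mpr (BQ (h.dfB x hx) hz)

theorem exists_ζ {x : AU V} (hx : x ∈ D.E) :
    ∃ k : AU V, k.1 ∈ D.K ∧ (df g x).1 v = k.1 v := (h.dfB x hx).2

/-- the eigenvalue equation -/
theorem ζ_apply {x k : AU V} (hx : x ∈ D.E) (hk : k.1 ∈ D.K) (hxk : (df g x).1 v = k.1 v) :
    g.1 (x.1 v) = k.1 (x.1 v) := by
  rw [df_apply, h.hgv, hxk, D.EK' hx hk]

theorem ζ_unique {x k : AU V} (hx : x ∈ D.E) (hk : k.1 ∈ D.K)
    (hxk : g.1 (x.1 v) = k.1 (x.1 v)) : (df g x).1 v = k.1 v := by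
  apply au_injective x
  rw [D.EK' hx hk, ← hxk, df_apply g x v, h.hgv]

theorem ζ_apply_Q {x k q : AU V} (hx : x ∈ D.E) (hk : k.1 ∈ D.K) (hxk : (df g x).1 v = k.1 v)
    (hq : q ∈ D.Q v) : g.1 ((x * q).1 v) = k.1 ((x * q).1 v) := by
  rw [au_mul_apply, df_apply, h.gQ q hq, ← au_mul_apply (df g x) q, BQ (h.dfB x hx) hq,
    au_mul_apply, hxk, D.EK' hq.1 hk, D.EK' hx hk]

theorem ζ_mul {x y k l : AU V} (hx : x ∈ D.E) (hy : y ∈ D.E) (hk : k.1 ∈ D.K) (hl : l.1 ∈ D.K)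
    (hxk : (df g x).1 v = k.1 v) (hyl : (df g y).1 v = l.1 v) :
    (df g (x * y)).1 v = (k * l * cm (df g x) y).1 v := by
  have hdx := (h.dfB x hx).1
  have hcK := cm_K hdx hy
  apply h.ζ_unique (D.E.mul_mem hx hy) (D.K.mul_mem (D.K.mul_mem hk hl) hcK)
  have h1 : g.1 ((x * y).1 v) = x.1 ((df g x * y).1 (l.1 v)) := by
    rw [au_mul_apply, df_apply, h.ζ_apply hy hl hyl, au_mul_apply (df g x) y, D.EK' hy hl]
  have h3 : (df g x * y).1 (l.1 v) = (cm (df g x) y).1 ((y * df g x).1 (l.1 v)) := by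
    rw [cm_mul (df g x) y, au_mul_apply (cm (df g x) y)]
  have h4 : (y * df g x).1 (l.1 v) = l.1 (k.1 (y.1 v)) := by
    rw [au_mul_apply, D.EK' hdx hl, hxk, D.EK' hy hl, D.EK' hy hk]
  rw [h1, h3, h4, D.EK' hx hcK, D.EK' hx hl, D.EK' hx hk]
  rw [au_mul_apply, au_mul_apply, ← au_mul_apply x y]
  have hcomm : ∀ {a b : AU V}, a.1 ∈ D.K → b.1 ∈ D.K → ∀ z : V, a.1 (b.1 z) = b.1 (a.1 z) :=
    fun {a b} ha hb z => DFunLike.congr_fun (D.isF.comm _ ha _ hb) z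
  rw [hcomm hl hk, hcomm hcK hk, hcomm hcK hl]

end Sit2

/-- **The quadratic argument.** -/
theorem quad_end [Finite V] {v : V} {g : AU V} (h : D.Sit2 v g) {X : Type u} [AddCommGroup X]
    (S : D.Sec v X) (P : X → Prop)
    (hquad : ∀ (M : Type u) [CommGroup M] (ζ : X → M) (B : X → X → M),
        (∀ x y z, B (x + y) z = B x z * B y z) → (∀ x y z, B x (y + z) = B x y * B x z) →
        (∀ x y, ζ (x + y) = ζ x * ζ y * B x y) → (∀ x, x ≠ 0 → P x → ζ x = 1) →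
        ζ 0 = 1 → ∀ x, ζ x = 1)
    (hP : ∀ μ, μ ≠ 0 → P μ → (df g (S.f μ)).1 v = v) : g = 1 := by
  have hfdec : ∀ μ ν : X, ∃ r ∈ D.Q v, S.f (μ + ν) = S.f μ * S.f ν * r := by
    intro μ ν
    refine ⟨(S.f μ * S.f ν)⁻¹ * S.f (μ + ν), ?_, by group⟩
    rw [← S.eq_iff (D.E.mul_mem (S.fE μ) (S.fE ν)) (S.fE _), S.pf,
      S.pr_mul _ (S.fE μ) _ (S.fE ν), S.pf, S.pf]
  choose ζ hζK hζ using fun μ => h.exists_ζ (S.fE μ)
  let _ : CommGroup D.isF.units := { (inferInstance : Group D.isF.units) with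
    mul_comm := fun a b => Subtype.ext (Units.ext (D.isF.comm _ a.2 _ b.2)) }
  have hunique : ∀ {a b : AU V}, a.1 ∈ D.K → b.1 ∈ D.K → a.1 v = b.1 v → a = b :=
    fun {a b} ha hb hab => Units.ext (D.isF.eq_of_apply ha hb h.hv hab)
  have hζ1 := hquad D.isF.units (fun μ => ⟨ζ μ, hζK μ⟩)
    (fun μ ν => ⟨cm (df g (S.f μ)) (S.f ν), cm_K (h.dfB _ (S.fE μ)).1 (S.fE ν)⟩) ?_ ?_ ?_ ?_ ?_
  · apply fix_imp_one h.hg h.hgv h.hv
    intro e he
    have hq : (S.f (S.pr e))⁻¹ * e ∈ D.Q v := by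
      rw [← S.eq_iff (S.fE _) he, S.pf]
    have h1 := h.ζ_apply_Q (S.fE (S.pr e)) (hζK _) (hζ _) hq
    have h2 : ζ (S.pr e) = 1 := congrArg Subtype.val (hζ1 (S.pr e))
    rw [mul_inv_cancel_left, h2] at h1
    exact h1
  · intro μ μ' ν
    apply Subtype.ext
    change cm (df g (S.f (μ + μ'))) (S.f ν) = cm (df g (S.f μ)) (S.f ν) * cm (df g (S.f μ')) (S.f ν)
    obtain ⟨r, hr, h1⟩ := hfdec μ μ'
    rw [h1, h.cm_df_mul_left (D.E.mul_mem (S.fE μ) (S.fE μ')) hr.1 (S.fE ν),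
      h.cm_df_Q_left hr, mul_one, h.cm_df_mul_left (S.fE μ) (S.fE μ') (S.fE ν)]
  · intro μ ν ν'
    apply Subtype.ext
    change cm (df g (S.f μ)) (S.f (ν + ν')) = cm (df g (S.f μ)) (S.f ν) * cm (df g (S.f μ)) (S.f ν')
    obtain ⟨r, hr, h1⟩ := hfdec ν ν'
    have hd := (h.dfB _ (S.fE μ)).1
    rw [h1, cm_mul_right hd (D.E.mul_mem (S.fE ν) (S.fE ν')) hr.1,
      h.cm_df_Q_right (S.fE μ) hr, mul_one, cm_mul_right hd (S.fE ν) (S.fE ν')]
  · intro μ ν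
    apply Subtype.ext
    change ζ (μ + ν) = ζ μ * ζ ν * cm (df g (S.f μ)) (S.f ν)
    obtain ⟨r, hr, h1⟩ := hfdec μ ν
    have hcK := cm_K (h.dfB _ (S.fE μ)).1 (S.fE ν)
    have hζmul := h.ζ_mul (S.fE μ) (S.fE ν) (hζK μ) (hζK ν) (hζ μ) (hζ ν)
    have hprodK : (ζ μ * ζ ν * cm (df g (S.f μ)) (S.f ν)).1 ∈ D.K :=
      D.K.mul_mem (D.K.mul_mem (hζK μ) (hζK ν)) hcK
    have hE := D.E.mul_mem (S.fE μ) (S.fE ν)
    have h2 := h.ζ_apply_Q hE hprodK hζmul hr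
    apply hunique (hζK _) hprodK
    rw [← hζ (μ + ν)]
    apply h.ζ_unique (S.fE _) hprodK
    rw [h1, h2]
  · intro μ hμ0 hμ
    apply Subtype.ext
    change ζ μ = 1
    apply hunique (hζK _) D.K.one_mem
    rw [← hζ μ, hP μ hμ0 hμ]
    rfl
  · apply Subtype.ext
    change ζ 0 = 1
    apply hunique (hζK _) D.K.one_mem
    rw [← hζ 0, S.f0]
    have : df g 1 = 1 := by unfold df; group
    rw [this]

end Dat

end Cfsg.Agent.H578
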