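import Cfsg.Agent.H578.Fld
import Cfsg.Agent.H578.RegOrb

/-!
# The symplectic type data of a primitive solvable linear group (helper578)
-/

set_option autoImplicit false

universe u

namespace Cfsg.Agent.H578

open scoped commutatorElement

/-! ### Group-theoretic preliminaries -/

section Grp

variable {A : Type u} [Group A]

/-- `N` is normalised by `G` -/
def NB (G N : Subgroup A) : Prop := ∀ g ∈ G, ∀ x ∈ N, g * x * g⁻¹ ∈ N

/-- power of a product in a group of class two -/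
theorem class2_pow (x y c : A) (hc : y * x = c * (x * y)) (hcx : c * x = x * c)
    (hcy : c * y = y * c) (n : ℕ) : (x * y) ^ n = c ^ (n * (n - 1) / 2) * (x ^ n * y ^ n) := by
  have hyn : ∀ n : ℕ, y ^ n * x = c ^ n * (x * y ^ n) := by
    intro n
    induction n with
    | zero => simp
    | succ n ih =>
      have h1 : Commute y (c ^ n) := (Commute.pow_right (show Commute y c from hcy.symm) n)
      calc y ^ (n + 1) * x = y * (y ^ n * x) := by rw [pow_succ']; group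
        _ = y * (c ^ n * (x * y ^ n)) := by rw [ih]
        _ = (y * c ^ n) * (x * y ^ n) := by group
        _ = (c ^ n * y) * (x * y ^ n) := by rw [h1.eq]
        _ = c ^ n * (y * x) * y ^ n := by group
        _ = c ^ n * (c * (x * y)) * y ^ n := by rw [hc]
        _ = c ^ (n + 1) * (x * y ^ (n + 1)) := by rw [pow_succ c, pow_succ' y]; group
  induction n with
  | zero => simp
  | succ n ih =>
    have h2 : Commute (x ^ n) (c ^ n) :=
      (Commute.pow_pow (show Commute x c from hcx.symm) n n)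
    have h3 : (n + 1) * (n + 1 - 1) / 2 = n * (n - 1) / 2 + n := Nat.triangle_succ n
    calc (x * y) ^ (n + 1) = (x * y) ^ n * (x * y) := pow_succ _ _
      _ = c ^ (n * (n - 1) / 2) * (x ^ n * y ^ n) * (x * y) := by rw [ih]
      _ = c ^ (n * (n - 1) / 2) * x ^ n * (y ^ n * x) * y := by group
      _ = c ^ (n * (n - 1) / 2) * x ^ n * (c ^ n * (x * y ^ n)) * y := by rw [hyn]
      _ = c ^ (n * (n - 1) / 2) * (x ^ n * c ^ n) * (x * y ^ n) * y := by group
      _ = c ^ (n * (n - 1) / 2) * (c ^ n * x ^ n) * (x * y ^ n) * y := by rw [h2.eq]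
      _ = c ^ (n * (n - 1) / 2 + n) * (x ^ (n + 1) * y ^ (n + 1)) := by
        rw [pow_add, pow_succ x, pow_succ y]; group
      _ = _ := by rw [h3]

/-- product of two commuting subgroups -/
def prodSub (N E : Subgroup A) (h : ∀ x ∈ N, ∀ y ∈ E, x * y = y * x) : Subgroup A where
  carrier := {a | ∃ x ∈ N, ∃ y ∈ E, a = x * y}
  one_mem' := ⟨1, N.one_mem, 1, E.one_mem, (mul_one 1).symm⟩
  mul_mem' := by
    rintro a b ⟨x, hx, y, hy, rfl⟩ ⟨x', hx', y', hy', rfl⟩
    refine ⟨x * x', N.mul_mem hx hx', y * y', E.mul_mem hy hy', ?_⟩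
    calc x * y * (x' * y') = x * (y * x') * y' := by group
      _ = x * (x' * y) * y' := by rw [h x' hx' y hy]
      _ = _ := by group
  inv_mem' := by
    rintro a ⟨x, hx, y, hy, rfl⟩
    refine ⟨x⁻¹, N.inv_mem hx, y⁻¹, E.inv_mem hy, ?_⟩
    rw [← mul_inv_rev, h x hx y hy]

theorem mem_prodSub {N E : Subgroup A} {h : ∀ x ∈ N, ∀ y ∈ E, x * y = y * x} {a : A} :
    a ∈ prodSub N E h ↔ ∃ x ∈ N, ∃ y ∈ E, a = x * y := Iff.rfl

theorem le_prodSub_left {N E : Subgroup A} (h : ∀ x ∈ N, ∀ y ∈ E, x * y = y * x) :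
    N ≤ prodSub N E h := fun x hx => ⟨x, hx, 1, E.one_mem, (mul_one x).symm⟩

theorem le_prodSub_right {N E : Subgroup A} (h : ∀ x ∈ N, ∀ y ∈ E, x * y = y * x) :
    E ≤ prodSub N E h := fun x hx => ⟨1, N.one_mem, x, hx, (one_mul x).symm⟩

theorem prodSub_pow {N E : Subgroup A} (h : ∀ x ∈ N, ∀ y ∈ E, x * y = y * x) {x y : A}
    (hx : x ∈ N) (hy : y ∈ E) (n : ℕ) : (x * y) ^ n = x ^ n * y ^ n :=
  (show Commute x y from h x hx y hy).mul_pow n

/-- a subgroup `Z` and powers: if `x ^ a, x ^ b ∈ Z` with `a, b` coprime then `x ∈ Z` -/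
theorem mem_of_coprime {Z : Subgroup A} {x : A} {a b : ℕ} (hab : a.Coprime b)
    (ha : x ^ a ∈ Z) (hb : x ^ b ∈ Z) : x ∈ Z := by
  have h1 : (1 : ℤ) = a * a.gcdA b + b * a.gcdB b := by
    rw [← Nat.gcd_eq_gcd_ab, hab]; rfl
  have h2 : x = (x ^ a) ^ (a.gcdA b) * (x ^ b) ^ (a.gcdB b) := by
    rw [← zpow_natCast, ← zpow_natCast, ← zpow_mul, ← zpow_mul, ← zpow_add, ← h1, zpow_one]
  rw [h2]
  exact Z.mul_mem (Z.zpow_mem ha _) (Z.zpow_mem hb _)

/-- an element outside `B` with `x ^ s ∈ B`, `s` squarefree, has a power `x ^ (s / r)`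
outside `B`, `r` a prime divisor of `s` -/
theorem exists_prime_power_not_mem {B : Subgroup A} {x : A} (hx : x ∉ B) {s : ℕ}
    (hs : Squarefree s) (hxs : x ^ s ∈ B) :
    ∃ r : ℕ, r.Prime ∧ r ∣ s ∧ x ^ (s / r) ∉ B := by
  by_contra hcon
  push Not at hcon
  -- the least positive exponent
  have hs0 : 0 < s := Nat.pos_of_ne_zero hs.ne_zero
  have hex : ∃ d, 0 < d ∧ x ^ d ∈ B := ⟨s, hs0, hxs⟩
  classical
  set d := Nat.find hex with hd
  obtain ⟨hd0, hxd⟩ := Nat.find_spec hex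
  have hdvd : ∀ j, x ^ j ∈ B → d ∣ j := by
    intro j hj
    by_contra hnd
    have h1 : 0 < j % d := Nat.pos_of_ne_zero (fun h => hnd (Nat.dvd_of_mod_eq_zero h))
    have h2 : x ^ (j % d) ∈ B := by
      have h3 : x ^ j = (x ^ d) ^ (j / d) * x ^ (j % d) := by
        rw [← pow_mul, ← pow_add, Nat.div_add_mod]
      rw [h3] at hj
      exact (B.mul_mem_cancel_left (B.pow_mem hxd _)).mp hj
    exact Nat.find_min hex (Nat.mod_lt j hd0) ⟨h1, h2⟩
  have hd1 : d ≠ 1 := by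
    intro h1
    apply hx
    have := hxd
    rw [← hd, h1, pow_one] at this
    exact this
  obtain ⟨r, hr, hrd⟩ := Nat.exists_prime_and_dvd hd1
  have hds : d ∣ s := hdvd s hxs
  have h1 : d ∣ s / r := hdvd _ (hcon r hr (hrd.trans hds))
  have h2 : r * r ∣ s := by
    have h3 : r ∣ s / r := hrd.trans h1
    have h4 : s = r * (s / r) := (Nat.mul_div_cancel' (hrd.trans hds)).symm
    rw [h4]
    exact Nat.mul_dvd_mul_left r h3
  exact hr.one_lt.ne' (Nat.isUnit_iff.mp (hs r h2))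

/-- a perfect subgroup of a solvable group is trivial -/
theorem perfect_trivial {P : Subgroup A} (hP : Group.IsSolvable P) (h : ⁅P, P⁆ = P) :
    P = ⊥ := by
  by_contra hne
  have h1 : commutator P = ⊤ := by
    have h2 : (commutator P).map P.subtype = ⁅P, P⁆ := by
      rw [commutator_def, Subgroup.map_commutator, ← MonoidHom.range_eq_map,
        Subgroup.range_subtype]
    rw [h] at h2
    have h3 : (commutator P).map P.subtype = (⊤ : Subgroup P).map P.subtype := by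
      rw [h2, ← MonoidHom.range_eq_map, Subgroup.range_subtype]
    exact Subgroup.map_injective P.subtype_injective h3
  apply hne
  rw [eq_bot_iff]
  intro x hx
  have := hom_trivial h1 (MonoidHom.id P) ⟨x, hx⟩
  exact congrArg Subtype.val this

/-- the properties of the normal subgroups `E` over `Z` -/
structure Fam (G Z E : Subgroup A) : Prop where
  ZE : Z ≤ E
  EG : E ≤ G
  nb : NB G E
  EZ : ∀ x ∈ E, ∀ z ∈ Z, x * z = z * x
  comm : ∀ x ∈ E, ∀ y ∈ E, x * y * x⁻¹ * y⁻¹ ∈ Z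
  center : ∀ x ∈ E, (∀ y ∈ E, x * y = y * x) → x ∈ Z
  sqf : ∃ s : ℕ, Squarefree s ∧ ∀ x ∈ E, x ^ s ∈ Z

/-- **Existence of a minimal normal section centralised by `E`** -/
theorem exists_section [Finite A] {G Z E : Subgroup A} (hsol : Group.IsSolvable G)
    (hZn : NB G Z) (hZmax : ∀ B : Subgroup A, B ≤ G → NB G B → (∀ x ∈ B, ∀ y ∈ B, x * y = y * x) →
      Z ≤ B → B = Z) (hE : Fam G Z E) {g : A} (hg : g ∈ G) (hgE : ∀ y ∈ E, g * y = y * g)
    (hgZ : g ∉ Z) :
    ∃ N : Subgroup A, ∃ r : ℕ, r.Prime ∧ Z ≤ N ∧ N ≤ G ∧ NB G N ∧ N ≠ Z ∧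
      (∀ x ∈ N, ∀ y ∈ E, x * y = y * x) ∧ (∀ x ∈ N, ∀ y ∈ N, x * y * x⁻¹ * y⁻¹ ∈ Z) ∧
      (∀ x ∈ N, x ^ r ∈ Z) ∧ (∀ x ∈ N, (∀ y ∈ N, x * y = y * x) → x ∈ Z) ∧
      (∀ N' : Subgroup A, Z ≤ N' → N' ≤ N → NB G N' → N' = Z ∨ N' = N) := by
  classical
  let D : Subgroup A :=
    { carrier := {x | x ∈ G ∧ ∀ y ∈ E, x * y = y * x}
      one_mem' := ⟨G.one_mem, fun y _ => by rw [one_mul, mul_one]⟩
      mul_mem' := fun {a b} ha hb => ⟨G.mul_mem ha.1 hb.1, fun y hy => by
        rw [mul_assoc, hb.2 y hy, ← mul_assoc, ha.2 y hy, mul_assoc]⟩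
      inv_mem' := fun {a} ha => ⟨G.inv_mem ha.1, fun y hy => by
        have h := ha.2 y hy
        calc a⁻¹ * y = a⁻¹ * (y * a) * a⁻¹ := by group
          _ = a⁻¹ * (a * y) * a⁻¹ := by rw [h]
          _ = y * a⁻¹ := by group⟩ }
  have hZD : Z ≤ D := fun z hz => ⟨hE.EG (hE.ZE hz), fun y hy => (hE.EZ y hy z hz).symm⟩
  have hDn : NB G D := by
    intro k hk x hx
    refine ⟨G.mul_mem (G.mul_mem hk hx.1) (G.inv_mem hk), fun y hy => ?_⟩
    have h1 : k⁻¹ * y * k ∈ E := by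
      have := hE.nb k⁻¹ (G.inv_mem hk) y hy
      rwa [inv_inv] at this
    have h2 := hx.2 _ h1
    calc k * x * k⁻¹ * y = k * (x * (k⁻¹ * y * k)) * k⁻¹ := by group
      _ = k * ((k⁻¹ * y * k) * x) * k⁻¹ := by rw [h2]
      _ = y * (k * x * k⁻¹) := by group
  -- a minimal `N`
  obtain ⟨N, ⟨hZN, hND, hNn, hNZ⟩, hmin⟩ := Set.Finite.exists_minimal
    (s := {N : Subgroup A | Z ≤ N ∧ N ≤ D ∧ NB G N ∧ N ≠ Z}) (Set.toFinite _)
    ⟨D, hZD, le_rfl, hDn, fun h => hgZ (by rw [← h]; exact ⟨hg, hgE⟩)⟩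
  have hmin' : ∀ N' : Subgroup A, Z ≤ N' → N' ≤ N → NB G N' → N' = Z ∨ N' = N := by
    intro N' h1 h2 h3
    by_cases h : N' = Z
    · exact Or.inl h
    · exact Or.inr (le_antisymm h2 (hmin ⟨h1, h2.trans hND, h3, h⟩ h2))
  have hNG : N ≤ G := fun x hx => (hND hx).1
  have hNE : ∀ x ∈ N, ∀ y ∈ E, x * y = y * x := fun x hx => (hND hx).2
  have hNZc : ∀ x ∈ N, ∀ z ∈ Z, x * z = z * x := fun x hx z hz => hNE x hx z (hE.ZE hz)
  -- the commutators
  have hcommN : ∀ x ∈ N, ∀ y ∈ N, x * y * x⁻¹ * y⁻¹ ∈ Z := by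
    let P : Subgroup A := ⁅N, N⁆
    have hPN : P ≤ N := by
      rw [Subgroup.commutator_le]
      intro x hx y hy
      rw [commutatorElement_def]
      exact N.mul_mem (N.mul_mem (N.mul_mem hx hy) (N.inv_mem hx)) (N.inv_mem hy)
    have hZP : ∀ x ∈ Z, ∀ y ∈ P, x * y = y * x := fun x hx y hy =>
      (hNZc y (hPN hy) x hx).symm
    let N' := prodSub Z P hZP
    have hN'N : N' ≤ N := by
      rintro _ ⟨z, hz, p, hp, rfl⟩
      exact N.mul_mem (hZN hz) (hPN hp)
    have hPn : NB G P := by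
      intro k hk x hx
      have h1 : (P.map (MulAut.conj k).toMonoidHom) ≤ P := by
        have : P.map (MulAut.conj k).toMonoidHom =
          ⁅N.map (MulAut.conj k).toMonoidHom, N.map (MulAut.conj k).toMonoidHom⁆ :=
          Subgroup.map_commutator _ _ _
        rw [this]
        have h2 : N.map (MulAut.conj k).toMonoidHom ≤ N := by
          rintro _ ⟨y, hy, rfl⟩
          exact hNn k hk y hy
        exact Subgroup.commutator_mono h2 h2
      exact h1 ⟨x, hx, rfl⟩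
    have hN'n : NB G N' := by
      rintro k hk _ ⟨z, hz, p, hp, rfl⟩
      exact ⟨k * z * k⁻¹, hZn k hk z hz, k * p * k⁻¹, hPn k hk p hp, by group⟩
    rcases hmin' N' (le_prodSub_left hZP) hN'N hN'n with h | h
    · intro x hx y hy
      rw [← h]
      refine le_prodSub_right hZP ?_
      have h1 : ⁅x, y⁆ ∈ P := Subgroup.commutator_mem_commutator hx hy
      exact h1
    · exfalso
      have hPP : ⁅P, P⁆ = P := by
        apply le_antisymm
        · exact Subgroup.commutator_mono hPN hPN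
        · change ⁅N, N⁆ ≤ ⁅P, P⁆
          rw [Subgroup.commutator_le]
          intro x hx y hy
          rw [← h] at hx hy
          obtain ⟨z, hz, p, hp, rfl⟩ := hx
          obtain ⟨z', hz', p', hp', rfl⟩ := hy
          have h1 : ⁅z * p, z' * p'⁆ = ⁅p, p'⁆ := by
            rw [commutatorElement_def, commutatorElement_def]
            have e1 := hZP z hz p hp
            have e2 := hZP z hz p' hp'
            have e3 := hZP z' hz' p hp
            have e4 := hZP z' hz' p' hp'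
            have e5 : z * z' = z' * z := hNZc z (hZN hz) z' hz'
            have e2' : z * p'⁻¹ = p'⁻¹ * z := hZP z hz _ (P.inv_mem hp')
            have e3' : z' * p⁻¹ = p⁻¹ * z' := hZP z' hz' _ (P.inv_mem hp)
            calc z * p * (z' * p') * (z * p)⁻¹ * (z' * p')⁻¹
                = z * (p * z') * p' * p⁻¹ * z⁻¹ * (z' * p')⁻¹ := by group
              _ = z * (z' * p) * p' * p⁻¹ * z⁻¹ * (p' * z')⁻¹ := by rw [e3, e4]
              _ = (z * z') * (p * p' * p⁻¹) * z⁻¹ * z'⁻¹ * p'⁻¹ := by group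
              _ = (p * p' * p⁻¹) * (z * z') * z⁻¹ * z'⁻¹ * p'⁻¹ := by
                have h6 : (z * z') * (p * p' * p⁻¹) = (p * p' * p⁻¹) * (z * z') :=
                  hZP _ (Z.mul_mem hz hz') _ (P.mul_mem (P.mul_mem hp hp') (P.inv_mem hp))
                rw [h6]
              _ = (p * p' * p⁻¹) * (z' * z) * z⁻¹ * z'⁻¹ * p'⁻¹ := by rw [e5]
              _ = p * p' * p⁻¹ * p'⁻¹ := by group
          rw [h1]
          exact Subgroup.commutator_mem_commutator hp hp'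
      have hPsol : Group.IsSolvable P := by
        have hPG : P ≤ G := hPN.trans hNG
        exact Group.isSolvable_of_isSolvable_injective (f := Subgroup.inclusion hPG)
          (Subgroup.inclusion_injective _)
      have hPbot := perfect_trivial hPsol hPP
      apply hNZ
      rw [← h]
      apply le_antisymm
      · rintro _ ⟨z, hz, p, hp, rfl⟩
        rw [hPbot, Subgroup.mem_bot] at hp
        rw [hp, mul_one]; exact hz
      · exact le_prodSub_left hZP
  -- powers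
  have hpow : ∀ n : ℕ, ∀ x ∈ N, ∀ y ∈ N, ∃ z ∈ Z, (x * y) ^ n = z * (x ^ n * y ^ n) := by
    intro n x hx y hy
    have hc : y * x * y⁻¹ * x⁻¹ ∈ Z := hcommN y hy x hx
    refine ⟨(y * x * y⁻¹ * x⁻¹) ^ (n * (n - 1) / 2), Z.pow_mem hc _, ?_⟩
    exact class2_pow x y _ (by group) (hNZc x hx _ hc).symm (hNZc y hy _ hc).symm n
  obtain ⟨x0, hx0N, hx0Z⟩ : ∃ x ∈ N, x ∉ Z := by
    by_contra hcon
    push Not at hcon
    exact hNZ (le_antisymm hcon hZN)
  obtain ⟨r, hr, y0, hy0N, hy0Z, hy0r⟩ : ∃ r : ℕ, r.Prime ∧ ∃ y ∈ N, y ∉ Z ∧ y ^ r ∈ Z := by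
    have hex : ∃ d, 0 < d ∧ x0 ^ d ∈ Z :=
      ⟨orderOf x0, orderOf_pos x0, by rw [pow_orderOf_eq_one]; exact Z.one_mem⟩
    set d := Nat.find hex with hd
    obtain ⟨hd0, hxd⟩ := Nat.find_spec hex
    have hd1 : d ≠ 1 := by
      intro h1
      apply hx0Z
      have := hxd
      rw [← hd, h1, pow_one] at this
      exact this
    obtain ⟨r, hr, hrd⟩ := Nat.exists_prime_and_dvd hd1
    refine ⟨r, hr, x0 ^ (d / r), N.pow_mem hx0N _, ?_, ?_⟩
    · intro hmem
      exact Nat.find_min hex (Nat.div_lt_self hd0 hr.one_lt)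
        ⟨Nat.div_pos (Nat.le_of_dvd hd0 hrd) hr.pos, hmem⟩
    · rw [← pow_mul, Nat.div_mul_cancel hrd]
      exact hxd
  have hNr : ∀ x ∈ N, x ^ r ∈ Z := by
    let Nr : Subgroup A :=
      { carrier := {x | x ∈ N ∧ x ^ r ∈ Z}
        one_mem' := ⟨N.one_mem, by rw [one_pow]; exact Z.one_mem⟩
        mul_mem' := fun {a b} ha hb => ⟨N.mul_mem ha.1 hb.1, by
          obtain ⟨z, hz, h⟩ := hpow r a ha.1 b hb.1
          rw [h]
          exact Z.mul_mem hz (Z.mul_mem ha.2 hb.2)⟩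
        inv_mem' := fun {a} ha => ⟨N.inv_mem ha.1, by
          rw [inv_pow]; exact Z.inv_mem ha.2⟩ }
    have h1 : Z ≤ Nr := fun z hz => ⟨hZN hz, Z.pow_mem hz r⟩
    have h2 : Nr ≤ N := fun x hx => hx.1
    have h3 : NB G Nr := by
      intro k hk x hx
      refine ⟨hNn k hk x hx.1, ?_⟩
      rw [conj_pow]
      exact hZn k hk _ hx.2
    rcases hmin' Nr h1 h2 h3 with h | h
    · exfalso
      have : y0 ∈ Nr := ⟨hy0N, hy0r⟩
      rw [h] at this
      exact hy0Z this
    · intro x hx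
      rw [← h] at hx
      exact hx.2
  refine ⟨N, r, hr, hZN, hNG, hNn, hNZ, hNE, hcommN, hNr, ?_, hmin'⟩
  -- the centre of `N`
  let C : Subgroup A :=
    { carrier := {x | x ∈ N ∧ ∀ y ∈ N, x * y = y * x}
      one_mem' := ⟨N.one_mem, fun y _ => by rw [one_mul, mul_one]⟩
      mul_mem' := fun {a b} ha hb => ⟨N.mul_mem ha.1 hb.1, fun y hy => by
        rw [mul_assoc, hb.2 y hy, ← mul_assoc, ha.2 y hy, mul_assoc]⟩
      inv_mem' := fun {a} ha => ⟨N.inv_mem ha.1, fun y hy => by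
        have h := ha.2 y hy
        calc a⁻¹ * y = a⁻¹ * (y * a) * a⁻¹ := by group
          _ = a⁻¹ * (a * y) * a⁻¹ := by rw [h]
          _ = y * a⁻¹ := by group⟩ }
  have hC : C = Z := by
    refine hZmax C (fun x hx => hNG hx.1) ?_ (fun x hx y hy => hx.2 y hy.1)
      (fun z hz => ⟨hZN hz, fun y hy => (hNZc y hy z hz).symm⟩)
    intro k hk x hx
    refine ⟨hNn k hk x hx.1, fun y hy => ?_⟩
    have h1 : k⁻¹ * y * k ∈ N := by
      have := hNn k⁻¹ (G.inv_mem hk) y hy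
      rwa [inv_inv] at this
    have h2 := hx.2 _ h1
    calc k * x * k⁻¹ * y = k * (x * (k⁻¹ * y * k)) * k⁻¹ := by group
      _ = k * ((k⁻¹ * y * k) * x) * k⁻¹ := by rw [h2]
      _ = y * (k * x * k⁻¹) := by group
  intro x hx hxy
  rw [← hC]
  exact ⟨hx, hxy⟩

end Grp

end Cfsg.Agent.H578
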