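import Mathlib

/-!
# Systems of imprimitivity as systems of idempotents (helper578)

`G` a group of automorphisms of the additive group `V` (a subgroup of the unit group of
`AddMonoid.End V`). `IsSys G S`: `S` is a finite set of nonzero orthogonal idempotent
endomorphisms with sum 1, permuted by `G`.
-/

set_option autoImplicit false

universe u

namespace Cfsg.Agent.H578

open scoped Pointwise

/-- the automorphism group of the additive group `V` -/
abbrev AU (V : Type u) [AddCommGroup V] : Type u := (AddMonoid.End V)ˣ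

variable {V : Type u} [AddCommGroup V]

theorem au_inv_apply (g : AU V) (x : V) : (g⁻¹).1 (g.1 x) = x := by
  have h : (g⁻¹).1 * g.1 = 1 := Units.inv_mul g
  exact DFunLike.congr_fun h x

theorem au_apply_inv (g : AU V) (x : V) : g.1 ((g⁻¹).1 x) = x := by
  have h : g.1 * (g⁻¹).1 = 1 := Units.mul_inv g
  exact DFunLike.congr_fun h x

theorem au_mul_apply (g h : AU V) (x : V) : (g * h).1 x = g.1 (h.1 x) := rfl

theorem au_one_apply (x : V) : (1 : AU V).1 x = x := rfl

theorem au_injective (g : AU V) : Function.Injective g.1 := fun x y h => by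
  rw [← au_inv_apply g x, h, au_inv_apply]

theorem au_ext {g h : AU V} (H : ∀ x, g.1 x = h.1 x) : g = h :=
  Units.ext (AddMonoidHom.ext H)

theorem sum_app {ι : Type*} (s : Finset ι) (f : ι → AddMonoid.End V) (x : V) :
    (∑ i ∈ s, f i) x = ∑ i ∈ s, f i x := by
  classical
  induction s using Finset.induction_on with
  | empty => simp
  | insert a s ha ih =>
    rw [Finset.sum_insert ha, Finset.sum_insert ha, ← ih]
    rfl

/-- conjugation of an endomorphism by an automorphism -/
def cj (g : AU V) (f : AddMonoid.End V) : AddMonoid.End V := g.1 * f * (g⁻¹).1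

theorem cj_apply (g : AU V) (f : AddMonoid.End V) (x : V) :
    cj g f x = g.1 (f ((g⁻¹).1 x)) := rfl

theorem cj_apply' (g : AU V) (f : AddMonoid.End V) (x : V) : cj g f (g.1 x) = g.1 (f x) := by
  rw [cj_apply, au_inv_apply]

theorem cj_one (f : AddMonoid.End V) : cj 1 f = f := by
  simp [cj]

theorem cj_one' (g : AU V) : cj g 1 = 1 := by
  simp [cj]

theorem cj_zero (g : AU V) : cj g 0 = 0 := by simp [cj]

theorem cj_mul (g : AU V) (f f' : AddMonoid.End V) : cj g (f * f') = cj g f * cj g f' := by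
  unfold cj
  calc g.1 * (f * f') * (g⁻¹).1 = g.1 * f * 1 * f' * (g⁻¹).1 := by
        rw [mul_one]; simp only [mul_assoc]
    _ = _ := by rw [← Units.inv_mul g]; simp only [mul_assoc]

theorem cj_add (g : AU V) (f f' : AddMonoid.End V) : cj g (f + f') = cj g f + cj g f' := by
  unfold cj; rw [mul_add, add_mul]

theorem cj_neg (g : AU V) (f : AddMonoid.End V) : cj g (-f) = -cj g f := by
  unfold cj; rw [mul_neg, neg_mul]

theorem cj_sum (g : AU V) {ι : Type*} (s : Finset ι) (f : ι → AddMonoid.End V) :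
    cj g (∑ i ∈ s, f i) = ∑ i ∈ s, cj g (f i) := by
  unfold cj; rw [Finset.mul_sum, Finset.sum_mul]

theorem cj_cj (g h : AU V) (f : AddMonoid.End V) : cj g (cj h f) = cj (g * h) f := by
  unfold cj; rw [mul_inv_rev, Units.val_mul, Units.val_mul]; simp only [mul_assoc]

theorem cj_inv_cj (g : AU V) (f : AddMonoid.End V) : cj g⁻¹ (cj g f) = f := by
  rw [cj_cj, inv_mul_cancel, cj_one]

theorem cj_cj_inv (g : AU V) (f : AddMonoid.End V) : cj g (cj g⁻¹ f) = f := by
  rw [cj_cj, mul_inv_cancel, cj_one]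

theorem cj_injective (g : AU V) : Function.Injective (cj g) := fun a b h => by
  rw [← cj_inv_cj g a, h, cj_inv_cj]

theorem cj_eq_iff (g : AU V) (f f' : AddMonoid.End V) :
    cj g f = f' ↔ g.1 * f = f' * g.1 := by
  constructor
  · rintro rfl
    unfold cj
    rw [mul_assoc, Units.inv_mul, mul_one]
  · intro h
    unfold cj
    rw [h, mul_assoc, Units.mul_inv, mul_one]

/-- conjugation as a ring automorphism -/
def cjHom (g : AU V) : AddMonoid.End V →+* AddMonoid.End V where
  toFun := cj g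
  map_one' := cj_one' g
  map_mul' := cj_mul g
  map_zero' := cj_zero g
  map_add' := cj_add g

/-- irreducible group of automorphisms -/
def Irr (G : Subgroup (AU V)) : Prop :=
  ∀ U : AddSubgroup V, (∀ g ∈ G, ∀ u ∈ U, g.1 u ∈ U) → U = ⊥ ∨ U = ⊤

/-- a system of imprimitivity, given by its idempotents -/
structure IsSys (G : Subgroup (AU V)) (S : Finset (AddMonoid.End V)) : Prop where
  ne : ∀ e ∈ S, e ≠ 0
  orth : ∀ e ∈ S, ∀ f ∈ S, e ≠ f → e * f = 0
  sum : ∑ e ∈ S, e = 1
  conj : ∀ g ∈ G, ∀ e ∈ S, cj g e ∈ S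

/-- no nontrivial system -/
def Prim (G : Subgroup (AU V)) : Prop :=
  ∀ S : Finset (AddMonoid.End V), IsSys G S → S.card ≤ 1

/-- a base indexed by `ι` -/
def HasBase (ι : Type*) (G : Subgroup (AU V)) : Prop :=
  ∃ v : ι → V, ∀ g ∈ G, (∀ i, g.1 (v i) = v i) → g = 1

namespace IsSys

variable {G : Subgroup (AU V)} {S : Finset (AddMonoid.End V)}

theorem idem (h : IsSys G S) {e : AddMonoid.End V} (he : e ∈ S) : e * e = e := by
  have h1 : e * ∑ f ∈ S, f = e := by rw [h.sum, mul_one]
  rw [Finset.mul_sum, Finset.sum_eq_single e (fun f hf hfe => h.orth e he f hf (Ne.symm hfe))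
    (fun h => absurd he h)] at h1
  exact h1

theorem sum_apply (h : IsSys G S) (x : V) : ∑ e ∈ S, e x = x := by
  have h1 : (∑ e ∈ S, e) x = x := by rw [h.sum]; rfl
  rw [sum_app] at h1
  exact h1

/-- the action on the system -/
@[instance_reducible] def act (h : IsSys G S) : MulAction G S where
  smul g e := ⟨cj g.1 e.1, h.conj g.1 g.2 e.1 e.2⟩
  one_smul e := Subtype.ext (cj_one e.1)
  mul_smul g k e := Subtype.ext (cj_cj g.1 k.1 e.1).symm

/-- transitivity -/
theorem trans (h : IsSys G S) (hirr : Irr G) {e f : AddMonoid.End V} (he : e ∈ S)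
    (hf : f ∈ S) : ∃ g ∈ G, cj g e = f := by
  classical
  let O : Finset (AddMonoid.End V) := S.filter (fun f => ∃ g ∈ G, cj g e = f)
  let s : AddMonoid.End V := ∑ f ∈ O, f
  have hOS : ∀ f ∈ O, f ∈ S := fun f hf => (Finset.mem_filter.mp hf).1
  have heO : e ∈ O := Finset.mem_filter.mpr ⟨he, 1, G.one_mem, cj_one e⟩
  have hinv : ∀ g ∈ G, cj g s = s := by
    intro g hg
    rw [cj_sum]
    refine Finset.sum_nbij' (cj g) (cj g⁻¹) ?_ ?_ ?_ ?_ ?_
    · intro f hf
      obtain ⟨hf1, k, hk, rfl⟩ := Finset.mem_filter.mp hf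
      exact Finset.mem_filter.mpr ⟨h.conj g hg _ hf1, g * k, G.mul_mem hg hk, (cj_cj g k e).symm⟩
    · intro f hf
      obtain ⟨hf1, k, hk, rfl⟩ := Finset.mem_filter.mp hf
      exact Finset.mem_filter.mpr ⟨h.conj _ (G.inv_mem hg) _ hf1, g⁻¹ * k,
        G.mul_mem (G.inv_mem hg) hk, (cj_cj _ k e).symm⟩
    · intro f _; exact cj_inv_cj g f
    · intro f _; exact cj_cj_inv g f
    · intro f _; rfl
  have hmul : ∀ f ∈ O, f * s = f := by
    intro f hf
    rw [Finset.mul_sum, Finset.sum_eq_single f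
      (fun k hk hkf => h.orth f (hOS f hf) k (hOS k hk) (Ne.symm hkf)) (fun h => absurd hf h)]
    exact h.idem (hOS f hf)
  have hmul0 : ∀ f ∈ S, f ∉ O → f * s = 0 := by
    intro f hf hfO
    rw [Finset.mul_sum]
    exact Finset.sum_eq_zero (fun k hk => h.orth f hf k (hOS k hk) (fun h => hfO (h ▸ hk)))
  let U : AddSubgroup V := s.range
  have hU : ∀ g ∈ G, ∀ u ∈ U, g.1 u ∈ U := by
    rintro g hg _ ⟨x, rfl⟩
    refine ⟨g.1 x, ?_⟩
    change s (g.1 x) = g.1 (s x)
    rw [← cj_apply' g s x, hinv g hg]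
  rcases hirr U hU with hU | hU
  · exfalso
    apply h.ne e he
    have hs : s = 0 := by
      apply AddMonoidHom.ext
      intro x
      have : s x ∈ U := ⟨x, rfl⟩
      rw [hU, AddSubgroup.mem_bot] at this
      exact this
    rw [← hmul e heO, hs, mul_zero]
  · by_contra hcon
    have hfO : f ∉ O := fun hfO => hcon (Finset.mem_filter.mp hfO).2
    apply h.ne f hf
    apply AddMonoidHom.ext
    intro x
    have hx : x ∈ U := by rw [hU]; trivial
    obtain ⟨y, rfl⟩ := hx
    change (f * s) y = 0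
    rw [hmul0 f hf hfO]
    rfl

/-- **A minimal nontrivial system is permuted primitively.** -/
theorem preprim (h : IsSys G S) (hirr : Irr G)
    (hmin : ∀ S' : Finset (AddMonoid.End V), IsSys G S' → 1 < S'.card → S.card ≤ S'.card) :
    let _ := h.act
    MulAction.IsPreprimitive G S := by
  classical
  intro _
  have hcj : ∀ (g : G) (e : S), ((g • e : S) : AddMonoid.End V) = cj g.1 e.1 := fun g e => rfl
  have htr : MulAction.IsPretransitive G S := by
    refine ⟨fun e f => ?_⟩
    obtain ⟨g, hg, hgf⟩ := h.trans hirr e.2 f.2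
    exact ⟨⟨g, hg⟩, Subtype.ext hgf⟩
  refine { htr with isTrivialBlock_of_isBlock := ?_ }
  intro B hB
  by_contra hcon
  have hBns : ¬ B.Subsingleton := fun h => hcon (Or.inl h)
  have hBnu : B ≠ Set.univ := fun h => hcon (Or.inr h)
  have hBne : B.Nonempty := by
    rw [Set.nonempty_iff_ne_empty]
    intro h; rw [h] at hBns; exact hBns Set.subsingleton_empty
  have hfin : Finite S := inferInstance
  -- the sum over a set of blocks
  let E : Set S → AddMonoid.End V := fun b => ∑ e ∈ S.attach.filter (fun e => e ∈ b), e.1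
  have hE1 : ∀ (b : Set S) (e : S), e ∈ b → e.1 * E b = e.1 := by
    intro b e he
    simp only [E]
    rw [Finset.mul_sum, Finset.sum_eq_single e]
    · exact h.idem e.2
    · intro f _ hfe
      exact h.orth _ e.2 _ f.2 (fun h => hfe (Subtype.ext h.symm))
    · intro hne
      exact absurd (Finset.mem_filter.mpr ⟨Finset.mem_attach _ _, he⟩) hne
  have hE0 : ∀ (b : Set S) (e : S), e ∉ b → e.1 * E b = 0 := by
    intro b e he
    simp only [E]
    rw [Finset.mul_sum]
    refine Finset.sum_eq_zero (fun f hf => ?_)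
    refine h.orth _ e.2 _ f.2 (fun h => he ?_)
    rw [Subtype.ext h]
    exact (Finset.mem_filter.mp hf).2
  have hEcj : ∀ (g : G) (b : Set S), cj g.1 (E b) = E (g • b) := by
    intro g b
    simp only [E]
    rw [cj_sum]
    refine Finset.sum_nbij' (fun e => g • e) (fun e => g⁻¹ • e) ?_ ?_ ?_ ?_ ?_
    · intro e he
      refine Finset.mem_filter.mpr ⟨Finset.mem_attach _ _, ?_⟩
      exact Set.smul_mem_smul_set (Finset.mem_filter.mp he).2
    · intro e he
      refine Finset.mem_filter.mpr ⟨Finset.mem_attach _ _, ?_⟩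
      exact Set.mem_smul_set_iff_inv_smul_mem.mp (Finset.mem_filter.mp he).2
    · intro e _; exact inv_smul_smul g e
    · intro e _; exact smul_inv_smul g e
    · intro e _; rfl
  have hEne : ∀ b : Set S, b.Nonempty → E b ≠ 0 := by
    rintro b ⟨e, he⟩ h0
    apply h.ne e.1 e.2
    rw [← hE1 b e he, h0, mul_zero]
  have hEorth : ∀ b b' : Set S, Disjoint b b' → E b * E b' = 0 := by
    intro b b' hbb'
    have : E b * E b' = ∑ e ∈ S.attach.filter (fun e => e ∈ b), e.1 * E b' := by
      simp only [E]; rw [Finset.sum_mul]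
    rw [this]
    refine Finset.sum_eq_zero (fun e he => hE0 b' e ?_)
    exact Set.disjoint_left.mp hbb' (Finset.mem_filter.mp he).2
  have hEidem : ∀ b : Set S, E b * E b = E b := by
    intro b
    have : E b * E b = ∑ e ∈ S.attach.filter (fun e => e ∈ b), e.1 * E b := by
      conv_lhs => arg 1; simp only [E]
      rw [Finset.sum_mul]
    rw [this]
    refine Finset.sum_congr rfl (fun e he => hE1 b e (Finset.mem_filter.mp he).2)
  have hsysB := hB.isBlockSystem hBne
  let 𝓑 : Set (Set S) := Set.range fun g : G => g • B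
  have h𝓑fin : 𝓑.Finite := Set.toFinite _
  have hdisj : ∀ b ∈ 𝓑, ∀ b' ∈ 𝓑, b ≠ b' → Disjoint b b' := by
    intro b hb b' hb' hne
    exact hsysB.1.pairwiseDisjoint hb hb' hne
  have hne𝓑 : ∀ b ∈ 𝓑, b.Nonempty := by
    rintro _ ⟨g, rfl⟩
    exact Set.Nonempty.smul_set hBne
  have hinj : ∀ b ∈ 𝓑, ∀ b' ∈ 𝓑, E b = E b' → b = b' := by
    intro b hb b' hb' hbb'
    by_contra hne
    have h1 := hEorth b b' (hdisj b hb b' hb' hne)
    rw [← hbb', hEidem] at h1
    exact hEne b (hne𝓑 b hb) h1
  let S' : Finset (AddMonoid.End V) := h𝓑fin.toFinset.image E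
  have hS' : IsSys G S' := by
    refine ⟨?_, ?_, ?_, ?_⟩
    · intro e he
      obtain ⟨b, hb, rfl⟩ := Finset.mem_image.mp he
      exact hEne b (hne𝓑 b (h𝓑fin.mem_toFinset.mp hb))
    · intro e he f hf hef
      obtain ⟨b, hb, rfl⟩ := Finset.mem_image.mp he
      obtain ⟨b', hb', rfl⟩ := Finset.mem_image.mp hf
      exact hEorth b b' (hdisj b (h𝓑fin.mem_toFinset.mp hb) b' (h𝓑fin.mem_toFinset.mp hb')
        (fun h => hef (by rw [h])))
    · simp only [S']
      rw [Finset.sum_image (fun b hb b' hb' => hinj b (h𝓑fin.mem_toFinset.mp hb) b'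
        (h𝓑fin.mem_toFinset.mp hb'))]
      -- both sides agree after multiplication by every `e ∈ S`
      have key : ∀ e : S, e.1 * ∑ b ∈ h𝓑fin.toFinset, E b = e.1 := by
        intro e
        obtain ⟨b, ⟨hb, heb⟩, -⟩ := hsysB.1.2 e
        rw [Finset.mul_sum, Finset.sum_eq_single b]
        · exact hE1 b e heb
        · intro b' hb' hne
          refine hE0 b' e (fun heb' => ?_)
          exact Set.disjoint_left.mp (hdisj b hb b' (h𝓑fin.mem_toFinset.mp hb') (Ne.symm hne))
            heb heb'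
        · intro hne
          exact absurd (h𝓑fin.mem_toFinset.mpr hb) hne
      have h2 : (∑ e ∈ S, e) * ∑ b ∈ h𝓑fin.toFinset, E b = ∑ e ∈ S, e := by
        rw [Finset.sum_mul]
        exact Finset.sum_congr rfl (fun e he => key ⟨e, he⟩)
      rw [h.sum, one_mul] at h2
      exact h2
    · intro g hg e he
      obtain ⟨b, hb, rfl⟩ := Finset.mem_image.mp he
      have hb' := h𝓑fin.mem_toFinset.mp hb
      refine Finset.mem_image.mpr ⟨(⟨g, hg⟩ : G) • b, ?_, (hEcj ⟨g, hg⟩ b).symm⟩
      rw [h𝓑fin.mem_toFinset]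
      obtain ⟨k, rfl⟩ := hb'
      exact ⟨⟨g, hg⟩ * k, mul_smul _ _ _⟩
  have hcard' : S'.card = 𝓑.ncard := by
    rw [Finset.card_image_of_injOn (fun b hb b' hb' => hinj b (h𝓑fin.mem_toFinset.mp hb) b'
      (h𝓑fin.mem_toFinset.mp hb'))]
    exact (Set.ncard_eq_toFinset_card _ h𝓑fin).symm
  have hmulc := hB.ncard_block_mul_ncard_orbit_eq hBne
  have h𝓑orb : MulAction.orbit G B = 𝓑 := rfl
  rw [h𝓑orb, Nat.card_eq_fintype_card, Fintype.card_coe] at hmulc
  have hB2 : 1 < B.ncard := by
    rw [Set.one_lt_ncard (Set.toFinite _)]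
    exact Set.not_subsingleton_iff.mp hBns
  have h𝓑1 : 1 < 𝓑.ncard := by
    by_contra hle
    have h0 : 0 < 𝓑.ncard := by
      rw [Set.ncard_pos h𝓑fin]; exact ⟨B, 1, one_smul _ _⟩
    have h1 : 𝓑.ncard = 1 := by omega
    rw [h1, mul_one] at hmulc
    apply hBnu
    refine Set.eq_of_subset_of_ncard_le (Set.subset_univ B) ?_
    rw [Set.ncard_univ, Nat.card_eq_fintype_card, Fintype.card_coe, hmulc]
  have h3 := hmin S' hS' (by rw [hcard']; exact h𝓑1)
  rw [hcard'] at h3
  nlinarith

end IsSys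

end Cfsg.Agent.H578
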