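import Cfsg.Agent.H980.NoYATits
import Cfsg.Agent.H959.T5.Base

/-!
# S3854: the row of the Tits group (helper578)
-/

set_option autoImplicit false

namespace Cfsg.Agent.H578.TitsT

open Cfsg Subgroup Cfsg.Agent.H459.Rad Cfsg.Agent.H459.Iface
open Cfsg.Agent.H301.SY Cfsg.Agent.H959.Rad3 Cfsg.Agent.H959.T5

theorem wit_not_te {K : Type*} [Group K] [Finite K] {x : K} (h : Cfsg.Agent.H980.NoYATits.Wit x) (hT : TE x) :
    False := by
  obtain ⟨y, g, ⟨k, hk⟩, -, h2⟩ := h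
  refine h2 (hT (g * y * g⁻¹) ⟨k, ?_⟩)
  rw [conj_pow, ← hk, pow_orderOf_eq_one, mul_one, mul_inv_cancel]

/-- **the row of the Tits group** -/
theorem noT_tits {K : Type*} [Group K] [Finite K] [IsSimpleGroup K] (h : Cfsg.Lie.IsoTits K) {p : ℕ} [Fact p.Prime]
    (hp : 5 ≤ p) : Cfsg.Agent.H959.T5.NoT p K := by
  intro x hx _ hT
  have ho := Cfsg.Agent.CpAutTits.Row.out h
  obtain ⟨y, rfl⟩ := Cfsg.Agent.CpAutTits.Row.autInner h (Fact.out : p.Prime) (by omega) x hx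
  have hc := Cfsg.Agent.CpAutTits.Row.center_bot ho
  have hy : orderOf y = p := by rw [← Cfsg.Agent.CpAut.orderOf_conj hc y, hx]
  have hdvd : p ∣ 2 ^ 11 * 3 ^ 3 * 5 ^ 2 * 13 := by
    rw [← ho.card, ← hy]
    exact orderOf_dvd_natCard y
  have hp' : p.Prime := Fact.out
  have hcases : p = 5 ∨ p = 13 := by
    rcases (Nat.Prime.dvd_mul hp').1 hdvd with h1 | h1
    · rcases (Nat.Prime.dvd_mul hp').1 h1 with h1 | h1
      · rcases (Nat.Prime.dvd_mul hp').1 h1 with h1 | h1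
        · have := (Nat.prime_dvd_prime_iff_eq hp' Nat.prime_two).1 (hp'.dvd_of_dvd_pow h1)
          omega
        · have := (Nat.prime_dvd_prime_iff_eq hp' Nat.prime_three).1 (hp'.dvd_of_dvd_pow h1)
          omega
      · exact Or.inl ((Nat.prime_dvd_prime_iff_eq hp' (by norm_num)).1 (hp'.dvd_of_dvd_pow h1))
    · exact Or.inr ((Nat.prime_dvd_prime_iff_eq hp' (by norm_num)).1 h1)
  exact wit_not_te (Cfsg.Agent.H980.NoYATits.wit_iso h (by rw [hy]; exact hcases)) (TE.of_t2 hc hT)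

end Cfsg.Agent.H578.TitsT
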