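import Cfsg.Agent.H578.Frame

/-!
# Translates of the fixed space (helper578)
-/

set_option autoImplicit false
set_option linter.unusedSectionVars false

universe u

namespace Cfsg.Agent.H578

variable {V : Type u} [AddCommGroup V]

namespace Dat

variable {G : Subgroup (AU V)} (D : Dat G)

/-- an additive group indexing the cosets of `Q` in `E` -/
structure Sec (v : V) (X : Type u) [AddCommGroup X] where
  /-- the projection -/
  pr : AU V → X
  /-- the representatives -/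
  f : X → AU V
  pr_mul : ∀ x ∈ D.E, ∀ y ∈ D.E, pr (x * y) = pr x + pr y
  pr_zero : ∀ x ∈ D.E, (pr x = 0 ↔ x ∈ D.Q v)
  fE : ∀ μ, f μ ∈ D.E
  pf : ∀ μ, pr (f μ) = μ
  f0 : f 0 = 1

theorem Q_le_E {v : V} {x : AU V} (hx : x ∈ D.Q v) : x ∈ D.E := hx.1

theorem exists_sec [Nontrivial V] [Finite V] (v : V) :
    ∃ (X : Type u) (_ : AddCommGroup X) (_ : Finite X), Nonempty (D.Sec v X) := by
  classical
  have hfe : Finite (AddMonoid.End V) := finite_end
  let Q' : Subgroup D.E := (D.Q v).subgroupOf D.E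
  have hcommQ : ∀ x ∈ D.E, ∀ y ∈ D.E, x * y * x⁻¹ * y⁻¹ ∈ D.Q v := fun x hx y hy =>
    D.K_le_Q (D.comm x hx y hy)
  have hnorm : Q'.Normal := ⟨fun q hq e => by
    rw [Subgroup.mem_subgroupOf] at hq ⊢
    have h1 := hcommQ e.1 e.2 q.1 q.2
    have h2 := (D.Q v).mul_mem h1 hq
    have h3 : e.1 * q.1 * e.1⁻¹ * q.1⁻¹ * q.1 = e.1 * q.1 * e.1⁻¹ := by group
    rw [h3] at h2
    exact h2⟩
  have hcomm : ∀ a b : D.E ⧸ Q', a * b = b * a := by
    intro a b
    obtain ⟨x, rfl⟩ := QuotientGroup.mk_surjective a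
    obtain ⟨y, rfl⟩ := QuotientGroup.mk_surjective b
    rw [← QuotientGroup.mk_mul, ← QuotientGroup.mk_mul, QuotientGroup.eq]
    rw [Subgroup.mem_subgroupOf]
    have h1 := hcommQ (y.1)⁻¹ (D.E.inv_mem y.2) (x.1)⁻¹ (D.E.inv_mem x.2)
    have h2 : (((x * y)⁻¹ * (y * x) : D.E) : AU V) = (y.1)⁻¹ * (x.1)⁻¹ * (y.1⁻¹)⁻¹ * (x.1⁻¹)⁻¹ := by
      push_cast
      group
    rw [h2]
    exact h1
  let _ : CommGroup (D.E ⧸ Q') := { (inferInstance : Group (D.E ⧸ Q')) with mul_comm := hcomm }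
  let X := Additive (D.E ⧸ Q')
  let pr : AU V → X := fun x => if hx : x ∈ D.E then Additive.ofMul (QuotientGroup.mk ⟨x, hx⟩) else 0
  have hpr : ∀ x (hx : x ∈ D.E), pr x = Additive.ofMul (QuotientGroup.mk ⟨x, hx⟩) := fun x hx =>
    dif_pos hx
  have hpr0 : ∀ x ∈ D.E, (pr x = 0 ↔ x ∈ D.Q v) := by
    intro x hx
    rw [hpr x hx]
    change (QuotientGroup.mk ⟨x, hx⟩ : D.E ⧸ Q') = 1 ↔ _
    rw [QuotientGroup.eq_one_iff, Subgroup.mem_subgroupOf]
  have hsurj : ∀ μ : X, ∃ x ∈ D.E, pr x = μ := by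
    intro μ
    obtain ⟨x, hx⟩ := QuotientGroup.mk_surjective (Additive.toMul μ)
    refine ⟨x.1, x.2, ?_⟩
    rw [hpr x.1 x.2]
    change Additive.ofMul (QuotientGroup.mk x : D.E ⧸ Q') = μ
    rw [hx]; rfl
  choose f hf hpf using hsurj
  refine ⟨X, inferInstance, inferInstanceAs (Finite (D.E ⧸ Q')),
    ⟨⟨pr, fun μ => if μ = 0 then 1 else f μ, ?_, hpr0, ?_, ?_, ?_⟩⟩⟩
  · intro x hx y hy
    rw [hpr x hx, hpr y hy, hpr _ (D.E.mul_mem hx hy)]
    rfl
  · intro μ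
    split_ifs
    · exact D.E.one_mem
    · exact hf μ
  · intro μ
    split_ifs with h
    · rw [h, hpr0 1 D.E.one_mem]
      exact (D.Q v).one_mem
    · exact hpf μ
  · exact if_pos rfl

variable {D}

namespace Sec

variable {v : V} {X : Type u} [AddCommGroup X] (S : D.Sec v X)

theorem pr_one : S.pr 1 = 0 := (S.pr_zero 1 D.E.one_mem).mpr (D.Q v).one_mem

theorem pr_inv {x : AU V} (hx : x ∈ D.E) : S.pr x⁻¹ = -S.pr x := by
  rw [eq_neg_iff_add_eq_zero, ← S.pr_mul _ (D.E.inv_mem hx) _ hx, inv_mul_cancel, S.pr_one]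

theorem eq_iff {x y : AU V} (hx : x ∈ D.E) (hy : y ∈ D.E) :
    S.pr x = S.pr y ↔ x⁻¹ * y ∈ D.Q v := by
  rw [← S.pr_zero _ (D.E.mul_mem (D.E.inv_mem hx) hy), S.pr_mul _ (D.E.inv_mem hx) _ hy,
    S.pr_inv hx, neg_add_eq_zero]

variable [Nontrivial V]

/-- **The translates are independent.** -/
theorem indep {s : Finset X} {u : X → V} (hu : ∀ μ ∈ s, u μ ∈ D.V0 v)
    (h0 : ∑ μ ∈ s, (S.f μ).1 (u μ) = 0) : ∀ μ ∈ s, u μ = 0 := by
  classical
  induction s using Finset.induction_on generalizing u with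
  | empty => simp
  | insert ν s hν ih =>
    rw [Finset.sum_insert hν] at h0
    have huν := hu ν (Finset.mem_insert_self ν s)
    have hus : ∀ μ ∈ s, u μ ∈ D.V0 v := fun μ hμ => hu μ (Finset.mem_insert_of_mem hμ)
    -- action of the stabiliser
    have hact : ∀ a ∈ D.E, a.1 v = v → ∀ μ, ∀ x ∈ D.V0 v,
        a.1 ((S.f μ).1 x) = (a * S.f μ * a⁻¹ * (S.f μ)⁻¹).1 ((S.f μ).1 x) := by
      intro a ha hav μ x hx
      rw [← au_mul_apply, ← au_mul_apply, inv_mul_cancel_right]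
      have h1 : (a⁻¹).1 x = x := hx a⁻¹ (D.E.inv_mem ha) (by
        apply au_injective a
        rw [au_apply_inv, hav])
      rw [au_mul_apply (a * S.f μ), h1]
    have h1 : ∀ μ ∈ s, u μ = 0 := by
      intro μ hμ
      by_contra hne
      -- the characters coincide
      have h2 : ∀ a ∈ D.E, a.1 v = v →
          a * S.f μ * a⁻¹ * (S.f μ)⁻¹ = a * S.f ν * a⁻¹ * (S.f ν)⁻¹ := by
        intro a ha hav
        have hK : ∀ ρ, (a * S.f ρ * a⁻¹ * (S.f ρ)⁻¹).1 ∈ D.K := fun ρ =>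
          D.comm a ha _ (S.fE ρ)
        have h3 : ∑ ρ ∈ s, (S.f ρ).1 (((a * S.f ρ * a⁻¹ * (S.f ρ)⁻¹).1 -
            (a * S.f ν * a⁻¹ * (S.f ν)⁻¹).1) (u ρ)) = 0 := by
          have h4 : a.1 ((S.f ν).1 (u ν) + ∑ ρ ∈ s, (S.f ρ).1 (u ρ)) = 0 := by
            rw [h0, map_zero]
          have h5 : (a * S.f ν * a⁻¹ * (S.f ν)⁻¹).1
              ((S.f ν).1 (u ν) + ∑ ρ ∈ s, (S.f ρ).1 (u ρ)) = 0 := by
            rw [h0, map_zero]
          rw [map_add, map_sum] at h4 h5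
          rw [hact a ha hav ν _ huν] at h4
          rw [← h5] at h4
          have h6 := add_left_cancel h4
          have h7 : ∑ ρ ∈ s, (S.f ρ).1 (((a * S.f ρ * a⁻¹ * (S.f ρ)⁻¹).1 -
            (a * S.f ν * a⁻¹ * (S.f ν)⁻¹).1) (u ρ)) =
            ∑ ρ ∈ s, (a.1 ((S.f ρ).1 (u ρ)) -
              (a * S.f ν * a⁻¹ * (S.f ν)⁻¹).1 ((S.f ρ).1 (u ρ))) := by
            refine Finset.sum_congr rfl fun ρ hρ => ?_
            rw [hact a ha hav ρ _ (hus ρ hρ)]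
            have h8 : ((a * S.f ρ * a⁻¹ * (S.f ρ)⁻¹).1 -
              (a * S.f ν * a⁻¹ * (S.f ν)⁻¹).1) (u ρ) = (a * S.f ρ * a⁻¹ * (S.f ρ)⁻¹).1 (u ρ) -
              (a * S.f ν * a⁻¹ * (S.f ν)⁻¹).1 (u ρ) := rfl
            rw [h8, map_sub, D.EK' (S.fE ρ) (hK ρ), D.EK' (S.fE ρ) (hK ν)]
          rw [h7, Finset.sum_sub_distrib, h6, sub_self]
        have h9 := ih (u := fun ρ => ((a * S.f ρ * a⁻¹ * (S.f ρ)⁻¹).1 -
            (a * S.f ν * a⁻¹ * (S.f ν)⁻¹).1) (u ρ))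
          (fun ρ hρ => D.K_V0 (D.K.sub_mem (hK ρ) (hK ν)) (hus ρ hρ)) h3 μ hμ
        have h10 := D.isF.eq_zero (D.K.sub_mem (hK μ) (hK ν)) hne h9
        exact Units.ext (sub_eq_zero.mp h10)
      apply hν
      have h3 : ν = μ := by
        have h4 : S.pr (S.f μ) = S.pr (S.f ν) := by
          rw [S.eq_iff (S.fE μ) (S.fE ν)]
          refine ⟨D.E.mul_mem (D.E.inv_mem (S.fE μ)) (S.fE ν), fun a ha hav => ?_⟩
          have h5 := h2 a ha hav
          have hKν := D.comm a ha _ (S.fE ν)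
          set c := a * S.f ν * a⁻¹ * (S.f ν)⁻¹ with hc
          have h6 : a * S.f μ = c * (S.f μ * a) := by rw [← h5]; group
          have h7 : a * S.f ν = c * (S.f ν * a) := by rw [hc]; group
          have hcc : c * (S.f μ)⁻¹ = (S.f μ)⁻¹ * c := (D.EKu (D.E.inv_mem (S.fE μ)) hKν).symm
          have h8 : c * (a * (S.f μ)⁻¹) = (S.f μ)⁻¹ * a := by
            calc c * (a * (S.f μ)⁻¹) = (c * (S.f μ)⁻¹) * (S.f μ * a * (S.f μ)⁻¹) := by group
              _ = (S.f μ)⁻¹ * c * (S.f μ * a * (S.f μ)⁻¹) := by rw [hcc]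
              _ = (S.f μ)⁻¹ * (c * (S.f μ * a)) * (S.f μ)⁻¹ := by group
              _ = (S.f μ)⁻¹ * (a * S.f μ) * (S.f μ)⁻¹ := by rw [h6]
              _ = _ := by group
          have h9 : c * ((S.f μ)⁻¹ * S.f ν * a) = c * (a * ((S.f μ)⁻¹ * S.f ν)) := by
            calc c * ((S.f μ)⁻¹ * S.f ν * a) = (c * (S.f μ)⁻¹) * (S.f ν * a) := by group
              _ = (S.f μ)⁻¹ * (c * (S.f ν * a)) := by rw [hcc]; group
              _ = (S.f μ)⁻¹ * (a * S.f ν) := by rw [h7]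
              _ = ((S.f μ)⁻¹ * a) * S.f ν := by group
              _ = c * (a * (S.f μ)⁻¹) * S.f ν := by rw [h8]
              _ = _ := by group
          exact mul_left_cancel h9
        rw [S.pf, S.pf] at h4
        exact h4.symm
      rw [h3]; exact hμ
    intro μ hμ
    rcases Finset.mem_insert.mp hμ with rfl | hμ
    · rw [Finset.sum_eq_zero (fun ρ hρ => by rw [h1 ρ hρ, map_zero]), add_zero] at h0
      apply au_injective (S.f μ)
      rw [h0, map_zero]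
    · exact h1 μ hμ

end Sec

section Act

variable [Nontrivial V] {v : V} {g : AU V} (hg : g ∈ G) (hgv : g.1 v = v)

include hgv in
theorem inv_fix : (g⁻¹).1 v = v := by
  apply au_injective g
  rw [au_apply_inv, hgv]

include hgv in
theorem conj_fix {a : AU V} (ha : a.1 v = v) : (g * a * g⁻¹).1 v = v := by
  rw [au_mul_apply, au_mul_apply, inv_fix hgv, ha, hgv]

include hg hgv in
theorem conj_Q {x : AU V} (hx : x ∈ D.Q v) : g * x * g⁻¹ ∈ D.Q v := by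
  refine ⟨D.GE g hg x hx.1, fun a ha hav => ?_⟩
  have h1 := hx.2 (g⁻¹ * a * g) (by
    have := D.GE g⁻¹ (G.inv_mem hg) a ha
    rwa [inv_inv] at this) (by
    have := conj_fix (g := g⁻¹) (inv_fix hgv) hav
    rwa [inv_inv] at this)
  calc g * x * g⁻¹ * a = g * (x * (g⁻¹ * a * g)) * g⁻¹ := by group
    _ = g * ((g⁻¹ * a * g) * x) * g⁻¹ := by rw [h1]
    _ = _ := by group

include hg hgv in
theorem g_V0 {u : V} (hu : u ∈ D.V0 v) : g.1 u ∈ D.V0 v := by
  intro a ha hav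
  have h1 := hu (g⁻¹ * a * g) (by
    have := D.GE g⁻¹ (G.inv_mem hg) a ha
    rwa [inv_inv] at this) (by
    have := conj_fix (g := g⁻¹) (inv_fix hgv) hav
    rwa [inv_inv] at this)
  have h2 : a * g = g * (g⁻¹ * a * g) := by group
  rw [← au_mul_apply, h2, au_mul_apply, h1]

variable {X : Type u} [AddCommGroup X] (S : D.Sec v X)

include hg hgv in
theorem exists_T : ∃ T : X →+ X, Function.Injective T ∧
    ∀ x ∈ D.E, S.pr (g * x * g⁻¹) = T (S.pr x) := by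
  have key : ∀ x ∈ D.E, ∀ y ∈ D.E, S.pr x = S.pr y →
      S.pr (g * x * g⁻¹) = S.pr (g * y * g⁻¹) := by
    intro x hx y hy h
    rw [S.eq_iff hx hy] at h
    rw [S.eq_iff (D.GE g hg x hx) (D.GE g hg y hy)]
    have h1 := conj_Q hg hgv h
    have h2 : (g * x * g⁻¹)⁻¹ * (g * y * g⁻¹) = g * (x⁻¹ * y) * g⁻¹ := by group
    rw [h2]; exact h1
  have hT : ∀ x ∈ D.E, S.pr (g * x * g⁻¹) = S.pr (g * S.f (S.pr x) * g⁻¹) := fun x hx =>
    key x hx _ (S.fE _) (S.pf _).symm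
  let T : X →+ X := AddMonoidHom.mk' (fun μ => S.pr (g * S.f μ * g⁻¹)) (by
    intro μ ν
    have h1 : μ + ν = S.pr (S.f μ * S.f ν) := by
      rw [S.pr_mul _ (S.fE μ) _ (S.fE ν), S.pf, S.pf]
    have h2 := hT _ (D.E.mul_mem (S.fE μ) (S.fE ν))
    rw [← h1] at h2
    rw [← h2, ← S.pr_mul _ (D.GE g hg _ (S.fE μ)) _ (D.GE g hg _ (S.fE ν))]
    congr 1
    group)
  refine ⟨T, ?_, hT⟩
  rw [injective_iff_map_eq_zero]
  intro μ hμ
  have h1 : S.pr (g * S.f μ * g⁻¹) = 0 := hμ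
  rw [S.pr_zero _ (D.GE g hg _ (S.fE μ))] at h1
  have h2 := conj_Q (G.inv_mem hg) (inv_fix hgv) h1
  have h3 : g⁻¹ * (g * S.f μ * g⁻¹) * g⁻¹⁻¹ = S.f μ := by group
  rw [h3, ← S.pr_zero _ (S.fE μ), S.pf] at h2
  exact h2

include hg hgv in
theorem comp [Finite X] {T : X →+ X} (hTi : Function.Injective T)
    (hT : ∀ x ∈ D.E, S.pr (g * x * g⁻¹) = T (S.pr x)) {s : Finset X} (hs : ∀ μ, μ ∈ s)
    {u : X → V} (hu : ∀ μ, u μ ∈ D.V0 v)
    (h : g.1 (∑ μ ∈ s, (S.f μ).1 (u μ)) = ∑ μ ∈ s, (S.f μ).1 (u μ)) (μ : X) :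
    (S.f (T μ)).1 (u (T μ)) = g.1 ((S.f μ).1 (u μ)) := by
  classical
  have hbij : Function.Bijective T := Finite.injective_iff_bijective.mp hTi
  let E := Equiv.ofBijective T hbij
  have hE : ∀ μ, E μ = T μ := fun μ => rfl
  let y : X → V := fun μ => ((S.f (T μ))⁻¹ * (g * S.f μ * g⁻¹)).1 (g.1 (u μ))
  have hy : ∀ μ, (S.f (T μ)).1 (y μ) = g.1 ((S.f μ).1 (u μ)) := by
    intro μ
    rw [← au_mul_apply, mul_inv_cancel_left, ← au_mul_apply, inv_mul_cancel_right, au_mul_apply]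
  have hyV : ∀ μ, y μ ∈ D.V0 v := by
    intro μ
    apply D.Q_V0 _ (g_V0 hg hgv (hu μ))
    rw [← S.eq_iff (S.fE _) (D.GE g hg _ (S.fE μ)), S.pf, hT _ (S.fE μ), S.pf]
  have h1 : ∑ ν ∈ s, (S.f ν).1 (u ν - y (E.symm ν)) = 0 := by
    have h2 : ∑ ν ∈ s, (S.f ν).1 (u ν - y (E.symm ν)) =
        ∑ ν ∈ s, (S.f ν).1 (u ν) - ∑ ν ∈ s, (S.f ν).1 (y (E.symm ν)) := by
      rw [← Finset.sum_sub_distrib]
      exact Finset.sum_congr rfl fun ν _ => map_sub _ _ _
    have h3 : ∑ ν ∈ s, (S.f ν).1 (y (E.symm ν)) = ∑ μ ∈ s, g.1 ((S.f μ).1 (u μ)) := by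
      refine Finset.sum_nbij' (fun ν => E.symm ν) (fun μ => E μ) (fun _ _ => hs _)
        (fun _ _ => hs _) (fun ν _ => E.apply_symm_apply ν) (fun ν _ => E.symm_apply_apply ν) ?_
      intro ν _
      rw [← hy, ← hE, E.apply_symm_apply]
    rw [h2, h3, ← map_sum, h, sub_self]
  have h2 := S.indep (s := s) (u := fun ν => u ν - y (E.symm ν))
    (fun ν _ => (D.V0 v).sub_mem (hu ν) (hyV _)) h1 (T μ) (hs _)
  have h3 : u (T μ) = y μ := by
    have h4 := sub_eq_zero.mp h2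
    rw [← hE, E.symm_apply_apply] at h4
    rw [← hE]; exact h4
  rw [h3]; exact hy μ

include hg hgv in
/-- an element of `G` fixing `E v` pointwise is trivial -/
theorem fix_imp_one (hv : v ≠ 0) (h : ∀ x ∈ D.E, g.1 (x.1 v) = x.1 v) : g = 1 := by
  have h1 : ∀ x ∈ D.E, g * x * g⁻¹ = x := by
    intro x hx
    obtain ⟨a, ha⟩ : ∃ a, a = x⁻¹ * (g * x * g⁻¹) := ⟨_, rfl⟩
    have haE : a ∈ D.E := by rw [ha]; exact D.E.mul_mem (D.E.inv_mem hx) (D.GE g hg x hx)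
    have h2 : ∀ y ∈ D.E, a.1 (y.1 v) = y.1 v := by
      intro y hy
      have h3 : (g⁻¹).1 (y.1 v) = y.1 v := by
        apply au_injective g
        rw [au_apply_inv, h y hy]
      rw [ha, au_mul_apply, au_mul_apply, h3, au_mul_apply, ← au_mul_apply x y, h _ (D.E.mul_mem hx hy),
        au_mul_apply x y, au_inv_apply]
    have h3 : ∀ y ∈ D.E, a * y = y * a := by
      intro y hy
      have h4 := D.comm a haE y hy
      have h5 : (a * y * a⁻¹ * y⁻¹).1 v = (1 : AddMonoid.End V) v := by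
        have h7 : (a⁻¹).1 ((y⁻¹).1 v) = (y⁻¹).1 v := by
          apply au_injective a
          rw [au_apply_inv, h2 _ (D.E.inv_mem hy)]
        rw [au_mul_apply, au_mul_apply, h7, au_mul_apply, au_apply_inv]
        have := h2 1 D.E.one_mem
        exact this
      have h6 : a * y * a⁻¹ * y⁻¹ = 1 := Units.ext (D.isF.eq_of_apply h4 D.K.one_mem hv h5)
      calc a * y = (a * y * a⁻¹ * y⁻¹) * (y * a) := by group
        _ = y * a := by rw [h6, one_mul]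
    have h4 : a = 1 := by
      apply Units.ext
      exact D.isF.eq_of_apply (D.center a haE h3) D.K.one_mem hv (h2 1 D.E.one_mem)
    calc g * x * g⁻¹ = x * (x⁻¹ * (g * x * g⁻¹)) := by group
      _ = x := by rw [← ha, h4, mul_one]
  apply Units.ext
  refine D.isF.eq_of_apply (D.cent g hg fun y hy => ?_) D.K.one_mem hv hgv
  have h2 := h1 y hy
  calc g * y = (g * y * g⁻¹) * g := by group
    _ = y * g := by rw [h2]

end Act

end Dat

end Cfsg.Agent.H578
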