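import Cfsg.Agent.H578.W0
import Cfsg.Agent.H578.Comb4

/-!
# `E / K` a 2-group, large field (helper578)
-/

set_option autoImplicit false
set_option linter.unusedSectionVars false

universe u

namespace Cfsg.Agent.H578

variable {V : Type u} [AddCommGroup V]

namespace Dat

variable {G : Subgroup (AU V)} {D : Dat G} [Nontrivial V] [Finite V]

theorem exists_sec_norm (hE2 : ∀ x ∈ D.E, (x ^ 2).1 ∈ D.K) (v : V) :
    ∃ (X : Type u) (_ : AddCommGroup X) (_ : Finite X), (∀ x : X, x + x = 0) ∧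
      ∃ S : D.Sec v X, ∀ μ, S.f μ * S.f μ = 1 ∨ S.f μ * S.f μ = -1 := by
  classical
  obtain ⟨X, i1, i2, ⟨S⟩⟩ := D.exists_sec v
  refine ⟨X, i1, i2, fun μ => ?_, ?_⟩
  · rw [← S.pf μ, ← S.pr_mul _ (S.fE μ) _ (S.fE μ), S.pr_zero _ (D.E.mul_mem (S.fE μ) (S.fE μ)),
      ← pow_two]
    exact D.K_le_Q (hE2 _ (S.fE μ))
  · have h1 : ∀ μ, ∃ k : AU V, k.1 ∈ D.K ∧ ((k * S.f μ) * (k * S.f μ) = 1 ∨
        (k * S.f μ) * (k * S.f μ) = -1) := by
      intro μ
      obtain ⟨k, hk, h⟩ := D.star _ (S.fE μ) 2 Nat.prime_two (hE2 _ (S.fE μ))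
      refine ⟨k, hk, ?_⟩
      rcases h with h | ⟨-, h⟩
      · left; rw [← pow_two]; exact h
      · right; rw [← pow_two]; exact h
    choose k hk hkk using h1
    refine ⟨⟨S.pr, fun μ => if μ = 0 then 1 else k μ * S.f μ, S.pr_mul, S.pr_zero, ?_, ?_,
      if_pos rfl⟩, ?_⟩
    · intro μ
      split_ifs
      · exact D.E.one_mem
      · exact D.E.mul_mem (D.KE _ (hk μ)) (S.fE μ)
    · intro μ
      split_ifs with h0
      · rw [h0]; exact S.pr_one
      · rw [S.pr_mul _ (D.KE _ (hk μ)) _ (S.fE μ), S.pf,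
          (S.pr_zero _ (D.KE _ (hk μ))).mpr (D.K_le_Q (hk μ)), zero_add]
    · intro μ
      change (if μ = 0 then 1 else k μ * S.f μ) * (if μ = 0 then 1 else k μ * S.f μ) = 1 ∨
        (if μ = 0 then 1 else k μ * S.f μ) * (if μ = 0 then 1 else k μ * S.f μ) = -1
      split_ifs
      · left; exact one_mul 1
      · exact hkk μ

/-- commutators are `±1` -/
theorem cm_pm (hE2 : ∀ x ∈ D.E, (x ^ 2).1 ∈ D.K) {x y : AU V} (hx : x ∈ D.E) (hy : y ∈ D.E) :
    cm x y = 1 ∨ cm x y = -1 := by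
  have h1 : cm x y * cm x y = 1 := by
    have h2 := cm_mul_left hx hx hy
    rw [← h2, ← pow_two]
    exact cm_K_left (hE2 x hx) hy
  rcases D.isF.sq_eq_one (cm_K hx hy) (congrArg Units.val h1) with h | h
  · left; exact Units.ext h
  · right; exact Units.ext h

theorem mul_pm (hE2 : ∀ x ∈ D.E, (x ^ 2).1 ∈ D.K) {x y : AU V} (hx : x ∈ D.E) (hy : y ∈ D.E) :
    x * y = y * x ∨ x * y = -(y * x) := by
  rcases cm_pm hE2 hx hy with h | h
  · left; rw [cm_mul x y, h, one_mul]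
  · right; rw [cm_mul x y, h, neg_one_mul]

/-- squares -/
theorem sq_pm (hE2 : ∀ x ∈ D.E, (x ^ 2).1 ∈ D.K) {x y : AU V} (hx : x ∈ D.E) (hy : y ∈ D.E)
    (h1 : x * x = 1 ∨ x * x = -1) (h2 : (x * y) * (x * y) = 1 ∨ (x * y) * (x * y) = -1) :
    y * y = 1 ∨ y * y = -1 := by
  have h3 : (x * y) * (x * y) = (x * x) * (y * y) ∨ (x * y) * (x * y) = -((x * x) * (y * y)) := by
    rcases mul_pm hE2 hx hy with h | h
    · left
      calc (x * y) * (x * y) = x * (y * x) * y := by group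
        _ = x * (x * y) * y := by rw [h]
        _ = _ := by group
    · right
      have h' : y * x = -(x * y) := by rw [h, neg_neg]
      calc (x * y) * (x * y) = x * (y * x) * y := by group
        _ = x * (-(x * y)) * y := by rw [h']
        _ = -(x * (x * y) * y) := by rw [mul_neg, neg_mul]
        _ = _ := by simp only [mul_assoc]
  have hn : ∀ a b : AU V, -a = -b → a = b := fun a b h => neg_injective h
  rcases h1 with h1 | h1 <;> rcases h2 with h2 | h2 <;> rcases h3 with h3 | h3 <;>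
    rw [h1, h2] at h3
  · left; rw [one_mul] at h3; exact h3.symm
  · right; rw [one_mul] at h3; apply hn; rw [neg_neg]; exact h3.symm
  · right; rw [one_mul] at h3; exact h3.symm
  · left; rw [one_mul] at h3; exact (hn _ _ h3).symm
  · right; rw [neg_one_mul] at h3; apply hn; rw [neg_neg]; exact h3.symm
  · left; rw [neg_one_mul, neg_neg] at h3; exact h3.symm
  · left; rw [neg_one_mul] at h3; exact (hn _ _ h3).symm
  · right; rw [neg_one_mul, neg_neg] at h3; exact h3.symm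

/-- **Large fields.** -/
theorem prim2_big (hE2 : ∀ x ∈ D.E, (x ^ 2).1 ∈ D.K)
    (hcop : (Nat.card G).Coprime (Nat.card V)) {θ : AU V} (hθ : θ.1 ∈ D.K)
    (hgen : ∀ k : AU V, k.1 ∈ D.K → ∃ n : ℕ, k = θ ^ n) (h8 : θ ^ 8 ≠ 1) :
    HasBase (Fin 2) G := by
  classical
  obtain ⟨v, i, hF⟩ := D.exists_frame
  obtain ⟨w₀, hw₀V, hw₀⟩ := w0_fix hF hcop hθ hgen
  obtain ⟨X, _, _, hX2, S, hSf⟩ := exists_sec_norm hE2 v
  obtain ⟨κ, hrig, hquad, hgenX⟩ := Comb.c3.{u, u} X hX2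
  have : Fintype X := Fintype.ofFinite X
  have hv := hF.ne
  have hvV := D.self_mem_V0 v
  obtain ⟨c, hc⟩ : ∃ c : Fin 4 → AddMonoid.End V, c = ![1, θ.1, (θ ^ 2).1, 0] := ⟨_, rfl⟩
  have hθ2 : (θ ^ 2).1 ∈ D.K := D.isF.units.pow_mem (x := θ) hθ 2
  have hcK : ∀ j, c j ∈ D.K := by
    intro j; rw [hc]; fin_cases j
    · exact D.K.one_mem
    · exact hθ
    · exact hθ2
    · exact D.K.zero_mem
  let u : X → V := fun μ => if μ = 0 then w₀ else c (κ μ) v
  have hu : ∀ μ, u μ ∈ D.V0 v := by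
    intro μ
    change (if μ = 0 then w₀ else c (κ μ) v) ∈ D.V0 v
    split_ifs
    · exact hw₀V
    · exact D.K_V0 (hcK _) hvV
  refine ⟨![v, ∑ μ, (S.f μ).1 (u μ)], fun g hg h => ?_⟩
  have hgv : g.1 v = v := h 0
  have hg1 : g.1 (∑ μ, (S.f μ).1 (u μ)) = ∑ μ, (S.f μ).1 (u μ) := h 1
  obtain ⟨T, hTi, hT⟩ := exists_T hg hgv S
  have k1 := comp hg hgv S hTi hT (s := Finset.univ) (fun μ => Finset.mem_univ μ) hu hg1
  have hgw₀ : g.1 w₀ = w₀ := by
    have := k1 0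
    rw [map_zero, S.f0] at this
    have e : u 0 = w₀ := if_pos rfl
    rw [e] at this
    exact this.symm
  obtain ⟨hgK, hgQ⟩ := hw₀ g hg hgv hgw₀
  -- the elements `x μ`
  let x : X → AU V := fun μ => (S.f (T μ))⁻¹ * (g * S.f μ * g⁻¹)
  have hxQ : ∀ μ, x μ ∈ D.Q v := by
    intro μ
    rw [← S.eq_iff (S.fE _) (D.GE g hg _ (S.fE μ)), S.pf, hT _ (S.fE μ), S.pf]
  have hgf : ∀ μ, ∀ y : V, g.1 ((S.f μ).1 y) = (S.f (T μ)).1 ((x μ).1 (g.1 y)) := by
    intro μ y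
    have e1 : g * S.f μ = S.f (T μ) * x μ * g := by
      change g * S.f μ = S.f (T μ) * ((S.f (T μ))⁻¹ * (g * S.f μ * g⁻¹)) * g
      group
    rw [← au_mul_apply, e1, au_mul_apply, au_mul_apply]
  have hxx : ∀ μ, x μ * x μ = 1 ∨ x μ * x μ = -1 := by
    intro μ
    apply sq_pm hE2 (S.fE (T μ)) (hxQ μ).1 (hSf _)
    have e1 : S.f (T μ) * x μ = g * S.f μ * g⁻¹ := by
      change S.f (T μ) * ((S.f (T μ))⁻¹ * (g * S.f μ * g⁻¹)) = _
      group
    have e2 : (g * S.f μ * g⁻¹) * (g * S.f μ * g⁻¹) = g * (S.f μ * S.f μ) * g⁻¹ := by group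
    rw [e1, e2]
    rcases hSf μ with h | h
    · left; rw [h]; group
    · right; rw [h, mul_neg, mul_one, neg_mul, mul_inv_cancel]
  -- the scalars
  have hsc : ∀ μ, ∀ ρ : AU V, ρ.1 ∈ D.K → (x μ).1 v = ρ.1 v → ρ ^ 4 = 1 := by
    intro μ ρ hρ e
    have e1 : (x μ * x μ).1 v = (ρ * ρ).1 v := by
      rw [au_mul_apply, e, D.EK' (hxQ μ).1 hρ, e, au_mul_apply]
    have hρρ : (ρ * ρ).1 ∈ D.K := D.K.mul_mem hρ hρ
    rcases hxx μ with h1 | h1
    · rw [h1] at e1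
      have : ρ * ρ = 1 := Units.ext (D.isF.eq_of_apply hρρ D.K.one_mem hv e1.symm)
      calc ρ ^ 4 = (ρ * ρ) * (ρ * ρ) := by rw [show 4 = 2 + 2 from rfl, pow_add, pow_two]
        _ = 1 := by rw [this, one_mul]
    · rw [h1] at e1
      have : ρ * ρ = -1 := Units.ext (D.isF.eq_of_apply hρρ (D.K.neg_mem D.K.one_mem) hv e1.symm)
      calc ρ ^ 4 = (ρ * ρ) * (ρ * ρ) := by rw [show 4 = 2 + 2 from rfl, pow_add, pow_two]
        _ = 1 := by rw [this, neg_mul_neg, one_mul]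
  have hxv0 : ∀ μ, (x μ).1 v ≠ 0 := fun μ h0 => hv (au_injective (x μ) (by rw [h0, map_zero]))
  have hcol : ∀ μ, μ ≠ 0 → κ (T μ) = κ μ ∧ (κ μ ≠ 3 → (x μ).1 v = v) := by
    intro μ hμ
    have hTμ : T μ ≠ 0 := fun h0 => hμ (hTi (by rw [h0, map_zero]))
    have e1 := k1 μ
    have f1 : u μ = c (κ μ) v := if_neg hμ
    have f3 : u (T μ) = c (κ (T μ)) v := if_neg hTμ
    rw [f1, f3, hgf, hgK _ (hcK _), hgv, D.EK' (hxQ μ).1 (hcK _)] at e1
    have e3 : c (κ (T μ)) v = c (κ μ) ((x μ).1 v) := au_injective _ e1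
    have c0 : c 0 = 1 := by rw [hc]; rfl
    have c1 : c 1 = θ.1 := by rw [hc]; rfl
    have c2 : c 2 = (θ ^ 2).1 := by rw [hc]; rfl
    have c3 : c 3 = 0 := by rw [hc]; rfl
    have hz : ∀ y : V, (0 : AddMonoid.End V) y = 0 := fun _ => rfl
    have hθv : ∀ {a : AU V} {y : V}, y ≠ 0 → a.1 y ≠ 0 := fun {a y} hy h0 =>
      hy (au_injective a (by rw [h0, map_zero]))
    have hcne : ∀ j, j ≠ 3 → ∀ y : V, y ≠ 0 → c j y ≠ 0 := by
      intro j hj y hy
      have : ∀ j : Fin 4, j = 0 ∨ j = 1 ∨ j = 2 ∨ j = 3 := by decide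
      rcases this j with rfl | rfl | rfl | rfl
      · rw [c0]; exact hy
      · rw [c1]; exact hθv hy
      · rw [c2]; exact hθv hy
      · exact absurd rfl hj
    have h4 : θ ^ 4 ≠ 1 := fun h => h8 (by rw [show 8 = 4 * 2 by norm_num, pow_mul, h, one_pow])
    have hinv : ∀ a : AU V, a.1 ∈ D.K → (x μ).1 v = a.1 v → a ^ 4 = 1 := hsc μ
    have hinv' : ∀ a : AU V, a.1 ∈ D.K → v = a.1 ((x μ).1 v) → a ^ 4 = 1 := by
      intro a ha e
      have hai : (a⁻¹).1 ∈ D.K := D.isF.units.inv_mem (x := a) ha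
      have := hsc μ a⁻¹ hai (by
        apply au_injective a
        rw [au_apply_inv]; exact e.symm)
      rwa [inv_pow, inv_eq_one] at this
    by_cases h3 : κ μ = 3
    · refine ⟨?_, fun h => absurd h3 h⟩
      rw [h3, c3, hz] at e3
      by_contra h4
      exact hcne _ (by rw [h3] at h4; exact h4) v hv e3
    by_cases h3' : κ (T μ) = 3
    · rw [h3', c3, hz] at e3
      exact absurd e3.symm (hcne _ h3 _ (hxv0 μ))
    have hj : ∀ j : Fin 4, j ≠ 3 → j = 0 ∨ j = 1 ∨ j = 2 := by decide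
    have hp : ∀ y : V, (θ ^ 2).1 y = θ.1 (θ.1 y) := fun y => by rw [pow_two, au_mul_apply]
    rcases hj _ h3 with a | a | a <;> rcases hj _ h3' with b | b | b <;>
      rw [a, b] at e3 ⊢ <;> simp only [c0, c1, c2] at e3
    · exact ⟨rfl, fun _ => e3.symm⟩
    · exact absurd (hinv θ hθ e3.symm) h4
    · exact absurd (by have := hinv (θ ^ 2) hθ2 e3.symm; rwa [← pow_mul] at this) h8
    · exact absurd (hinv' θ hθ e3) h4
    · exact ⟨rfl, fun _ => (au_injective θ e3).symm⟩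
    · rw [hp] at e3
      exact absurd (hinv θ hθ (au_injective θ e3).symm) h4
    · exact absurd (by have := hinv' (θ ^ 2) hθ2 e3; rwa [← pow_mul] at this) h8
    · rw [hp] at e3
      exact absurd (hinv' θ hθ (au_injective θ e3)) h4
    · exact ⟨rfl, fun _ => (au_injective (θ ^ 2) e3).symm⟩
  have hTid : ∀ μ, T μ = μ := hrig T hTi fun μ hμ => (hcol μ hμ).1
  have hxdf : ∀ μ, x μ = df g (S.f μ) := by
    intro μ
    change (S.f (T μ))⁻¹ * (g * S.f μ * g⁻¹) = (S.f μ)⁻¹ * (g * S.f μ * g⁻¹)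
    rw [hTid]
  have hdfQ : ∀ y ∈ D.E, df g y ∈ D.Q v := by
    intro y hy
    change y⁻¹ * (g * y * g⁻¹) ∈ D.Q v
    rw [← S.eq_iff hy (D.GE g hg y hy), hT y hy, hTid]
  have hdfr : ∀ r ∈ D.Q v, (df g r).1 v = v := by
    intro r hr
    apply au_injective r
    have e1 := df_apply g r v
    rw [hgv, hgQ r hr] at e1
    exact e1.symm
  -- `df g y` acts as a scalar
  have hmul : ∀ y ∈ D.E, ∀ z ∈ D.E, df g y ∈ D.B v → df g z ∈ D.B v → df g (y * z) ∈ D.B v := by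
    intro y hy z hz h2 h3
    have e : df g (y * z) = cm z⁻¹ (df g y) * (df g y * df g z) := by unfold df cm; group
    rw [e]
    exact (D.B v).mul_mem (D.K_le_B (cm_K (D.E.inv_mem hz) h2.1)) ((D.B v).mul_mem h2 h3)
  have hinvB : ∀ y ∈ D.E, df g y ∈ D.B v → df g y⁻¹ ∈ D.B v := by
    intro y hy h2
    have e : df g y⁻¹ = cm y (df g y)⁻¹ * (df g y)⁻¹ := by unfold df cm; group
    rw [e]
    exact (D.B v).mul_mem (D.K_le_B (cm_K hy (D.E.inv_mem h2.1))) ((D.B v).inv_mem h2)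
  let X0 : AddSubgroup X :=
    { carrier := {μ | ∃ y ∈ D.E, S.pr y = μ ∧ df g y ∈ D.B v}
      zero_mem' := ⟨1, D.E.one_mem, S.pr_one, by
        have : df g 1 = 1 := by unfold df; group
        rw [this]; exact (D.B v).one_mem⟩
      add_mem' := by
        rintro μ ν ⟨y, hy, rfl, h2⟩ ⟨z, hz, rfl, h3⟩
        exact ⟨y * z, D.E.mul_mem hy hz, S.pr_mul y hy z hz, hmul y hy z hz h2 h3⟩
      neg_mem' := by
        rintro μ ⟨y, hy, rfl, h2⟩
        exact ⟨y⁻¹, D.E.inv_mem hy, S.pr_inv hy, hinvB y hy h2⟩ }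
  have htop : X0 = ⊤ := by
    apply hgenX X0
    intro μ hμ h3
    refine ⟨S.f μ, S.fE μ, S.pf μ, ?_⟩
    rw [← hxdf]
    exact ⟨(hxQ μ).1, 1, D.K.one_mem, (hcol μ hμ).2 h3⟩
  have hdfB : ∀ y ∈ D.E, df g y ∈ D.B v := by
    intro y hy
    obtain ⟨y', hy', h1, h2⟩ : S.pr y ∈ X0 := by rw [htop]; trivial
    have h3 : y'⁻¹ * y ∈ D.Q v := by
      rw [← S.eq_iff hy' hy, h1]
    have h4 : y = y' * (y'⁻¹ * y) := by group
    rw [h4]
    exact hmul y' hy' _ h3.1 h2 ⟨(hdfQ _ h3.1).1, 1, D.K.one_mem, hdfr _ h3⟩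
  have hS : D.Sit2 v g := ⟨hg, hgv, hv, hgK, hdfB, hgQ⟩
  apply quad_end hS S (fun μ => κ μ ≠ 3) (fun M _ ζ B a1 a2 a3 a4 a5 => hquad M ζ B a1 a2 a3 a4 a5)
  intro μ hμ h3
  rw [← hxdf]
  exact (hcol μ hμ).2 h3

end Dat

end Cfsg.Agent.H578
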