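import Cfsg.Agent.H578.Quad2
import Cfsg.Agent.H578.Three

/-!
# The vector attached to the frame (helper578)
-/

set_option autoImplicit false
set_option linter.unusedSectionVars false

universe u

namespace Cfsg.Agent.H578

variable {V : Type u} [AddCommGroup V]

namespace Dat

variable {G : Subgroup (AU V)} {D : Dat G} [Nontrivial V] [Finite V]

/-- no automorphism negates an element if `-1` is not a square -/
theorem neg_of_aut {θ : AU V} (hθ : θ.1 ∈ D.K)
    (hgen : ∀ k : AU V, k.1 ∈ D.K → ∃ n : ℕ, k = θ ^ n) (hneg : ∀ a ∈ D.K, a * a ≠ -1)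
    {g δ : AU V} (hg : g ∈ G) (hδ : δ.1 ∈ D.K) (h : g * δ * g⁻¹ = -δ) : False := by
  obtain ⟨s, hs⟩ := hgen δ hδ
  have hθ'K : (g * θ * g⁻¹).1 ∈ D.K := D.GK g hg _ hθ
  obtain ⟨m, hm⟩ := hgen _ hθ'K
  have hpow : ∀ k : AU V, k.1 ∈ D.K → g * k * g⁻¹ = k ^ m := by
    intro k hk
    obtain ⟨n, rfl⟩ := hgen k hk
    rw [← conj_pow, hm, ← pow_mul, ← pow_mul, mul_comm]
  have hne := neg_one_ne hneg
  rcases Nat.even_or_odd m with ⟨t, ht⟩ | ⟨t, ht⟩
  · -- `θ` has odd order
    have hθ''K : (g⁻¹ * θ * g).1 ∈ D.K := by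
      have := D.GK g⁻¹ (G.inv_mem hg) _ hθ
      have e : cj g⁻¹ θ.1 = (g⁻¹ * θ * g).1 := by
        change (g⁻¹).1 * θ.1 * ((g⁻¹)⁻¹).1 = _
        rw [inv_inv]; rfl
      rwa [e] at this
    obtain ⟨s', hs'⟩ := hgen _ hθ''K
    have h1 : θ = θ ^ (2 * (t * s')) := by
      have h2 := hpow _ hθ''K
      have h3 : g * (g⁻¹ * θ * g) * g⁻¹ = θ := by group
      rw [h3, hs', ← pow_mul] at h2
      conv_lhs => rw [h2]
      congr 1
      rw [ht]; ring
    obtain ⟨a, ha⟩ := hgen (-1) (D.K.neg_mem D.K.one_mem)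
    have h2 : (-1 : AU V) = (θ ^ (t * s' * a)) ^ 2 := by
      rw [ha, ← pow_mul]
      conv_lhs => rw [h1]
      rw [← pow_mul]
      congr 1
      ring
    have hK := D.isF.units.pow_mem (x := θ) hθ (t * s' * a)
    apply hneg _ hK
    rw [pow_two] at h2
    exact (congrArg Units.val h2).symm
  · have h1 := hpow δ hδ
    rw [h, ht, pow_succ] at h1
    have h2 : (δ ^ t) ^ 2 = -1 := by
      rw [← pow_mul, mul_comm]
      apply mul_right_cancel (b := δ)
      rw [← h1, neg_one_mul]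
    have hK := D.isF.units.pow_mem (x := δ) hδ t
    apply hneg _ hK
    rw [pow_two] at h2
    exact congrArg Units.val h2

/-- **The vector `θ v + i v`.** -/
theorem w0_fix {v : V} {i : AU V} (hF : D.IsFrame v i) (hcop : (Nat.card G).Coprime (Nat.card V))
    {θ : AU V} (hθ : θ.1 ∈ D.K) (hgen : ∀ k : AU V, k.1 ∈ D.K → ∃ n : ℕ, k = θ ^ n) :
    ∃ w₀ ∈ D.V0 v, ∀ g ∈ G, g.1 v = v → g.1 w₀ = w₀ →
      (∀ a ∈ D.K, ∀ x, g.1 (a x) = a (g.1 x)) ∧ ∀ x ∈ D.Q v, g.1 (x.1 v) = x.1 v := by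
  have hspan : ∀ g ∈ G, g.1 v = v → g.1 (θ.1 v) = θ.1 v → g.1 (i.1 v) = i.1 v →
      (∀ a ∈ D.K, ∀ x, g.1 (a x) = a (g.1 x)) ∧ ∀ x ∈ D.Q v, g.1 (x.1 v) = x.1 v := by
    intro g hg hgv hgθ hgi
    have hgK := comm_K_of_gen hF.ne hg hgv hθ hgen hgθ
    refine ⟨hgK, fun x hx => ?_⟩
    obtain ⟨k₁, hk₁, k₂, hk₂, e⟩ := hF.span x hx
    rw [e, map_add, hgK _ hk₁, hgK _ hk₂, hgv, hgi]
  rcases hF.dich with h1 | ⟨hii, hneg⟩
  · refine ⟨θ.1 v, D.K_V0 hθ (D.self_mem_V0 v), fun g hg hgv hgw => ?_⟩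
    apply hspan g hg hgv hgw
    rw [h1]
    exact hgv
  · refine ⟨θ.1 v + i.1 v, (D.V0 v).add_mem (D.K_V0 hθ (D.self_mem_V0 v))
      (D.Q_V0 hF.iQ (D.self_mem_V0 v)), fun g hg hgv hgw => ?_⟩
    have hiE := hF.iQ.1
    obtain ⟨x, hx⟩ : ∃ x, x = g * i * g⁻¹ := ⟨_, rfl⟩
    have hxQ : x ∈ D.Q v := by rw [hx]; exact conj_Q hg hgv hF.iQ
    have hxx : x * x = -1 := by
      rw [hx]
      calc g * i * g⁻¹ * (g * i * g⁻¹) = g * (i * i) * g⁻¹ := by group
        _ = -1 := by rw [hii]; rw [mul_neg, mul_one, neg_mul, mul_inv_cancel]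
    have hgi : g.1 (i.1 v) = x.1 v := by
      rw [hx, au_mul_apply, au_mul_apply, inv_fix hgv]
    obtain ⟨θ', hθ'⟩ : ∃ θ', θ' = g * θ * g⁻¹ := ⟨_, rfl⟩
    have hθ'K : θ'.1 ∈ D.K := by rw [hθ']; exact D.GK g hg _ hθ
    have hgθ : g.1 (θ.1 v) = θ'.1 v := by
      rw [hθ', au_mul_apply, au_mul_apply, inv_fix hgv]
    obtain ⟨d, hd⟩ : ∃ d : AddMonoid.End V, d = θ.1 - θ'.1 := ⟨_, rfl⟩
    have hdK : d ∈ D.K := by rw [hd]; exact D.K.sub_mem hθ hθ'K
    have hxv : x.1 v = i.1 v + d v := by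
      rw [map_add, hgθ, hgi] at hgw
      have : x.1 v = θ.1 v + i.1 v - θ'.1 v := by rw [← hgw]; abel
      rw [this, hd]
      change _ = i.1 v + (θ.1 v - θ'.1 v)
      abel
    have hiv : i.1 (i.1 v) = -v := by rw [← au_mul_apply, hii]; rfl
    have hxxv : x.1 (x.1 v) = -v := by rw [← au_mul_apply, hxx]; rfl
    -- it suffices that `d = 0`
    suffices hd0 : d = 0 by
      have h1 : g.1 (θ.1 v) = θ.1 v := by
        rw [hgθ]
        rw [hd0] at hd
        rw [sub_eq_zero.mp hd.symm]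
      have h2 : g.1 (i.1 v) = i.1 v := by
        rw [hgi, hxv, hd0]
        exact add_zero _
      exact hspan g hg hgv h1 h2
    by_contra hd0
    obtain ⟨δ, hδ⟩ := D.isF.exists_unit hdK hd0
    have hδd : δ.1 = d := hδ
    have hδK : δ.1 ∈ D.K := by rw [hδd]; exact hdK
    rw [← hδd] at hxv
    have e0 : x.1 (i.1 v) + δ.1 (i.1 v) + δ.1 (δ.1 v) = -v := by
      have h1 := hxxv
      rw [hxv, map_add, D.EK' hxQ.1 hδK, hxv, map_add] at h1
      rw [← h1]; abel
    rcases comm_or_anti hiE hxQ.1 hii with hc | hc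
    · have e1 : x.1 (i.1 v) = i.1 (i.1 v) + δ.1 (i.1 v) := by
        rw [← au_mul_apply x i, ← hc, au_mul_apply, hxv, map_add, D.EK' hiE hδK]
      rw [e1, hiv] at e0
      have e2 : δ.1 (i.1 v) + δ.1 (i.1 v) + δ.1 (δ.1 v) = 0 := by
        have : -v + δ.1 (i.1 v) + δ.1 (i.1 v) + δ.1 (δ.1 v) =
          -v + (δ.1 (i.1 v) + δ.1 (i.1 v) + δ.1 (δ.1 v)) := by abel
        rw [this] at e0
        exact add_eq_left.mp e0
      have e3 : i.1 v + i.1 v + δ.1 v = 0 := by
        apply au_injective δ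
        rw [map_add, map_add, e2, map_zero]
      -- `2` is invertible
      have h2K : (2 : AddMonoid.End V) ∈ D.K := by
        have : (2 : AddMonoid.End V) = 1 + 1 := by norm_num
        rw [this]; exact D.K.add_mem D.K.one_mem D.K.one_mem
      have h20 : (2 : AddMonoid.End V) ≠ 0 := by
        intro h0
        apply neg_one_ne hneg
        apply Units.ext
        change (1 : AddMonoid.End V) = -1
        have : (1 : AddMonoid.End V) + 1 = 0 := by rw [← h0]; norm_num
        exact eq_neg_of_add_eq_zero_left this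
      obtain ⟨t, ht⟩ := D.isF.exists_unit h2K h20
      have ht' : t.1 = 2 := ht
      have htK : t.1 ∈ D.K := by rw [ht']; exact h2K
      have htiK : (t⁻¹).1 ∈ D.K := D.isF.units.inv_mem (x := t) htK
      have e4 : t.1 (i.1 v) = -(δ.1 v) := by
        rw [ht']
        have : (2 : AddMonoid.End V) (i.1 v) = i.1 v + i.1 v := by
          have : (2 : AddMonoid.End V) = 1 + 1 := by norm_num
          rw [this]; rfl
        rw [this]
        exact eq_neg_of_add_eq_zero_left e3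
      obtain ⟨k, hk⟩ : ∃ k, k = -(t⁻¹ * δ) := ⟨_, rfl⟩
      have hkK : k.1 ∈ D.K := by rw [hk]; exact D.K.neg_mem (D.K.mul_mem htiK hδK)
      have e5 : i.1 v = k.1 v := by
        apply au_injective t
        rw [e4, hk, au_neg_apply, map_neg, ← au_mul_apply, mul_inv_cancel_left]
      rw [e5, D.EK' hiE hkK, e5] at hiv
      exact hneg k.1 hkK (D.isF.eq_of_apply (D.K.mul_mem hkK hkK) (D.K.neg_mem D.K.one_mem)
        hF.ne hiv)
    · have e1 : x.1 (i.1 v) = v - δ.1 (i.1 v) := by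
        have h1 : x * i = -(i * x) := by rw [hc, neg_neg]
        rw [← au_mul_apply x i, h1, au_neg_apply, au_mul_apply, hxv, map_add, hiv,
          D.EK' hiE hδK]
        abel
      rw [e1] at e0
      have e2 : δ.1 (δ.1 v) = -v - v := by
        rw [← e0]; abel
      have h20 : δ.1 * δ.1 = -1 - 1 := D.isF.eq_of_apply (D.K.mul_mem hδK hδK)
        (D.K.sub_mem (D.K.neg_mem D.K.one_mem) D.K.one_mem) hF.ne e2
      have hδ'K : (g * δ * g⁻¹).1 ∈ D.K := D.GK g hg _ hδK
      have h21 : (g * δ * g⁻¹).1 * (g * δ * g⁻¹).1 = δ.1 * δ.1 := by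
        have h3 : (g * δ * g⁻¹).1 * (g * δ * g⁻¹).1 = cj g (δ.1 * δ.1) := by
          rw [cj_mul]; rfl
        rw [h3, h20, sub_eq_add_neg, cj_add, cj_neg, cj_one']
      have h22 : ((g * δ * g⁻¹).1 - δ.1) * ((g * δ * g⁻¹).1 + δ.1) = 0 := by
        rw [sub_mul, mul_add, mul_add, h21, D.isF.comm _ hδ'K _ hδK]
        abel
      rcases D.isF.mul_eq_zero (D.K.sub_mem hδ'K hδK) h22 with h3 | h3
      · -- `g` centralises `δ`
        have h4 : cj g d = d := by
          have h5 : (g * δ * g⁻¹).1 = δ.1 := sub_eq_zero.mp h3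
          rw [← hδd]
          exact h5
        have h5 : cj g θ.1 = θ.1 - d := by
          have h6 : cj g θ.1 = θ'.1 := by rw [hθ']; rfl
          rw [h6, hd]; abel
        have h6 : ∀ n : ℕ, cj (g ^ n) θ.1 = θ.1 - n • d := by
          intro n
          induction n with
          | zero => rw [pow_zero, cj_one, zero_smul, sub_zero]
          | succ n ih =>
            have h7 : cj g (n • d) = n • cj g d := map_nsmul (cjHom g) n d
            rw [pow_succ', ← cj_cj, ih, sub_eq_add_neg, cj_add, cj_neg, h7, h4, h5, succ_nsmul]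
            abel
        have h7 : g ^ Nat.card G = 1 := by
          have : (⟨g, hg⟩ : G) ^ Nat.card G = 1 := pow_card_eq_one'
          exact congrArg Subtype.val this
        have h8 := h6 (Nat.card G)
        rw [h7, cj_one] at h8
        have h9 : Nat.card G • d = 0 := by
          have : θ.1 = θ.1 - Nat.card G • d → Nat.card G • d = 0 := fun h => by
            rw [eq_comm, sub_eq_self] at h; exact h
          exact this h8
        have h10 : Nat.card G • (d v) = 0 := by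
          exact DFunLike.congr_fun h9 v
        have h11 : Nat.card V • (d v) = 0 := card_nsmul_eq_zero'
        have h12 : addOrderOf (d v) = 1 := by
          apply Nat.eq_one_of_dvd_coprimes hcop
          · exact addOrderOf_dvd_of_nsmul_eq_zero h10
          · exact addOrderOf_dvd_of_nsmul_eq_zero h11
        have h13 : d v = 0 := AddMonoid.addOrderOf_eq_one_iff.mp h12
        exact hd0 (D.isF.eq_zero hdK hF.ne h13)
      · apply neg_of_aut hθ hgen hneg hg hδK
        apply Units.ext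
        exact eq_neg_of_add_eq_zero_left h3

end Dat

end Cfsg.Agent.H578
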